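import Groth.Agent.CSALib.Index
import Groth.Agent.S7747
import Mathlib.RingTheory.LittleWedderburn
import Mathlib.Data.Nat.ModEq
import Mathlib.Data.Nat.Choose.Lucas

/-!
# Indices of tensor powers
-/

noncomputable section

set_option linter.style.haveILetI false
set_option linter.unusedSectionVars false

universe u v

open scoped TensorProduct

namespace Groth.Agent.ASBunLib

open Groth.Agent Groth.Agent.CSALib

variable {k : Type u} [Field k] {A : Type v} [Ring A] [Algebra k A] [Algebra.IsCentral k A] [IsSimpleRing A]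
  [FiniteDimensional k A]

theorem index_dvd_of_similar_pow {B : Type v} [Ring B] [Algebra k B] [Algebra.IsCentral k B] [IsSimpleRing B]
    [FiniteDimensional k B] {dA dB : ℕ} (hA : CSAGal.IsIndex k A dA) (hB : CSAGal.IsIndex k B dB) (c : ℕ)
    (h : Similar k B (CSAGal.tpow k A c)) : dB ∣ dA := by
  obtain ⟨_, _, _⟩ := centralSimple_pow k A c
  exact index_pow_dvd hA c (isIndex_congr hB h.symm)

theorem similar_of_modEq {p : ℕ} (hp : CSAGal.IsPeriod k A p) {a b : ℕ} (h : a ≡ b [MOD p]) :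
    Similar k (CSAGal.tpow k A a) (CSAGal.tpow k A b) := by
  have key : ∀ c : ℕ, Similar k (CSAGal.tpow k A c) (CSAGal.tpow k A (c % p)) := fun c => by
    suffices h : Similar k (CSAGal.tpow k A (p * (c / p) + c % p)) (CSAGal.tpow k A (c % p)) by
      rwa [Nat.div_add_mod] at h
    exact (similar_pow_add k A _ _).trans
      (((((isPeriod_iff hp (p * (c / p))).2 ⟨_, rfl⟩)).tensor similar_refl).trans similar_tensor_self_left)
  have h' : a % p = b % p := h
  exact (key a).trans (h' ▸ (key b).symm)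

theorem index_dvd_of_modEq {p : ℕ} (hp : CSAGal.IsPeriod k A p) {a b c : ℕ} (h : a ≡ b * c [MOD p]) {da db : ℕ}
    (ha : CSAGal.IsIndex k (CSAGal.tpow k A a) da) (hb : CSAGal.IsIndex k (CSAGal.tpow k A b) db) : da ∣ db := by
  obtain ⟨_, _, _⟩ := centralSimple_pow k A a
  obtain ⟨_, _, _⟩ := centralSimple_pow k A b
  exact index_dvd_of_similar_pow hb ha c ((similar_of_modEq hp h).trans (similar_pow_mul b c))

/-- Congruent exponents up to sign give the same index. -/
theorem index_eq_of_dvd_sub {p : ℕ} (hp : CSAGal.IsPeriod k A p) {a b : ℕ}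
    (h : (p : ℤ) ∣ (a : ℤ) - b ∨ (p : ℤ) ∣ (a : ℤ) + b) {da db : ℕ}
    (ha : CSAGal.IsIndex k (CSAGal.tpow k A a) da) (hb : CSAGal.IsIndex k (CSAGal.tpow k A b) db) : da = db := by
  have key : ∀ {a b : ℕ}, ((p : ℤ) ∣ (a : ℤ) - b ∨ (p : ℤ) ∣ (a : ℤ) + b) → ∃ c, a ≡ b * c [MOD p] := by
    rintro a b (h | h)
    · refine ⟨1, (Nat.modEq_iff_dvd.2 ?_)⟩
      push_cast
      rw [mul_one, ← dvd_neg, neg_sub]
      exact h
    · refine ⟨p - 1, (Nat.modEq_iff_dvd.2 ?_)⟩
      rw [Nat.cast_mul, Nat.cast_sub hp.1]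
      obtain ⟨t, ht⟩ := h
      exact ⟨(b : ℤ) - t, by push_cast; linear_combination -ht⟩
  have h' : (p : ℤ) ∣ (b : ℤ) - a ∨ (p : ℤ) ∣ (b : ℤ) + a :=
    h.imp (fun h => by rw [← dvd_neg, neg_sub]; exact h) fun h => by rw [add_comm]; exact h
  obtain ⟨c, hc⟩ := key h
  obtain ⟨c', hc'⟩ := key h'
  exact Nat.dvd_antisymm (index_dvd_of_modEq hp hc ha hb) (index_dvd_of_modEq hp hc' hb ha)

theorem isIndex_one_of_split {p : ℕ} (h : Similar k (CSAGal.tpow k A p) k) :
    CSAGal.IsIndex k (CSAGal.tpow k A p) 1 := by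
  obtain ⟨_, _, _⟩ := centralSimple_pow k A p
  exact isIndex_of_similar (by rw [Module.finrank_self, one_pow]) h

theorem period_dvd_index {d e : ℕ} (hd : CSAGal.IsIndex k A d) (he : CSAGal.IsPeriod k A e) : e ∣ d :=
  (isPeriod_iff he d).1 (similar_pow_index hd)

theorem index_one_of_finite [Finite k] {d : ℕ} (hd : CSAGal.IsIndex k A d) : d = 1 := by
  obtain ⟨D, _, _, hc, hf, hdim, -⟩ := exists_index_data hd
  haveI : Finite D := Module.finite_of_finite k
  have htop : Subalgebra.center k D = ⊤ := by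
    refine eq_top_iff.2 fun x _ => Subalgebra.mem_center_iff.2 fun y => ?_
    exact (littleWedderburn D).mul_comm y x
  have h1 : Module.finrank k D = 1 := by
    have hb : (⊥ : Subalgebra k D) = ⊤ := by
      rw [← Algebra.IsCentral.center_eq_bot k D, htop]
    exact Subalgebra.bot_eq_top_iff_finrank_eq_one.1 hb
  rw [hdim] at h1
  nlinarith [hd.1]

theorem gcd_choose_dvd {q e : ℕ} (hq : q.Prime) (he : 0 < e) (hqe : q ∣ e) : Nat.gcd (Nat.choose e q) e ∣ e / q := by
  obtain ⟨e1, rfl⟩ := hqe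
  rw [Nat.mul_div_cancel_left _ hq.pos]
  have he1 : 0 < e1 := Nat.pos_of_mul_pos_left he
  have h1 : q * e1 * Nat.choose (q * e1 - 1) (q - 1) = Nat.choose (q * e1) q * q := by
    have := Nat.add_one_mul_choose_eq (q * e1 - 1) (q - 1)
    rwa [Nat.sub_add_cancel he, Nat.sub_add_cancel hq.pos] at this
  have h2 : Nat.choose (q * e1) q = e1 * Nat.choose (q * e1 - 1) (q - 1) :=
    Nat.eq_of_mul_eq_mul_right hq.pos (by rw [← h1]; ring)
  have h3 : ¬ q ∣ Nat.choose (q * e1 - 1) (q - 1) := fun hd => by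
    haveI := Fact.mk hq
    have h4 := Choose.choose_modEq_choose_mod_mul_choose_div_nat (p := q) (n := q * e1 - 1) (k := q - 1)
    have h5 : (q * e1 - 1) % q = q - 1 := by
      obtain ⟨e2, rfl⟩ := Nat.exists_eq_succ_of_ne_zero he1.ne'
      rw [Nat.mul_succ, Nat.add_sub_assoc (show 1 ≤ q from hq.pos), Nat.mul_add_mod]
      exact Nat.mod_eq_of_lt (Nat.sub_lt hq.pos one_pos)
    rw [h5, Nat.mod_eq_of_lt (Nat.sub_lt hq.pos one_pos), Nat.div_eq_of_lt (Nat.sub_lt hq.pos one_pos),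
      Nat.choose_self, Nat.choose_zero_right, one_mul] at h4
    have h6 : (1 : ℕ) % q = 0 := (h4.symm.trans (Nat.modEq_zero_iff_dvd.2 hd))
    rw [Nat.mod_eq_of_lt hq.one_lt] at h6
    exact one_ne_zero h6
  have h4 : Nat.gcd (Nat.choose (q * e1 - 1) (q - 1)) q = 1 :=
    Nat.Coprime.symm ((Nat.Prime.coprime_iff_not_dvd hq).2 h3)
  rw [h2, mul_comm q e1, Nat.gcd_mul_left, mul_comm e1 q, h4, mul_one]

/-- Period equal to index is inherited by the powers with exponent dividing the period. -/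
theorem index_pow_of_period_eq_index {e : ℕ} (hd : CSAGal.IsIndex k A e) (he : CSAGal.IsPeriod k A e) :
    ∀ g, g ∣ e → CSAGal.IsIndex k (CSAGal.tpow k A g) (e / g) := by
  intro g
  induction g using Nat.strong_induction_on with
  | _ g ih => ?_
  intro hg
  have hg0 : 0 < g := Nat.pos_of_dvd_of_pos hg he.1
  obtain ⟨_, _, _⟩ := centralSimple_pow k A g
  by_cases hg1 : g = 1
  · subst hg1
    rw [Nat.div_one]
    exact isIndex_congr hd (similar_pow_one k A)
  · obtain ⟨q, hq, g', rfl⟩ : ∃ q, q.Prime ∧ ∃ g', g = g' * q :=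
      ⟨g.minFac, Nat.minFac_prime hg1, g / g.minFac, (Nat.div_mul_cancel g.minFac_dvd).symm⟩
    obtain ⟨_, _, _⟩ := centralSimple_pow k A g'
    have hg'0 : 0 < g' := Nat.pos_of_mul_pos_right hg0
    have hlt : g' < g' * q := lt_mul_of_one_lt_right hg'0 hq.one_lt
    have hd' := ih g' hlt ((Dvd.intro q rfl).trans hg)
    obtain ⟨r, hr⟩ := exists_isIndex k (CSAGal.tpow k A (g' * q))
    haveI : Infinite k := not_finite_iff_infinite.1 fun hfin => by
      haveI := hfin
      have := index_one_of_finite hd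
      rw [this] at hg
      exact hg1 (Nat.dvd_one.1 hg)
    have hqe : q ∣ e / g' := Nat.dvd_div_of_mul_dvd (by rwa [mul_comm] at hg ⊢)
    have hpos : 0 < e / g' := hd'.1
    obtain ⟨_, m, D, i₁, i₂, hm, hdim, ⟨iso⟩⟩ := id hd'
    letI := i₁
    letI := i₂
    haveI : NeZero m := ⟨hm.ne'⟩
    haveI := Algebra.IsCentral.of_algEquiv k (CSAGal.tpow k A g') _ iso
    haveI := isCentral_of_matrix k (n := m) (D := D)
    haveI : FiniteDimensional k D := Module.finite_of_finrank_pos (by rw [hdim]; positivity)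
    obtain ⟨_, _, _⟩ := centralSimple_pow k (CSAGal.tpow k A g') q
    have hr' : CSAGal.IsIndex k (CSAGal.tpow k (CSAGal.tpow k A g') q) r :=
      isIndex_congr hr (similar_pow_mul g' q).symm
    obtain ⟨_, m', D', j₁, j₂, hm', hdim', ⟨iso'⟩⟩ := id hr'
    letI := j₁
    letI := j₂
    haveI : NeZero m' := ⟨hm'.ne'⟩
    haveI := Algebra.IsCentral.of_algEquiv k (CSAGal.tpow k (CSAGal.tpow k A g') q) _ iso'
    haveI := isCentral_of_matrix k (n := m') (D := D')
    haveI : FiniteDimensional k D' := Module.finite_of_finrank_pos (by rw [hdim']; have := hr.1; positivity)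
    have h1 : r ∣ Nat.choose (e / g') q :=
      S7747.result k (CSAGal.tpow k A g') D m iso (e / g') hdim q (Nat.le_of_dvd hpos hqe) D' m' iso' r hdim'
    have h2 : r ∣ e / g' := index_pow_dvd hd' q hr'
    have h3 : r ∣ e / (g' * q) := by
      rw [← Nat.div_div_eq_div_mul]
      exact (Nat.dvd_gcd h1 h2).trans (gcd_choose_dvd hq hpos hqe)
    have hsplit : Similar k (CSAGal.tpow k A (g' * q * r)) k :=
      (similar_pow_mul (g' * q) r).trans (similar_pow_index hr)
    have h4 : e / (g' * q) ∣ r := by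
      have := (isPeriod_iff he _).1 hsplit
      exact (Nat.div_dvd_iff_dvd_mul hg hg0).2 this
    rwa [Nat.dvd_antisymm h4 h3]

theorem index_pow_eq {e : ℕ} (hd : CSAGal.IsIndex k A e) (he : CSAGal.IsPeriod k A e) (i : ℕ) :
    CSAGal.IsIndex k (CSAGal.tpow k A i) (e / Nat.gcd e i) := by
  obtain ⟨_, _, _⟩ := centralSimple_pow k A i
  obtain ⟨d, hdi⟩ := exists_isIndex k (CSAGal.tpow k A i)
  have hg := index_pow_of_period_eq_index hd he _ (Nat.gcd_dvd_left e i)
  have h1 : i ≡ Nat.gcd e i * (i / Nat.gcd e i) [MOD e] := by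
    rw [Nat.mul_div_cancel' (Nat.gcd_dvd_right e i)]
  obtain ⟨c, hc⟩ : ∃ c : ℕ, Nat.gcd e i ≡ i * c [MOD e] := by
    refine ⟨((Nat.gcdB e i) % (e : ℤ)).toNat, Nat.modEq_iff_dvd.2 ?_⟩
    have hnn : 0 ≤ (Nat.gcdB e i) % (e : ℤ) := Int.emod_nonneg _ (by exact_mod_cast he.1.ne')
    rw [Nat.cast_mul, Int.toNat_of_nonneg hnn, Nat.gcd_eq_gcd_ab e i]
    exact ⟨-(Nat.gcdA e i) - i * (Nat.gcdB e i / (e : ℤ)), by
      linear_combination (i : ℤ) * Int.emod_add_mul_ediv (Nat.gcdB e i) (e : ℤ)⟩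
  rwa [← Nat.dvd_antisymm (index_dvd_of_modEq he h1 hdi hg) (index_dvd_of_modEq he hc hg hdi)]

end Groth.Agent.ASBunLib
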