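import Groth.Agent.SBSplit.Main

/-!
# A splitting which is the identity on points
-/

universe u

open CategoryTheory CategoryTheory.Limits AlgebraicGeometry Matrix
open scoped TensorProduct

noncomputable section

set_option linter.style.haveILetI false

namespace Groth.Agent.ASBunLib

open Groth.Agent.SBAut Groth.Agent.SBSplit

variable {k : Type u} [Field k] {A : Type u} [Ring A] [Algebra k A] {K : Type u} [Field K] [Algebra k K]
  {m : ℕ} (Φ : K ⊗[k] A ≃ₐ[K] Matrix (Fin (m + 1)) (Fin (m + 1)) K)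
  (hA : Module.finrank k A = (m + 1) * (m + 1))
  {X : Scheme.{u}} {f : X ⟶ Spec (CommRingCat.of k)}
  (s : BrSev.SBStr k A ((m + 1) * (m + 1) - (m + 1)) f)

include Φ hA s in
theorem exists_splitting_pt [Module.Finite k A] : ∃ e : BrSev.Splitting f K m,
    ∀ (R : Type u) [CommRing R] [Algebra k R] [Algebra K R] [IsScalarTower k K R]
      (v : Fin (m + 1) → R) (i : Fin (m + 1)) (hu : IsUnit (v i)),
      pt K v i hu ≫ e.iso.inv = toXK Φ hA s v i hu := by
  obtain ⟨h, hh, hK⟩ := exists_hom Φ hA s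
  have hinj : ∀ (Y : Scheme.{u}) (y : Y) (g g' : Spec (Y.presheaf.stalk y) ⟶ CohB1.ProjSpace m K),
      g ≫ h = g' ≫ h → g = g' := by
    intro Y y g g' e
    let O : Type u := Y.presheaf.stalk y
    haveI : IsLocalRing O := inferInstanceAs (IsLocalRing (Y.presheaf.stalk y))
    let ρ : CommRingCat.of K ⟶ Y.presheaf.stalk y := Spec.preimage (g ≫ CohB1.ProjSpace.toSpec m K)
    letI algKO : Algebra K O := (ρ.hom : K →+* O).toAlgebra
    letI : Algebra k O := ((algebraMap K O).comp (algebraMap k K)).toAlgebra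
    haveI : IsScalarTower k K O := IsScalarTower.of_algebraMap_eq' rfl
    have h1 : g ≫ CohB1.ProjSpace.toSpec m K = Spec.map (CommRingCat.ofHom (algebraMap K O)) :=
      (Spec.map_preimage _).symm
    have h2 : g' ≫ CohB1.ProjSpace.toSpec m K = Spec.map (CommRingCat.ofHom (algebraMap K O)) := by
      rw [← h1, ← hK, ← Category.assoc, ← Category.assoc, e]
    obtain ⟨v, i, hu, hgv⟩ := @exists_pt K _ m O _ algKO _ g h1
    obtain ⟨v', j, hu', hgv'⟩ := @exists_pt K _ m O _ algKO _ g' h2
    rw [hgv, hgv'] at e ⊢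
    refine pt_congr_rel hu hu' (rel_of_toXK_eq Φ hA s hu hu' ?_)
    rw [← hh O v i hu, ← hh O v' j hu']
    exact e
  haveI : Mono h := ⟨fun {Z} a b e => hom_ext_fromSpecStalk a b fun z => hinj Z z _ _ (by
    rw [Category.assoc, Category.assoc, e])⟩
  choose U j g hj hy hg using exists_section Φ hA s h hh
  let 𝒱 : Scheme.OpenCover.{u} (BrSev.bc f K) :=
    Scheme.Cover.mkOfCovers (↥(BrSev.bc f K)) U j (fun y => ⟨y, (hy y).choose, (hy y).choose_spec⟩) hj
  let inv : BrSev.bc f K ⟶ CohB1.ProjSpace m K := 𝒱.glueMorphisms g fun a b => by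
    refine (cancel_mono h).mp ((Category.assoc _ _ _).trans (Eq.trans ?_ (Category.assoc _ _ _).symm))
    erw [hg a, hg b]
    exact pullback.condition
  have hi : inv ≫ h = 𝟙 _ := 𝒱.hom_ext _ _ fun a => by
    refine (Category.assoc _ _ _).symm.trans ?_
    erw [𝒱.ι_glueMorphisms]
    exact (hg a).trans (Category.comp_id _).symm
  have hi' : h ≫ inv = 𝟙 _ := by rw [← cancel_mono h, Category.assoc, hi, Category.comp_id, Category.id_comp]
  exact ⟨⟨⟨inv, h, hi, hi'⟩, by rw [← hK, ← Category.assoc, hi, Category.id_comp]⟩, hh⟩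

end Groth.Agent.ASBunLib
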