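import Groth.Agent.QCoh.FlatBC
import Groth.Agent.QCoh.FT
import Groth.Agent.QCoh.Qcqs
import Groth.Agent.ExistEasy.PP.PullSec
import Groth.Agent.RGLib.HomGlue
import Mathlib.LinearAlgebra.Basis.VectorSpace

/-! Morphisms of modules after an extension of the base field. -/

noncomputable section

set_option linter.style.haveILetI false
set_option linter.unusedSectionVars false
set_option backward.isDefEq.respectTransparency false
set_option backward.isDefEq.respectTransparency.types false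
set_option maxHeartbeats 1000000

universe u

open CategoryTheory CategoryTheory.Limits AlgebraicGeometry TopologicalSpace Opposite
open scoped TensorProduct

namespace Groth.Agent.ASBunLib

open Groth.Agent Groth.Agent.QCoh

/-- A scalar as a function on an open. -/
def sc {R : Type u} [CommRing R] {X : Scheme.{u}} (p : X ⟶ Spec (CommRingCat.of R)) (V : X.Opens) : R →+* Γ(X, V) :=
  (X.presheaf.map (homOfLE (le_top : V ≤ ⊤)).op).hom.comp (Coh.toGlobal p)

theorem res_sc {R : Type u} [CommRing R] {X : Scheme.{u}} (p : X ⟶ Spec (CommRingCat.of R)) {V W : X.Opens}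
    (hle : W ≤ V) (a : R) : X.presheaf.map (homOfLE hle).op (sc p V a) = sc p W a :=
  ringMap_map (homOfLE hle) (homOfLE (le_top : V ≤ ⊤)) _

variable {k K : Type u} [Field k] [Field K] [Algebra k K] {X X' : Scheme.{u}}
  {p : X ⟶ Spec (CommRingCat.of k)} {p' : X' ⟶ Spec (CommRingCat.of K)} {π : X' ⟶ X}
  (h : IsPullback π p' p (Spec.map (CommRingCat.ofHom (algebraMap k K))))
  {F G : X.Modules} (hG : Coh.IsQCoh G)

include h in
theorem app_sc (V : X.Opens) (a : k) :
    π.appLE V (π ⁻¹ᵁ V) le_rfl (sc p V a) = sc p' (π ⁻¹ᵁ V) (algebraMap k K a) := by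
  show _ = X'.presheaf.map _ (Coh.toGlobal p' (algebraMap k K a))
  rw [toGlobal_comm (pA := p) (pB := p') (φ := π) h.w]
  rw [Scheme.Hom.appLE_eq_app]
  exact congr($(π.naturality (homOfLE (le_top : V ≤ ⊤)).op) (Coh.toGlobal p a))

include h hG in
theorem exists_tensor {V : X.Opens} (hV : IsAffineOpen V) :
    letI := secModule (Coh.toGlobal p) G V
    ∃ e : K ⊗[k] Γ(G, V) ≃+ Γ((Scheme.Modules.pullback π).obj G, π ⁻¹ᵁ V),
      ∀ c s, e (c ⊗ₜ s) = sc p' (π ⁻¹ᵁ V) c • pullSec π G le_rfl s := by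
  letI := secModule (Coh.toGlobal p) G V
  letI := secModule (Coh.toGlobal p') ((Scheme.Modules.pullback π).obj G) (π ⁻¹ᵁ V)
  letI := secModule ((Coh.toGlobal p').comp (algebraMap k K)) ((Scheme.Modules.pullback π).obj G) (π ⁻¹ᵁ V)
  haveI : IsScalarTower k K Γ((Scheme.Modules.pullback π).obj G, π ⁻¹ᵁ V) := .of_algebraMap_smul fun _ _ => rfl
  letI : Module k Γ((𝟭 X.Modules).obj G, V) := secModule (Coh.toGlobal p) G V
  have hb := isAffineBC_of_isPullback h hG V hV
  exact ⟨hb.equiv.toAddEquiv, fun c s => hb.equiv_tmul c s⟩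

include h hG in
theorem sections_induction {V : X.Opens} (hV : IsAffineOpen V)
    {P : Γ((Scheme.Modules.pullback π).obj G, π ⁻¹ᵁ V) → Prop} (h0 : P 0)
    (hadd : ∀ a b, P a → P b → P (a + b))
    (hgen : ∀ c s, P (sc p' (π ⁻¹ᵁ V) c • pullSec π G le_rfl s)) (z) : P z := by
  letI := secModule (Coh.toGlobal p) G V
  obtain ⟨e, he⟩ := exists_tensor h hG hV
  obtain ⟨w, rfl⟩ := e.surjective z
  induction w using TensorProduct.induction_on with
  | zero => rwa [map_zero]
  | add a b ha hb => rw [map_add]; exact hadd _ _ ha hb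
  | tmul c s => rw [he]; exact hgen c s

include h hG in
/-- The coefficient of a section along a functional. -/
theorem exists_coord (lam : K →ₗ[k] k) {V : X.Opens} (hV : IsAffineOpen V) :
    ∃ r : Γ((Scheme.Modules.pullback π).obj G, π ⁻¹ᵁ V) →+ Γ(G, V),
      ∀ c s, r (sc p' (π ⁻¹ᵁ V) c • pullSec π G le_rfl s) = sc p V (lam c) • s := by
  letI := secModule (Coh.toGlobal p) G V
  obtain ⟨e, he⟩ := exists_tensor h hG hV
  refine ⟨((TensorProduct.lid k Γ(G, V)).toLinearMap ∘ₗ LinearMap.rTensor Γ(G, V) lam).toAddMonoidHom.comp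
    e.symm.toAddMonoidHom, fun c s => ?_⟩
  show TensorProduct.lid k Γ(G, V) (LinearMap.rTensor Γ(G, V) lam (e.symm _)) = _
  rw [← he, AddEquiv.symm_apply_apply, LinearMap.rTensor_tmul, TensorProduct.lid_tmul]
  rfl

include h in
theorem isAffineHom_proj : IsAffineHom π := MorphismProperty.of_isPullback h.flip inferInstance

include h hG in
theorem exists_coordHom (lam : K →ₗ[k] k) :
    ∃ r : (Scheme.Modules.pushforward π).obj ((Scheme.Modules.pullback π).obj G) ⟶ G,
      ∀ (V : X.Opens), IsAffineOpen V → ∀ c s,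
        r.app V (show Γ((Scheme.Modules.pushforward π).obj ((Scheme.Modules.pullback π).obj G), V) from
          sc p' (π ⁻¹ᵁ V) c • pullSec π G le_rfl s) = sc p V (lam c) • s := by
  haveI := isAffineHom_proj h
  let N := (Scheme.Modules.pullback π).obj G
  choose r hr using fun (V : X.affineOpens) => exists_coord h hG lam V.2
  have hsmul : ∀ (V : X.affineOpens) (a : Γ(X, V.1)) z,
      r V (π.app V.1 a • z) = a • r V z := fun V a z => by
    refine sections_induction h hG V.2 (P := fun z => r V (π.app V.1 a • z) = a • r V z) ?_ ?_ ?_ z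
    · simp
    · intro x y hx hy; simp only [smul_add, map_add, hx, hy]
    · intro c s
      have e1 : π.app V.1 a • sc p' (π ⁻¹ᵁ V.1) c • pullSec π G le_rfl s =
          sc p' (π ⁻¹ᵁ V.1) c • pullSec π G le_rfl (a • s) := by
        rw [pullSec_smul, Scheme.Hom.appLE_eq_app, smul_comm]
      rw [e1, hr, hr, smul_comm]
  have hnat : ∀ (V W : X.affineOpens) (hle : W.1 ≤ V.1) z,
      G.presheaf.map (homOfLE hle).op (r V z) =
        r W (N.presheaf.map (homOfLE (π.preimage_mono hle)).op z) := fun V W hle z => by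
    refine sections_induction h hG V.2 (P := fun z => G.presheaf.map (homOfLE hle).op (r V z) =
        r W (N.presheaf.map (homOfLE (π.preimage_mono hle)).op z)) ?_ ?_ ?_ z
    · simp
    · intro x y hx hy; simp only [map_add, hx, hy]
    · intro c s
      rw [hr, map_smul' (M := G), res_sc, map_smul' (M := N), res_sc,
        ExistEasy.pullSec_res π G hle (π.preimage_mono hle) le_rfl le_rfl, hr]
  let P := (Scheme.Modules.pushforward π).obj N
  let l : ∀ V : X.affineOpens, Γ(P, V.1) →ₗ[Γ(X, V.1)] Γ(G, V.1) := fun V =>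
    { toFun := fun z => r V z
      map_add' := map_add (r V)
      map_smul' := hsmul V }
  obtain ⟨u, hu⟩ := RGLib.HomGlue.exists_hom (fun V : X.affineOpens => V.1)
    (QCoh.isQCoh_pushforward π (QCoh.isQCoh_pullback π hG) : Coh.IsQCoh P) (fun V => V.2)
    (fun x => by
      obtain ⟨_, ⟨W, hW, rfl⟩, hx, -⟩ := X.isBasis_affineOpens.exists_subset_of_mem_open (Set.mem_univ x) isOpen_univ
      exact ⟨⟨W, hW⟩, hx⟩) l (fun a b x hxa hxb => by
      obtain ⟨g, hga, hxg⟩ := b.2.exists_basicOpen_le (V := a.1) ⟨x, hxa⟩ hxb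
      exact ⟨g, hga, l ⟨_, b.2.basicOpen g⟩, hxg,
        fun t => (hnat b ⟨_, b.2.basicOpen g⟩ (X.basicOpen_le g) t).symm,
        fun t => (hnat a ⟨_, b.2.basicOpen g⟩ hga t).symm⟩)
  exact ⟨u, fun V hV c s => (hu ⟨V, hV⟩ _).trans (hr ⟨V, hV⟩ c s)⟩

/-- Morphisms from a quasi-coherent module are determined on an affine cover. -/
theorem hom_ext_of_cover {M P : X.Modules} (hM : Coh.IsQCoh M) {ι : Type*} (V : ι → X.Opens)
    (hV : ∀ i, IsAffineOpen (V i)) (hcov : ∀ x, ∃ i, x ∈ V i) (u v : M ⟶ P)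
    (huv : ∀ i t, u.app (V i) t = v.app (V i) t) : u = v := by
  refine Scheme.Modules.hom_ext _ _ fun U => ?_
  ext s
  rw [← sub_eq_zero]
  refine eq_zero_of_locally U _ fun x hx => ?_
  obtain ⟨i, hi⟩ := hcov x
  obtain ⟨f, hf, hxf⟩ := (hV i).exists_basicOpen_le (V := U) ⟨x, hx⟩ hi
  refine ⟨X.basicOpen f, homOfLE hf, hxf, ?_⟩
  have key := RGLib.HomGlue.ext_res hM (hV i) (le_refl (X.basicOpen f)) (fun z => u.app (X.basicOpen f) z)
    (fun z => v.app (X.basicOpen f) z)
    (fun r z => by rw [ringMap_id]; exact Scheme.Modules.Hom.app_smul u r z)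
    (fun r z => by rw [ringMap_id]; exact Scheme.Modules.Hom.app_smul v r z)
    (fun t => (map_app_comm u (homOfLE (X.basicOpen_le f)) t).trans
      ((congrArg _ (huv i t)).trans (map_app_comm v (homOfLE (X.basicOpen_le f)) t).symm))
    (M.presheaf.map (homOfLE hf).op s)
  rw [map_sub, sub_eq_zero]
  exact (map_app_comm u (homOfLE hf) s).symm.trans (key.trans (map_app_comm v (homOfLE hf) s))

/-- The scalar endomorphism. -/
def scal {R : Type u} [CommRing R] {Y : Scheme.{u}} (q : Y ⟶ Spec (CommRingCat.of R)) (M : Y.Modules) (a : R) :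
    M ⟶ M := Formal.smulModΓ M (Coh.toGlobal q a)

theorem scal_app {R : Type u} [CommRing R] {Y : Scheme.{u}} (q : Y ⟶ Spec (CommRingCat.of R)) (M : Y.Modules)
    (a : R) (U : Y.Opens) (m : Γ(M, U)) : (scal q M a).app U m = sc q U a • m := rfl

theorem scal_one {R : Type u} [CommRing R] {Y : Scheme.{u}} (q : Y ⟶ Spec (CommRingCat.of R)) (M : Y.Modules) :
    scal q M 1 = 𝟙 M := by
  refine Scheme.Modules.hom_ext _ _ fun U => ?_
  ext m
  rw [scal_app, map_one, one_smul]
  rfl

theorem scal_comp {R : Type u} [CommRing R] {Y : Scheme.{u}} (q : Y ⟶ Spec (CommRingCat.of R)) {M N : Y.Modules}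
    (f : M ⟶ N) (a : R) : scal q M a ≫ f = f ≫ scal q N a := by
  refine Scheme.Modules.hom_ext _ _ fun U => ?_
  ext m
  show f.app U ((scal q M a).app U m) = (scal q N a).app U (f.app U m)
  rw [scal_app, scal_app, Scheme.Modules.Hom.app_smul]

theorem scal_mul {R : Type u} [CommRing R] {Y : Scheme.{u}} (q : Y ⟶ Spec (CommRingCat.of R)) (M : Y.Modules)
    (a b : R) : scal q M a ≫ scal q M b = scal q M (a * b) := by
  refine Scheme.Modules.hom_ext _ _ fun U => ?_
  ext m
  show (scal q M b).app U ((scal q M a).app U m) = _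
  rw [scal_app, scal_app, scal_app, ← mul_smul, map_mul, mul_comm]

variable (p' π) in
/-- `c ⊗ f ↦ c · π^* f`. -/
def bcHom (c : K) (f : F ⟶ G) : (Scheme.Modules.pullback π).obj F ⟶ (Scheme.Modules.pullback π).obj G :=
  (Scheme.Modules.pullback π).map f ≫ scal p' _ c

theorem bcHom_comp {H : X.Modules} (c d : K) (f : F ⟶ G) (g : G ⟶ H) :
    bcHom p' π c f ≫ bcHom p' π d g = bcHom p' π (c * d) (f ≫ g) := by
  rw [bcHom, bcHom, bcHom, Functor.map_comp, Category.assoc, ← Category.assoc (scal p' _ c),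
    scal_comp, Category.assoc, scal_mul, Category.assoc]

include h hG in
/-- Taking the coefficient along a functional. -/
theorem exists_retr (lam : K →ₗ[k] k) :
    ∃ ρ : ((Scheme.Modules.pullback π).obj F ⟶ (Scheme.Modules.pullback π).obj G) →+ (F ⟶ G),
      (∀ (c : K) (f : F ⟶ G), ρ (bcHom p' π c f) = f ≫ scal p G (lam c)) ∧
      ∀ φ (V : X.Opens), IsAffineOpen V → ∀ r : Γ((Scheme.Modules.pullback π).obj G, π ⁻¹ᵁ V) →+ Γ(G, V),
        (∀ c s, r (sc p' (π ⁻¹ᵁ V) c • pullSec π G le_rfl s) = sc p V (lam c) • s) →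
        ∀ t, (ρ φ).app V t = r (φ.app (π ⁻¹ᵁ V) (pullSec π F le_rfl t)) := by
  obtain ⟨r₀, hr₀⟩ := exists_coordHom h hG lam
  haveI : (Scheme.Modules.pushforward π).Additive :=
    (Scheme.Modules.pullbackPushforwardAdjunction π).right_adjoint_additive
  let η := (Scheme.Modules.pullbackPushforwardAdjunction π).unit
  let ρ : ((Scheme.Modules.pullback π).obj F ⟶ (Scheme.Modules.pullback π).obj G) →+ (F ⟶ G) :=
    AddMonoidHom.mk' (fun φ => η.app F ≫ (Scheme.Modules.pushforward π).map φ ≫ r₀)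
      (fun a b => by rw [Functor.map_add, Preadditive.add_comp, Preadditive.comp_add])
  have hpull : ∀ (V : X.Opens) (t : Γ(F, V)), (show Γ((Scheme.Modules.pullback π).obj F, π ⁻¹ᵁ V) from
      (η.app F).app V t) = pullSec π F le_rfl t := fun V t =>
    (map_id' (M := (Scheme.Modules.pullback π).obj F) _ _).symm
  have key : ∀ φ (V : X.Opens), IsAffineOpen V → ∀ r : Γ((Scheme.Modules.pullback π).obj G, π ⁻¹ᵁ V) →+ Γ(G, V),
      (∀ c s, r (sc p' (π ⁻¹ᵁ V) c • pullSec π G le_rfl s) = sc p V (lam c) • s) →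
      ∀ t, (ρ φ).app V t = r (φ.app (π ⁻¹ᵁ V) (pullSec π F le_rfl t)) := fun φ V hV r hr t => by
    show r₀.app V (φ.app (π ⁻¹ᵁ V) (show Γ((Scheme.Modules.pullback π).obj F, π ⁻¹ᵁ V) from (η.app F).app V t)) = _
    rw [hpull]
    generalize φ.app (π ⁻¹ᵁ V) (pullSec π F le_rfl t) = z
    let r' : Γ((Scheme.Modules.pullback π).obj G, π ⁻¹ᵁ V) →+ Γ(G, V) := (r₀.app V).hom
    show r' z = r z
    refine sections_induction h hG hV (P := fun z => r' z = r z) ?_ ?_ ?_ z
    · rw [map_zero, map_zero]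
    · intro x y hx hy; rw [map_add, map_add, hx, hy]
    · intro c s; rw [hr]; exact hr₀ V hV c s
  refine ⟨ρ, fun c f => ?_, key⟩
  refine Scheme.Modules.hom_ext _ _ fun U => ?_
  ext s
  rw [← sub_eq_zero]
  refine eq_zero_of_locally U _ fun x hx => ?_
  obtain ⟨_, ⟨V, hV, rfl⟩, hxV, hVU⟩ := X.isBasis_affineOpens.exists_subset_of_mem_open hx U.2
  refine ⟨V, homOfLE hVU, hxV, ?_⟩
  obtain ⟨r, hr⟩ := exists_coord h hG lam hV
  rw [map_sub, sub_eq_zero]
  refine (map_app_comm _ (homOfLE hVU) s).symm.trans (Eq.trans ?_ (map_app_comm _ (homOfLE hVU) s))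
  rw [key _ V hV r hr]
  show r (sc p' (π ⁻¹ᵁ V) c • ((Scheme.Modules.pullback π).map f).app (π ⁻¹ᵁ V) (pullSec π F le_rfl _)) = _
  rw [ExistEasy.pullSec_natural, hr]
  rfl

variable (hF : Coh.IsCoh F) [CompactSpace X]

include h hG hF in
/-- Every morphism after the extension is a combination of extended morphisms. -/
theorem exists_sum (φ : (Scheme.Modules.pullback π).obj F ⟶ (Scheme.Modules.pullback π).obj G) :
    ∃ (n : ℕ) (c : Fin n → K) (f : Fin n → (F ⟶ G)), φ = ∑ i, bcHom p' π (c i) (f i) := by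
  classical
  haveI := isAffineHom_proj h
  let B := Module.Free.chooseBasis k K
  choose ρ hρ hρ' using fun b => exists_retr (F := F) h hG (B.coord b)
  obtain ⟨Ω, hΩ⟩ : ∃ Ω : Finset X.affineOpens, ∀ x, ∃ V ∈ Ω, x ∈ (V : X.Opens) := by
    obtain ⟨Ω, hΩ⟩ := CompactSpace.isCompact_univ.elim_finite_subcover (fun V : X.affineOpens => ((V : X.Opens) : Set X))
      (fun V => V.1.2) (fun x _ => by
        obtain ⟨_, ⟨W, hW, rfl⟩, hx, -⟩ := X.isBasis_affineOpens.exists_subset_of_mem_open (Set.mem_univ x) isOpen_univ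
        exact Set.mem_iUnion.2 ⟨⟨W, hW⟩, hx⟩)
    exact ⟨Ω, fun x => by simpa using hΩ (Set.mem_univ x)⟩
  -- the defect on an affine, and its finite support
  have hsupp : ∀ (V : X.affineOpens) (t : Γ(F, V.1)), ∃ S : Finset (Module.Free.ChooseBasisIndex k K), ∀ S', S ⊆ S' →
      φ.app (π ⁻¹ᵁ V.1) (pullSec π F le_rfl t) =
        ∑ b ∈ S', sc p' (π ⁻¹ᵁ V.1) (B b) • pullSec π G le_rfl ((ρ b φ).app V.1 t) := by
    intro V t
    choose r hr using fun b => exists_coord h hG (B.coord b) V.2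
    simp only [fun b => hρ' b φ V.1 V.2 (r b) (hr b)]
    generalize φ.app (π ⁻¹ᵁ V.1) (pullSec π F le_rfl t) = z
    refine sections_induction h hG V.2 (P := fun z => ∃ S : Finset (Module.Free.ChooseBasisIndex k K), ∀ S', S ⊆ S' →
        z = ∑ b ∈ S', sc p' (π ⁻¹ᵁ V.1) (B b) • pullSec π G le_rfl (r b z)) ?_ ?_ ?_ z
    · refine ⟨∅, fun S' _ => (Finset.sum_eq_zero fun b _ => ?_).symm⟩
      rw [map_zero, show pullSec π G le_rfl (0 : Γ(G, V.1)) = 0 from map_zero (AddMonoidHom.mk' _ (pullSec_add π G le_rfl)),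
        smul_zero]
    · rintro x y ⟨S, hS⟩ ⟨S₂, hS₂⟩
      refine ⟨S ∪ S₂, fun S' hS' => ?_⟩
      conv_lhs => rw [hS S' (Finset.union_subset_left hS'), hS₂ S' (Finset.union_subset_right hS')]
      simp only [map_add, pullSec_add, smul_add, Finset.sum_add_distrib]
    · intro c s
      refine ⟨(B.repr c).support, fun S' hS' => ?_⟩
      have hc : c = ∑ b ∈ S', algebraMap k K (B.repr c b) * B b := by
        conv_lhs => rw [← B.linearCombination_repr c, Finsupp.linearCombination_apply, Finsupp.sum]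
        rw [Finset.sum_subset hS' fun b _ hb => by rw [Finsupp.notMem_support_iff.1 hb, zero_smul]]
        simp only [Algebra.smul_def]
      conv_lhs => rw [hc, map_sum, Finset.sum_smul]
      refine Finset.sum_congr rfl fun b _ => ?_
      rw [hr, pullSec_smul, app_sc h, map_mul, mul_comm, mul_smul]
      rfl
  choose S hS using hsupp
  choose T hT using fun V : X.affineOpens => (QCoh.finite_of_isFT hF.1 hF.2 V.2).fg_top
  let S₀ := Ω.biUnion fun V => (T V).biUnion (S V)
  have hφ : φ = ∑ b ∈ S₀, bcHom p' π (B b) (ρ b φ) := by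
    refine ((Scheme.Modules.pullbackPushforwardAdjunction π).homEquiv _ _).injective ?_
    refine hom_ext_of_cover hF.1 (fun V : {V : X.affineOpens // V ∈ Ω} => (V.1 : X.Opens)) (fun V => V.1.2)
      (fun x => let ⟨V, hV, hx⟩ := hΩ x; ⟨⟨V, hV⟩, hx⟩) _ _ fun V t => ?_
    rw [Adjunction.homEquiv_unit, Adjunction.homEquiv_unit]
    show φ.app (π ⁻¹ᵁ V.1.1) (show Γ((Scheme.Modules.pullback π).obj F, π ⁻¹ᵁ V.1.1) from
        ((Scheme.Modules.pullbackPushforwardAdjunction π).unit.app F).app V.1.1 t) =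
      (∑ b ∈ S₀, bcHom p' π (B b) (ρ b φ)).app (π ⁻¹ᵁ V.1.1) (show Γ((Scheme.Modules.pullback π).obj F, π ⁻¹ᵁ V.1.1) from
        ((Scheme.Modules.pullbackPushforwardAdjunction π).unit.app F).app V.1.1 t)
    rw [show (show Γ((Scheme.Modules.pullback π).obj F, π ⁻¹ᵁ V.1.1) from
        ((Scheme.Modules.pullbackPushforwardAdjunction π).unit.app F).app V.1.1 t) = pullSec π F le_rfl t from
      (map_id' (M := (Scheme.Modules.pullback π).obj F) _ _).symm]
    have hmem : t ∈ Submodule.span Γ(X, V.1.1) (T V.1 : Set Γ(F, V.1.1)) := by rw [hT]; trivial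
    induction hmem using Submodule.span_induction with
    | mem t ht =>
      rw [hS V.1 t S₀ (fun b hb => Finset.mem_biUnion.2 ⟨V.1, V.2, Finset.mem_biUnion.2 ⟨t, ht, hb⟩⟩)]
      rw [sum_app]
      refine Finset.sum_congr rfl fun b _ => ?_
      show _ = (scal p' _ (B b)).app _ (((Scheme.Modules.pullback π).map (ρ b φ)).app _ (pullSec π F le_rfl t))
      rw [ExistEasy.pullSec_natural, scal_app]
    | zero =>
      rw [show pullSec π F le_rfl (0 : Γ(F, V.1.1)) = 0 from map_zero (AddMonoidHom.mk' _ (pullSec_add π F le_rfl))]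
      simp only [map_zero]
    | add x y _ _ hx hy =>
      rw [pullSec_add, map_add, map_add, hx, hy]
    | smul a x _ hx =>
      rw [pullSec_smul, Scheme.Modules.Hom.app_smul, Scheme.Modules.Hom.app_smul, hx]
  let e := S₀.equivFin
  refine ⟨S₀.card, fun i => B (e.symm i).1, fun i => ρ (e.symm i).1 φ, hφ.trans ?_⟩
  rw [← Finset.sum_coe_sort, ← e.symm.sum_comp]
where
  sum_app {Y : Scheme.{u}} {M N : Y.Modules} {ι : Type u} {s : Finset ι} {f : ι → (M ⟶ N)} {U : Y.Opens}
      {m : Γ(M, U)} : (∑ i ∈ s, f i).app U m = ∑ i ∈ s, (f i).app U m := by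
    classical
    induction s using Finset.induction_on with
    | empty => rfl
    | insert a s ha ih => rw [Finset.sum_insert ha, Finset.sum_insert ha, ← ih]; rfl

end Groth.Agent.ASBunLib
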