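import Groth.Agent.ASBunLib.GalTensor
import Groth.Agent.ASBunLib.HomBC
import Groth.Agent.QCoh.DevissageIdeal
import Groth.Agent.GrModX.AffineIso

/-!
# Pullback of a pushforward along a finite Galois extension of the base field
-/

noncomputable section

set_option linter.style.haveILetI false
set_option linter.unusedSectionVars false
set_option backward.isDefEq.respectTransparency false
set_option backward.isDefEq.respectTransparency.types false
set_option maxHeartbeats 1000000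

universe u

open CategoryTheory CategoryTheory.Limits AlgebraicGeometry TopologicalSpace Opposite
open scoped TensorProduct

namespace Groth.Agent.ASBunLib

open Groth.Agent Groth.Agent.QCoh

theorem appTop_toGlobal {K K' : Type u} [CommRing K] [CommRing K'] {X Y : Scheme.{u}}
    {p : X ⟶ Spec (CommRingCat.of K)} {q : Y ⟶ Spec (CommRingCat.of K')} {g : Y ⟶ X} (σ : K →+* K')
    (w : g ≫ p = q ≫ Spec.map (CommRingCat.ofHom σ)) (c : K) :
    g.appTop (Coh.toGlobal p c) = Coh.toGlobal q (σ c) := by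
  letI := σ.toAlgebra
  exact (toGlobal_comm (A := K) (B := K') (pA := p) (pB := q) (φ := g) w c).symm

theorem app_sc_of_comm {K : Type u} [CommRing K] {X' : Scheme.{u}} {p' : X' ⟶ Spec (CommRingCat.of K)} {g : X' ⟶ X'}
    (σ : K →+* K) (w : g ≫ p' = p' ≫ Spec.map (CommRingCat.ofHom σ)) (W : X'.Opens) (c : K) :
    g.app W (sc p' W c) = sc p' (g ⁻¹ᵁ W) (σ c) := by
  show g.app W (X'.presheaf.map _ (Coh.toGlobal p' c)) = X'.presheaf.map _ (Coh.toGlobal p' (σ c))
  rw [← appTop_toGlobal σ w c]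
  exact congr($(g.naturality (homOfLE (le_top : W ≤ ⊤)).op) (Coh.toGlobal p' c))

theorem sect_eq_of_biproduct {X : Scheme.{u}} {β : Type u} [Fintype β] {T : β → X.Modules} [HasFiniteBiproducts X.Modules]
    {U : X.Opens} (a b : Γ(⨁ T, U)) (h : ∀ j, (biproduct.π T j).app U a = (biproduct.π T j).app U b) : a = b := by
  let ev : Γ(⨁ T, U) → ((⨁ T ⟶ ⨁ T) →+ Γ(⨁ T, U)) := fun x =>
    AddMonoidHom.mk' (fun f => f.app U x) (fun f f' => rfl)
  have key : ∀ x, ∑ j, (biproduct.ι T j).app U ((biproduct.π T j).app U x) = x := fun x => by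
    have := congrArg (ev x) (biproduct_total' T)
    rw [map_sum] at this
    exact this
  rw [← key a, ← key b]
  exact Finset.sum_congr rfl fun j _ => by rw [h j]

variable {k K : Type u} [Field k] [Field K] [Algebra k K] [FiniteDimensional k K] [IsGalois k K]
  {X X' : Scheme.{u}} {p : X ⟶ Spec (CommRingCat.of k)} {p' : X' ⟶ Spec (CommRingCat.of K)} {π : X' ⟶ X}
  (h : IsPullback π p' p (Spec.map (CommRingCat.ofHom (algebraMap k K))))
  (g : (K ≃ₐ[k] K) → (X' ⟶ X')) [∀ σ, IsIso (g σ)] (hgπ : ∀ σ, g σ ≫ π = π)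
  (hgp : ∀ σ, g σ ≫ p' = p' ≫ Spec.map (CommRingCat.ofHom (σ : K →+* K)))

include h hgp hgπ in
/-- `π^* π_* L = ⨁_σ (g σ)_* L`. -/
theorem nonempty_pullback_push {L : X'.Modules} (hL : Coh.IsQCoh L) [HasFiniteBiproducts X'.Modules] :
    Nonempty ((Scheme.Modules.pullback π).obj ((Scheme.Modules.pushforward π).obj L) ≅
      ⨁ fun σ => (Scheme.Modules.pushforward (g σ)).obj L) := by
  classical
  haveI := isAffineHom_proj h
  let G := (Scheme.Modules.pushforward π).obj L
  have hG : Coh.IsQCoh G := isQCoh_pushforward π hL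
  let T := fun σ => (Scheme.Modules.pushforward (g σ)).obj L
  let r : ∀ σ, G ⟶ (Scheme.Modules.pushforward π).obj (T σ) := fun σ =>
    (Scheme.Modules.pushforwardCongr (hgπ σ).symm).hom.app L ≫ (Scheme.Modules.pushforwardComp (g σ) π).inv.app L
  let adj := Scheme.Modules.pullbackPushforwardAdjunction π
  let ψ : ∀ σ, (Scheme.Modules.pullback π).obj G ⟶ T σ := fun σ => (adj.homEquiv G _).symm (r σ)
  have hpre : ∀ σ (V : X.Opens), g σ ⁻¹ᵁ (π ⁻¹ᵁ V) = π ⁻¹ᵁ V := fun σ V => by
    rw [← Scheme.Hom.comp_preimage, hgπ σ]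
  have hψ : ∀ σ (V : X.Opens) (s : Γ(G, V)), (ψ σ).app (π ⁻¹ᵁ V) (pullSec π G le_rfl s) =
      (show Γ(T σ, π ⁻¹ᵁ V) from
        L.presheaf.map (homOfLE (hpre σ V).le).op (show Γ(L, π ⁻¹ᵁ V) from s)) := fun σ V s => by
    rw [show pullSec π G le_rfl s = (show Γ((Scheme.Modules.pullback π).obj G, π ⁻¹ᵁ V) from
      (adj.unit.app G).app V s) from map_id' (M := (Scheme.Modules.pullback π).obj G) _ _]
    have h1 : adj.unit.app G ≫ (Scheme.Modules.pushforward π).map (ψ σ) = r σ :=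
      (adj.homEquiv_unit ..).symm.trans ((adj.homEquiv G (T σ)).apply_symm_apply (r σ))
    show (adj.unit.app G ≫ (Scheme.Modules.pushforward π).map (ψ σ)).app V s = _
    rw [h1]
    simp only [r, Scheme.Modules.Hom.comp_app, Scheme.Modules.pushforwardComp_inv_app_app,
      Scheme.Modules.pushforwardCongr_hom_app_app]
    rfl
  let Ψ : (Scheme.Modules.pullback π).obj G ⟶ ⨁ T := biproduct.lift ψ
  have hΨ : ∀ σ W z, (biproduct.π T σ).app W (Ψ.app W z) = (ψ σ).app W z := fun σ W z => by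
    show (Ψ ≫ biproduct.π T σ).app W z = _
    rw [biproduct.lift_π]
  haveI : IsIso Ψ := by
    refine GrModX.isIso_of_bijective_affineCover Ψ (isQCoh_pullback π hG)
      (QCoh.isQCoh_biproduct T fun σ => isQCoh_pushforward (g σ) hL)
      (fun V : X.affineOpens => π ⁻¹ᵁ V.1) (fun x => ?_) (fun V => V.2.preimage π) (fun V => ?_)
    · obtain ⟨_, ⟨V, hV, rfl⟩, hxV, -⟩ := X.isBasis_affineOpens.exists_subset_of_mem_open (Set.mem_univ (π x)) isOpen_univ
      exact ⟨⟨V, hV⟩, hxV⟩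
    letI mk : Module k Γ(G, V.1) := secModule (Coh.toGlobal p) G V.1
    letI mN : Module k Γ(L, π ⁻¹ᵁ V.1) := mk
    letI mK : Module K Γ(L, π ⁻¹ᵁ V.1) := secModule (Coh.toGlobal p') L (π ⁻¹ᵁ V.1)
    haveI : IsScalarTower k K Γ(L, π ⁻¹ᵁ V.1) := by
      refine IsScalarTower.of_algebraMap_smul fun a s => ?_
      show sc p' (π ⁻¹ᵁ V.1) (algebraMap k K a) • s = (π.app V.1 (sc p V.1 a)) • s
      rw [← app_sc h, Scheme.Hom.appLE_eq_app]
    obtain ⟨e, he⟩ := exists_tensor h hG V.2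
    let Θ := galTensorMap k K Γ(L, π ⁻¹ᵁ V.1)
    have key : ∀ (z : K ⊗[k] Γ(G, V.1)) σ, (ψ σ).app (π ⁻¹ᵁ V.1) (e z) =
        (show Γ(T σ, π ⁻¹ᵁ V.1) from L.presheaf.map (homOfLE (hpre σ V.1).le).op (Θ z σ)) := by
      intro z σ
      induction z using TensorProduct.induction_on with
      | zero => simp only [map_zero, Pi.zero_apply]
      | add a b ha hb => simp only [map_add, Pi.add_apply, ha, hb]
      | tmul c s =>
        rw [he, Scheme.Modules.Hom.app_smul, hψ, galTensorMap_tmul]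
        show (g σ).app (π ⁻¹ᵁ V.1) (sc p' (π ⁻¹ᵁ V.1) c) •
            L.presheaf.map (homOfLE (hpre σ V.1).le).op (show Γ(L, π ⁻¹ᵁ V.1) from s) =
          L.presheaf.map (homOfLE (hpre σ V.1).le).op (sc p' (π ⁻¹ᵁ V.1) (σ c) • (show Γ(L, π ⁻¹ᵁ V.1) from s))
        rw [app_sc_of_comm (σ : K →+* K) (hgp σ), L.map_smul]
        congr 1
        exact (res_sc p' (hpre σ V.1).le (σ c)).symm
    have hres : ∀ σ, Function.Bijective (L.presheaf.map (homOfLE (hpre σ V.1).le).op) := fun σ => by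
      haveI : IsIso (homOfLE (hpre σ V.1).le) := ⟨homOfLE (hpre σ V.1).ge, Subsingleton.elim _ _, Subsingleton.elim _ _⟩
      exact ConcreteCategory.bijective_of_isIso _
    have hΘ := bijective_galTensorMap k K Γ(L, π ⁻¹ᵁ V.1)
    refine ⟨?_, fun y => ?_⟩
    · rw [injective_iff_map_eq_zero]
      intro x hx
      obtain ⟨z, rfl⟩ := e.surjective x
      have hz : Θ z = 0 := funext fun σ => (hres σ).1 ((key z σ).symm.trans (((hΨ σ _ _).symm.trans
        ((congrArg ((biproduct.π T σ).app _) hx).trans (map_zero _))).trans (map_zero _).symm))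
      rw [(injective_iff_map_eq_zero Θ).1 hΘ.1 z hz, map_zero]
    · choose t ht using fun σ => (hres σ).2 ((biproduct.π T σ).app (π ⁻¹ᵁ V.1) y)
      obtain ⟨z, hz⟩ := hΘ.2 t
      refine ⟨e z, sect_eq_of_biproduct _ _ fun σ => ?_⟩
      rw [hΨ, key, show Θ z σ = t σ from congrFun hz σ]
      exact ht σ
  exact ⟨asIso Ψ⟩

end Groth.Agent.ASBunLib
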