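import Groth.Agent.ASBunLib.Multiplicity
import Groth.Agent.Lib.InvEnd
import Groth.Agent.PnPic.Twist
import Groth.Agent.H23.PnChart
import Groth.Prelude.Def_BrSev

/-!
# Scalars and twists on a split Severi–Brauer variety
-/

noncomputable section

set_option linter.style.haveILetI false
set_option linter.unusedSectionVars false
set_option backward.isDefEq.respectTransparency false
set_option backward.isDefEq.respectTransparency.types false

universe u

open CategoryTheory CategoryTheory.Limits AlgebraicGeometry TopologicalSpace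

namespace Groth.Agent.ASBunLib

open Groth.Agent
open scoped Groth.Agent.H23.PicMul

variable {k K : Type u} [Field k] [Field K] [Algebra k K] {X : Scheme.{u}} {f : X ⟶ Spec (CommRingCat.of k)} {n : ℕ}
  (e : BrSev.Splitting f K n)

include e in
theorem isIntegral_bc : IsIntegral (BrSev.bc f K) := by
  haveI : IsIntegral (CohB1.ProjSpace n K) := H23.PnChart.isIntegral_projSpace n K
  haveI : Nonempty ↥(BrSev.bc f K) := ⟨e.iso.inv (Classical.arbitrary ↥(CohB1.ProjSpace n K))⟩
  exact isIntegral_of_isOpenImmersion e.iso.hom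

theorem surjective_toGlobal {Y : Scheme.{u}} [IsAlgClosed K] [Y.Over (Spec (CommRingCat.of K))] [IsIntegral Y]
    [IsProper (Y ↘ Spec (CommRingCat.of K))] :
    Function.Surjective (Coh.toGlobal (Y ↘ Spec (CommRingCat.of K))) := by
  intro a
  obtain ⟨c, hc⟩ := (InvEnd.exists_scalar (k := K) (PicLoc.isInvertible_structureModule Y)).2
    (CurveEnd.smulMod (Coh.structureModule Y) a : End (Coh.structureModule Y))
  refine ⟨c, ?_⟩
  have key : ∀ b : Γ(Y, ⊤), (show Γ(Y, ⊤) from (CurveEnd.smulMod (Coh.structureModule Y) b).app ⊤ (1 : Γ(Y, ⊤))) = b := fun b => by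
    show (Y.presheaf.map (homOfLE (le_top : (⊤ : Y.Opens) ≤ ⊤)).op b : Γ(Y, ⊤)) * 1 = b
    rw [mul_one, show (homOfLE (le_top : (⊤ : Y.Opens) ≤ ⊤)).op = 𝟙 (Opposite.op (⊤ : Y.Opens)) from Subsingleton.elim _ _,
      CategoryTheory.Functor.map_id]
    rfl
  exact (key _).symm.trans ((congrArg (fun g : Coh.structureModule Y ⟶ Coh.structureModule Y =>
    (show Γ(Y, ⊤) from g.app ⊤ (1 : Γ(Y, ⊤)))) hc).trans (key a))

theorem isInvertible_twist (j : ℤ) : PicF.IsInvertible (e.twist j) :=
  PicLoc.isInvertible_pullback e.iso.hom (PnPic.isInvertible_twistProjSpace n K j)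

theorem cl_twist_add' (a b : ℤ) : PicF.cl (e.twist a) * PicF.cl (e.twist b) = PicF.cl (e.twist (a + b)) :=
  (H23.PicMul.pullCl_mul e.iso.hom _ _).symm.trans (congrArg (PicF.pullCl e.iso.hom) (PnPic.cl_twistProjSpace_add n K a b))

theorem cl_twist_zero' : PicF.cl (e.twist 0) = 1 :=
  (congrArg (PicF.pullCl e.iso.hom) (PnPic.cl_twistProjSpace_zero n K)).trans (H23.PicMul.pullCl_one _)

theorem nonempty_twist_inverse (j : ℤ) :
    Nonempty (CohB1.tensorMod (e.twist j) (e.twist (-j)) ≅ Coh.structureModule (BrSev.bc f K)) := by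
  rw [← PicGrp.cl_eq_cl_iff]
  refine (H23.PicMul.cl_tensor _ _).trans ?_
  rw [cl_twist_add', add_neg_cancel, cl_twist_zero']
  rfl

end Groth.Agent.ASBunLib
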