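import Groth.Agent.ASBunLib.TwistAut
import Groth.Agent.ASBunLib.SplitScalars
import Groth.Agent.ASBunLib.PushGalois
import Groth.Agent.ProjX.Chart
import Groth.Agent.PerfGen7.ResDescend

/-!
# Bundles of twisting type on a variety split by a finite Galois extension
-/

noncomputable section

set_option linter.style.haveILetI false
set_option linter.unusedSectionVars false
set_option backward.isDefEq.respectTransparency false
set_option backward.isDefEq.respectTransparency.types false
set_option maxHeartbeats 1000000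

universe u

open CategoryTheory CategoryTheory.Limits AlgebraicGeometry TopologicalSpace

namespace Groth.Agent.ASBunLib

open Groth.Agent

/-- Pushing forward along an automorphism fixing a class gives the same module. -/
theorem nonempty_pushforward_iso {Y : Scheme.{u}} (g : Y ⟶ Y) [IsIso g] {L : Y.Modules}
    (hL : PicF.pullCl g (PicF.cl L) = PicF.cl L) : Nonempty ((Scheme.Modules.pushforward g).obj L ≅ L) := by
  obtain ⟨a⟩ := (PicGrp.cl_eq_cl_iff _ _).1 hL
  let e : Y.Modules ≌ Y.Modules := CategoryTheory.Equivalence.mk (Scheme.Modules.pullback g) (Scheme.Modules.pullback (inv g))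
    ((Scheme.Modules.pullbackComp (inv g) g ≪≫ Scheme.Modules.pullbackCongr (IsIso.inv_hom_id g) ≪≫
      Scheme.Modules.pullbackId Y).symm)
    (Scheme.Modules.pullbackComp g (inv g) ≪≫ Scheme.Modules.pullbackCongr (IsIso.hom_inv_id g) ≪≫
      Scheme.Modules.pullbackId Y)
  haveI : (Scheme.Modules.pullback g).IsEquivalence := e.isEquivalence_functor
  haveI := Scheme.Modules.pullbackPushforwardAdjunction g
  exact ⟨(Scheme.Modules.pushforward g).mapIso a.symm ≪≫
    (asIso ((Scheme.Modules.pullbackPushforwardAdjunction g).unit.app L)).symm⟩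

theorem nonempty_powM_card {Y : Scheme.{u}} {β : Type u} [Fintype β] (M : Y.Modules) [HasFiniteBiproducts Y.Modules] :
    Nonempty ((⨁ fun _ : β => M) ≅ powM M (Fintype.card β)) :=
  ⟨biproduct.whiskerEquiv (Fintype.equivFin β) (fun _ => Iso.refl M) ≪≫ (nonempty_pow_biproduct M _).some.symm⟩

variable {k : Type u} [Field k] {X : Scheme.{u}} {f : X ⟶ Spec (CommRingCat.of k)} {n : ℕ}

theorem isFinLocFree_proj (f : X ⟶ Spec (CommRingCat.of k)) (K : Type u) [Field K] [Algebra k K] [Module.Finite k K] :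
    Mor2.IsFinLocFree (BrSev.proj f K) := by
  have h := (IsPullback.of_hasPullback f (Spec.map (CommRingCat.ofHom (algebraMap k K)))).flip
  haveI hfin : IsFinite (Spec.map (CommRingCat.ofHom (algebraMap k K))) :=
    (IsFinite.SpecMap_iff _).2 (RingHom.finite_algebraMap.2 inferInstance)
  haveI : Flat (Spec.map (CommRingCat.ofHom (algebraMap k K))) := by
    rw [HasRingHomProperty.Spec_iff (P := @Flat), CommRingCat.hom_ofHom, RingHom.flat_algebraMap_iff]
    infer_instance
  haveI : LocallyOfFinitePresentation (Spec.map (CommRingCat.ofHom (algebraMap k K))) :=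
    (HasRingHomProperty.Spec_iff (P := @LocallyOfFinitePresentation)).2
      (RingHom.finitePresentation_algebraMap.2 (Algebra.FinitePresentation.of_finiteType.1 inferInstance))
  exact ⟨MorphismProperty.of_isPullback h inferInstance, MorphismProperty.of_isPullback h inferInstance,
    MorphismProperty.of_isPullback h inferInstance⟩

variable (f) in
/-- A bundle which becomes a sum of copies of `O(j)` over a finite Galois splitting. -/
theorem exists_type_galois {K : Type u} [Field K] [Algebra k K] [FiniteDimensional k K] [IsGalois k K]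
    (e : BrSev.Splitting f K n) (j : ℤ) :
    ∃ (M : X.Modules) (m : ℕ), FlatMod.IsFinLocFree M ∧ 0 < m ∧ BrSev.IsTwPow e j m M := by
  classical
  let B := BrSev.bc f K
  haveI := Abelian.hasFiniteBiproducts (C := B.Modules)
  let g : (K ≃ₐ[k] K) → (B ⟶ B) := fun σ => pullback.lift (BrSev.proj f K)
    (BrSev.bcTo f K ≫ Spec.map (CommRingCat.ofHom (σ : K →+* K))) (by
      rw [Category.assoc, ← Spec.map_comp, ← CommRingCat.ofHom_comp, pullback.condition]
      congr 3
      ext x
      simp)
  have hgπ : ∀ σ, g σ ≫ BrSev.proj f K = BrSev.proj f K := fun σ => pullback.lift_fst _ _ _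
  have hgp : ∀ σ, g σ ≫ BrSev.bcTo f K = BrSev.bcTo f K ≫ Spec.map (CommRingCat.ofHom (σ : K →+* K)) := fun σ =>
    pullback.lift_snd _ _ _
  have hgg : ∀ σ, g σ ≫ g σ.symm = 𝟙 _ := fun σ => by
    apply pullback.hom_ext
    · rw [Category.assoc, hgπ, hgπ, Category.id_comp]
    · rw [Category.assoc, hgp, ← Category.assoc, hgp, Category.assoc, ← Spec.map_comp, ← CommRingCat.ofHom_comp, Category.id_comp]
      convert Category.comp_id (BrSev.bcTo f K)
      rw [← Spec.map_id]
      congr 1
      ext x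
      simp
  haveI : ∀ σ, IsIso (g σ) := fun σ => ⟨g σ.symm, hgg σ, by simpa using hgg σ.symm⟩
  have hinv : ∀ σ, PicF.pullCl (g σ) (PicF.cl (e.twist j)) = PicF.cl (e.twist j) := fun σ => by
    show PicF.pullCl (g σ) (PicF.pullCl e.iso.hom (PicF.cl (Twist.twistProjSpace n K j))) =
      PicF.pullCl e.iso.hom (PicF.cl (Twist.twistProjSpace n K j))
    rw [PicClLib.pullCl_comp, show g σ ≫ e.iso.hom = e.iso.hom ≫ (e.iso.symm ≪≫ asIso (g σ) ≪≫ e.iso).hom by simp,
      ← PicClLib.pullCl_comp, pullCl_twist_iso]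
  have hL := isInvertible_twist e j
  have hLf := H23.PullPush.isFinLocFree_of_isInvertible hL
  refine ⟨(Scheme.Modules.pushforward (BrSev.proj f K)).obj (e.twist j), Fintype.card (K ≃ₐ[k] K),
    PerfGen7.ResDescend.isFinLocFree_pushforward _ (isFinLocFree_proj f K) hLf, Fintype.card_pos, ?_⟩
  obtain ⟨Ψ⟩ := nonempty_pullback_push (IsPullback.of_hasPullback f (Spec.map (CommRingCat.ofHom (algebraMap k K))))
    g hgπ hgp (L := e.twist j) (QCoh.isQCoh_of_isFinLocFree hLf)
  exact ⟨Ψ ≪≫ biproduct.mapIso (fun σ => (nonempty_pushforward_iso (g σ) (hinv σ)).some) ≪≫ (nonempty_powM_card _).some⟩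

/-- Twisting types do not depend on the splitting, along an embedding of fields. -/
theorem isTwPow_of_algHom {K K' : Type u} [Field K] [Field K'] [Algebra k K] [Algebra k K'] (φ : K →ₐ[k] K')
    (e : BrSev.Splitting f K n) (e' : BrSev.Splitting f K' n) {j : ℤ} {m : ℕ} {M : X.Modules}
    (hM : BrSev.IsTwPow e j m M) : BrSev.IsTwPow e' j m M := by
  obtain ⟨a⟩ := hM
  have hsp : Spec.map (CommRingCat.ofHom (φ : K →+* K')) ≫ Spec.map (CommRingCat.ofHom (algebraMap k K)) =
      Spec.map (CommRingCat.ofHom (algebraMap k K')) := by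
    rw [← Spec.map_comp, ← CommRingCat.ofHom_comp, φ.comp_algebraMap]
  let q : BrSev.bc f K' ⟶ BrSev.bc f K := pullback.lift (BrSev.proj f K')
    (BrSev.bcTo f K' ≫ Spec.map (CommRingCat.ofHom (φ : K →+* K'))) (by rw [Category.assoc, hsp, pullback.condition])
  have hq : q ≫ BrSev.proj f K = BrSev.proj f K' := pullback.lift_fst _ _ _
  have hq2 : q ≫ BrSev.bcTo f K = BrSev.bcTo f K' ≫ Spec.map (CommRingCat.ofHom (φ : K →+* K')) := pullback.lift_snd _ _ _
  have hsq : IsPullback q (BrSev.bcTo f K') (BrSev.bcTo f K) (Spec.map (CommRingCat.ofHom (φ : K →+* K'))) := by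
    refine IsPullback.of_right ?_ hq2 (IsPullback.of_hasPullback f (Spec.map (CommRingCat.ofHom (algebraMap k K))))
    rw [hq, hsp]
    exact IsPullback.of_hasPullback f (Spec.map (CommRingCat.ofHom (algebraMap k K')))
  have h₁ : IsPullback (q ≫ e.iso.hom) (BrSev.bcTo f K') (CohB1.ProjSpace.toSpec n K)
      (Spec.map (CommRingCat.ofHom (φ : K →+* K'))) :=
    hsq.of_iso (Iso.refl _) e.iso (Iso.refl _) (Iso.refl _) (by simp) (by simp)
      (by simpa using e.comm.symm) (by simp)
  let σ := h₁.isoIsPullback _ _ (ProjX.isPullback_pmap n (φ : K →+* K'))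
  have hσ : σ.hom ≫ ProjX.pmap n (φ : K →+* K') = q ≫ e.iso.hom := h₁.isoIsPullback_hom_fst _ _ _
  have key : PicF.pullCl q (PicF.cl (e.twist j)) = PicF.cl (e'.twist j) := by
    show PicF.pullCl q (PicF.pullCl e.iso.hom (PicF.cl (Twist.twistProjSpace n K j))) =
      PicF.pullCl e'.iso.hom (PicF.cl (Twist.twistProjSpace n K' j))
    rw [PicClLib.pullCl_comp, ← hσ, show σ.hom = e'.iso.hom ≫ (e'.iso.symm ≪≫ σ).hom by simp, Category.assoc,
      ← PicClLib.pullCl_comp, ← PicClLib.pullCl_comp (e'.iso.symm ≪≫ σ).hom, PnPic.pullCl_pmap_twist, pullCl_twist_iso]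
  obtain ⟨b⟩ := (PicGrp.cl_eq_cl_iff _ _).1 key
  obtain ⟨c⟩ := nonempty_pullback_pow q (e.twist j) m
  exact ⟨(Scheme.Modules.pullbackCongr hq.symm).app M ≪≫ (Scheme.Modules.pullbackComp q (BrSev.proj f K)).symm.app M ≪≫
    (Scheme.Modules.pullback q).mapIso a ≪≫ c ≪≫ Sigma.mapIso (fun _ => b)⟩

end Groth.Agent.ASBunLib
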