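import Groth.Agent.ASBunLib.RelPn
import Groth.Agent.ASBunLib.SplitPt
import Groth.Agent.ASBunLib.TypeExists
import Groth.Agent.QCoh.DevissageSum
import Groth.Agent.FTDescent.FP
import Groth.Agent.RGLib.Lim8Exact
import Groth.Agent.KFlatLib.Perfect.Tensor

/-!
# The bundle of type `O(-1)` with multiplicity the degree on a Severi–Brauer variety
-/

noncomputable section

set_option linter.style.haveILetI false
set_option linter.unusedSectionVars false
set_option backward.isDefEq.respectTransparency false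
set_option backward.isDefEq.respectTransparency.types false
set_option maxHeartbeats 1000000

universe u

open CategoryTheory CategoryTheory.Limits AlgebraicGeometry TopologicalSpace Opposite
open scoped TensorProduct

namespace Groth.Agent.ASBunLib

open Groth.Agent Groth.Agent.AModX Groth.Agent.SBAut RelPn

/-- A point of a scheme over an affine base. -/
theorem fromSpecStalk_comp {R : Type u} [CommRing R] {Y : Scheme.{u}} (p : Y ⟶ Spec (CommRingCat.of R)) (z : Y) :
    Y.fromSpecStalk z ≫ p =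
      Spec.map (CommRingCat.ofHom ((Y.presheaf.germ ⊤ z trivial).hom.comp (Coh.toGlobal p))) := by
  have h1 : p = Y.toSpecΓ ≫ Spec.map ((Scheme.ΓSpecIso (CommRingCat.of R)).inv ≫ p.appTop) := by
    rw [Spec.map_comp, ← Category.assoc, ← Scheme.toSpecΓ_naturality, Category.assoc, toSpecΓ_SpecMap_ΓSpecIso_inv,
      Category.comp_id]
  conv_lhs => rw [h1]
  rw [← Category.assoc, Scheme.fromSpecStalk_toSpecΓ, ← Spec.map_comp]
  rfl

section MatPush

variable {X P : Scheme.{u}} (π : P ⟶ X) [HasFiniteBiproducts X.Modules] [HasFiniteBiproducts P.Modules]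
  {ι κ μ : Type} [Fintype ι] [Fintype κ] [Fintype μ]

theorem app_rtop (U : X.Opens) (a : Γ(X, ⊤)) : π.app U (rtop U a) = rtop (π ⁻¹ᵁ U) (π.appTop a) :=
  congr($(π.naturality (homOfLE (le_top : U ≤ ⊤)).op) a)

theorem mat_comp_frPush (d : μ → ι → Γ(X, ⊤)) (c : ι → κ → Γ(P, ⊤)) :
    mat d ≫ frPush π c = frPush π fun l p => ∑ i, π.appTop (d l i) * c i p := by
  refine Scheme.Modules.hom_ext _ _ fun U => ?_
  ext x
  refine crd_ext (Y := P) fun p => ?_
  show crd (show Γ(fr P κ, π ⁻¹ᵁ U) from (frPush π c).app U ((mat d).app U x)) p =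
    crd (show Γ(fr P κ, π ⁻¹ᵁ U) from (frPush π _).app U x) p
  rw [crd_frPush, crd_frPush]
  simp only [crd_mat, map_sum, map_mul, Finset.mul_sum, Finset.sum_mul, app_rtop]
  rw [Finset.sum_comm]
  exact Finset.sum_congr rfl fun l _ => Finset.sum_congr rfl fun i _ => by ring

theorem frPush_comp_mat (c : ι → κ → Γ(P, ⊤)) (d : κ → μ → Γ(P, ⊤)) :
    frPush π c ≫ (Scheme.Modules.pushforward π).map (mat d) = frPush π fun l p => ∑ q, c l q * d q p := by
  refine Scheme.Modules.hom_ext _ _ fun U => ?_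
  ext x
  refine crd_ext (Y := P) fun p => ?_
  show crd ((mat d).app (π ⁻¹ᵁ U) (show Γ(fr P κ, π ⁻¹ᵁ U) from (frPush π c).app U x)) p =
    crd (show Γ(fr P μ, π ⁻¹ᵁ U) from (frPush π _).app U x) p
  rw [crd_mat, crd_frPush]
  simp only [crd_frPush, map_sum, map_mul, Finset.mul_sum, Finset.sum_mul]
  rw [Finset.sum_comm]
  exact Finset.sum_congr rfl fun l _ => Finset.sum_congr rfl fun i _ => by ring

end MatPush

variable {k : Type u} [Field k] {A : Type u} [Ring A] [Algebra k A] {K : Type u} [Field K] [Algebra k K]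
  {m : ℕ} (Φ : K ⊗[k] A ≃ₐ[K] Matrix (Fin (m + 1)) (Fin (m + 1)) K)
  (hA : Module.finrank k A = (m + 1) * (m + 1))
  {X : Scheme.{u}} {f : X ⟶ Spec (CommRingCat.of k)}
  (s : BrSev.SBStr k A ((m + 1) * (m + 1) - (m + 1)) f)
  (e : BrSev.Splitting f K m)
  (he : ∀ (R : Type u) [CommRing R] [Algebra k R] [Algebra K R] [IsScalarTower k K R]
    (v : Fin (m + 1) → R) (i : Fin (m + 1)) (hu : IsUnit (v i)),
    SBSplit.pt K v i hu ≫ e.iso.inv = SBSplit.toXK Φ hA s v i hu)
  (b : Module.Basis (Fin (m + 1) × Fin (m + 1)) k A)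

/-- The covering of the variety by projective space. -/
abbrev cover : Pn m K ⟶ X := e.iso.inv ≫ BrSev.proj f K

theorem isPullback_cover : IsPullback (cover e) (CohB1.ProjSpace.toSpec m K) f
    (Spec.map (CommRingCat.ofHom (algebraMap k K))) :=
  (IsPullback.of_hasPullback f (Spec.map (CommRingCat.ofHom (algebraMap k K)))).of_iso e.iso (Iso.refl _)
    (Iso.refl _) (Iso.refl _) (by simp [cover]) (by simpa using e.comm.symm) (by simp) (by simp)

/-- Constant functions on projective space. -/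
abbrev cst (a : K) : Γ(Pn m K, ⊤) := Coh.toGlobal (CohB1.ProjSpace.toSpec m K) a

/-- The coordinates of a basis. -/
def cmat (l p : Fin (m + 1) × Fin (m + 1)) : Γ(Pn m K, ⊤) := cst (Φ ((1 : K) ⊗ₜ[k] b l) p.1 p.2)

/-- Membership of a vector of functions in the ideal of an affine open. -/
def Mem {U : X.Opens} (hU : IsAffineOpen U) (y : Fin (m + 1) × Fin (m + 1) → Γ(X, U)) : Prop :=
  letI : Algebra k Γ(X, U) := algOf f hU.fromSpec
  (∑ l, y l ⊗ₜ[k] b l) ∈ (s.bij Γ(X, U) ⟨hU.fromSpec, algOf_spec f hU.fromSpec⟩).1.toSubmodule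

/-- The matrix of functions attached to a vector of functions. -/
def gmat {U : X.Opens} (y : Fin (m + 1) × Fin (m + 1) → Γ(X, U)) (p : Fin (m + 1) × Fin (m + 1)) :
    Γ(Pn m K, cover e ⁻¹ᵁ U) :=
  ∑ l, rtop (cover e ⁻¹ᵁ U) (cmat Φ b l p) * (cover e).app U (y l)

include he in
theorem key {U : X.Opens} (hU : IsAffineOpen U) (z : Pn m K) (hz : z ∈ cover e ⁻¹ᵁ U) (i : Fin (m + 1)) (hi : z ∈ D i) :
    (∀ y, Mem s b hU y → ∀ r j, (Pn m K).presheaf.germ _ z hz (gmat Φ e b y (r, j)) =
        (Pn m K).presheaf.germ _ z hz (gmat Φ e b y (r, i)) * (Pn m K).presheaf.germ (D i) z hi (c i j)) ∧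
      ∀ T : Submodule ((Pn m K).presheaf.stalk z) (Fin (m + 1) × Fin (m + 1) → (Pn m K).presheaf.stalk z),
        (∀ y, Mem s b hU y → (fun p => (Pn m K).presheaf.germ _ z hz (gmat Φ e b y p)) ∈ T) →
        ∀ q, (fun p : Fin (m + 1) × Fin (m + 1) =>
          if p.1 = q then (Pn m K).presheaf.germ (D i) z hi (c i p.2) else 0) ∈ T := by
  classical
  let O : Type u := (Pn m K).presheaf.stalk z
  letI : Algebra K O := (((Pn m K).presheaf.germ ⊤ z trivial).hom.comp (Coh.toGlobal (CohB1.ProjSpace.toSpec m K))).toAlgebra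
  letI : Algebra k O := ((algebraMap K O).comp (algebraMap k K)).toAlgebra
  haveI : IsScalarTower k K O := IsScalarTower.of_algebraMap_eq' rfl
  letI : Algebra k Γ(X, U) := algOf f hU.fromSpec
  have hK : (Pn m K).fromSpecStalk z ≫ CohB1.ProjSpace.toSpec m K = Spec.map (CommRingCat.ofHom (algebraMap K O)) :=
    fromSpecStalk_comp _ z
  have halg : ∀ a : K, algebraMap K O a = (Pn m K).presheaf.germ (D i) z hi
      ((Proj.awayToSection (CohB1.polyGrading m K) (MvPolynomial.X i)).hom (SBSplit.constHom i a)) := by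
    have h1 : Spec.map (CommRingCat.ofHom (SBSplit.constHom i) ≫
        Proj.awayToSection (CohB1.polyGrading m K) (MvPolynomial.X i) ≫ (Pn m K).presheaf.germ (D i) z hi) =
        Spec.map (CommRingCat.ofHom (algebraMap K O)) := by
      rw [Spec.map_comp, ← hK, fromSpecStalk_eq_away z i hi, Category.assoc]
      exact congrArg (_ ≫ ·) (SBSplit.awayι_toSpec i).symm
    intro a
    exact (RingHom.congr_fun (congrArg CommRingCat.Hom.hom (Spec.map_injective h1)) a).symm
  let v : Fin (m + 1) → O := fun j => (Pn m K).presheaf.germ (D i) z hi (c i j)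
  have hvi : v i = 1 := by simp only [v, c_self, map_one]
  have hu : IsUnit (v i) := hvi ▸ isUnit_one
  have hpt : (Pn m K).fromSpecStalk z = SBSplit.pt K v i hu := fromSpecStalk_eq_pt z i hi halg hu
  have hpt2 : SBSplit.pt K v i hu ≫ cover e = ((s.bij O).symm (SBSplit.vecPtG Φ hA m.succ_pos v i hu)).1 :=
    ((Category.assoc _ _ _).symm.trans (congrArg (· ≫ BrSev.proj f K) (he O v i hu))).trans (pullback.lift_fst _ _ _)
  let φ₀ : Γ(X, U) →+* O := ((Pn m K).presheaf.germ _ z hz).hom.comp ((cover e).app U).hom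
  have hφ₀ : Spec.map (CommRingCat.ofHom φ₀) ≫ hU.fromSpec = (Pn m K).fromSpecStalk z ≫ cover e := by
    have h1 : CommRingCat.ofHom φ₀ = X.presheaf.germ U (cover e z) hz ≫ (cover e).stalkMap z :=
      (Scheme.Hom.germ_stalkMap (cover e) U z hz).symm
    rw [h1, Spec.map_comp, Category.assoc, ← Scheme.SpecMap_stalkMap_fromSpecStalk,
      ← hU.fromSpecStalk_eq_fromSpecStalk hz]
    rfl
  obtain ⟨φ, hφP, hφ⟩ := factor_through f hU.fromSpec ((s.bij O).symm (SBSplit.vecPtG Φ hA m.succ_pos v i hu))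
    (Spec.map (CommRingCat.ofHom φ₀)) (by rw [hφ₀, hpt, hpt2])
  have hφe : ∀ a, φ a = φ₀ a := RingHom.congr_fun (congrArg CommRingCat.Hom.hom (Spec.map_injective hφ))
  have hN : sbMap φ (s.bij Γ(X, U) ⟨hU.fromSpec, algOf_spec f hU.fromSpec⟩) = SBSplit.vecPtG Φ hA m.succ_pos v i hu := by
    rw [← bij_map, hφP, Equiv.apply_symm_apply]
  have hG : ∀ (y : Fin (m + 1) × Fin (m + 1) → Γ(X, U)) (p : Fin (m + 1) × Fin (m + 1)),
      splitHom Φ O (bc φ (∑ l, y l ⊗ₜ[k] b l)) p.1 p.2 = (Pn m K).presheaf.germ _ z hz (gmat Φ e b y p) := by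
    intro y p
    rw [gmat, map_sum, map_sum, map_sum, Matrix.sum_apply]
    refine Finset.sum_congr rfl fun l _ => ?_
    rw [bc_tmul, splitHom_tmul, Matrix.smul_apply, Matrix.map_apply, smul_eq_mul, hφe, map_mul]
    refine (mul_comm _ _).trans ?_
    show _ * φ₀ (y l) = _ * φ₀ (y l)
    congr 1
    exact (TopCat.Presheaf.germ_res_apply (Pn m K).presheaf (homOfLE le_top) z hz _).symm
  refine ⟨fun y hy r j => ?_, fun T hT q => ?_⟩
  · have h1 : bc φ (∑ l, y l ⊗ₜ[k] b l) ∈ (SBSplit.vecPtG Φ hA m.succ_pos v i hu).1.toSubmodule := by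
      rw [← hN]
      exact mem_map_of_mem _ _ hy
    have h2 := (SBSplit.mem_vecPtG Φ hA m.succ_pos hu _).1 h1 r j i
    rw [hvi, mul_one, hG y (r, j)] at h2
    refine h2.trans ?_
    rw [hG y (r, i)]
  · let L : O ⊗[k] A →ₗ[O] (Fin (m + 1) × Fin (m + 1) → O) :=
      { toFun := fun x p => splitHom Φ O x p.1 p.2
        map_add' := fun x y => funext fun p => by simp
        map_smul' := fun a x => funext fun p => by simp }
    have hle : (SBSplit.vecPtG Φ hA m.succ_pos v i hu).1.toSubmodule ≤ T.comap L := by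
      rw [← hN]
      show (Module.Grassmannian.map φ _).toSubmodule ≤ _
      rw [map_toSubmodule_span, Submodule.span_le]
      rintro _ ⟨x, hx, rfl⟩
      let B := Algebra.TensorProduct.basis Γ(X, U) b
      have hxy : x = ∑ l, B.repr x l ⊗ₜ[k] b l := by
        conv_lhs => rw [← B.sum_repr x]
        exact Finset.sum_congr rfl fun l _ => by simp [B, TensorProduct.smul_tmul']
      have hy : Mem s b hU fun l => B.repr x l := by
        show (∑ l, B.repr x l ⊗ₜ[k] b l) ∈ _
        rw [← hxy]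
        exact hx
      show L (bc φ x) ∈ T
      rw [hxy, show L (bc φ (∑ l, B.repr x l ⊗ₜ[k] b l)) = _ from funext fun p => hG _ p]
      exact hT _ hy
    obtain ⟨x, hx⟩ := (splitHom_bijective Φ O hA m.succ_pos).2 (Matrix.of fun a j => if a = q then v j else 0)
    have hxm : x ∈ (SBSplit.vecPtG Φ hA m.succ_pos v i hu).1.toSubmodule := by
      rw [SBSplit.mem_vecPtG, hx]
      intro a c d
      simp only [Matrix.of_apply]
      split_ifs
      · ring
      · simp
    have h3 := hle hxm
    have h4 : L x = fun p : Fin (m + 1) × Fin (m + 1) => if p.1 = q then v p.2 else 0 := funext fun p => by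
      show splitHom Φ O x p.1 p.2 = _
      rw [hx]
      rfl
    exact h4 ▸ (h3 : L x ∈ T)

variable [HasFiniteBiproducts X.Modules] [HasFiniteBiproducts (Pn m K).Modules]

/-- The map cutting out the bundle. -/
def cut : fr X (Fin (m + 1) × Fin (m + 1)) ⟶ (Scheme.Modules.pushforward (cover e)).obj (cokernel (rows (m := m) (K := K))) :=
  frPush (cover e) (cmat Φ b) ≫ (Scheme.Modules.pushforward (cover e)).map (cokernel.π rows)

/-- The bundle. -/
def bundle : X.Modules := kernel (cut Φ e b)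

/-- The pullback of the bundle into matrices. -/
def emb : (Scheme.Modules.pullback (cover e)).obj (bundle Φ e b) ⟶ fr (Pn m K) (Fin (m + 1) × Fin (m + 1)) :=
  ((Scheme.Modules.pullbackPushforwardAdjunction (cover e)).homEquiv _ _).symm
    (kernel.ι (cut Φ e b) ≫ frPush (cover e) (cmat Φ b))

theorem emb_coker : emb Φ e b ≫ cokernel.π rows = 0 := by
  rw [emb, ← Adjunction.homEquiv_naturality_right_symm, Category.assoc]
  show _ = _
  rw [show frPush (cover e) (cmat Φ b) ≫ (Scheme.Modules.pushforward (cover e)).map (cokernel.π rows) = cut Φ e b from rfl,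
    kernel.condition, Adjunction.homEquiv_counit]
  haveI : (Scheme.Modules.pullback (cover e)).Additive :=
    (Scheme.Modules.pullbackPushforwardAdjunction (cover e)).left_adjoint_additive
  rw [Functor.map_zero, zero_comp]

/-- The comparison with sums of copies of `O(-1)`. -/
def toRows : (Scheme.Modules.pullback (cover e)).obj (bundle Φ e b) ⟶
    ⨁ fun _ : Fin (m + 1) => Twist.twistProjSpace m K (-1) :=
  Abelian.monoLift rows (emb Φ e b) (emb_coker Φ e b)

theorem toRows_rows : toRows Φ e b ≫ rows = emb Φ e b := Abelian.monoLift_comp _ _ _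

theorem cmat_mul (hA : Module.finrank k A = (m + 1) * (m + 1)) :
    ∃ d : Fin (m + 1) × Fin (m + 1) → Fin (m + 1) × Fin (m + 1) → Γ(Pn m K, ⊤),
      mat (cmat Φ b) ≫ mat d = 𝟙 _ ∧ mat d ≫ mat (cmat Φ b) = 𝟙 _ := by
  classical
  let B := (Algebra.TensorProduct.basis K b).map Φ.toLinearEquiv
  let S := Matrix.stdBasis K (Fin (m + 1)) (Fin (m + 1))
  have hB : ∀ l p, S.repr (B l) p = Φ ((1 : K) ⊗ₜ[k] b l) p.1 p.2 := fun l p => by
    obtain ⟨r, j⟩ := p
    simp [B, S, Matrix.stdBasis]
  refine ⟨fun p l => cst (B.repr (S p) l), ?_, ?_⟩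
  · rw [mat_comp_mat, mat_eq_of _ (fun i j => if i = j then (1 : Γ(Pn m K, ⊤)) else 0) (fun l l' => ?_), mat_id]
    have h := congrArg (fun x => B.repr x l') (S.sum_repr (B l))
    simp only [map_sum, map_smul, Finsupp.coe_finsetSum, Finset.sum_apply, Finsupp.smul_apply, smul_eq_mul,
      B.repr_self, Finsupp.single_apply, hB] at h
    simp only [cmat, cst]
    refine (Finset.sum_congr rfl fun _ _ => (map_mul _ _ _).symm).trans ?_
    rw [← map_sum, h]
    exact (apply_ite (Coh.toGlobal (CohB1.ProjSpace.toSpec m K)) _ _ _).trans (by rw [map_one, map_zero])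
  · rw [mat_comp_mat, mat_eq_of _ (fun i j => if i = j then (1 : Γ(Pn m K, ⊤)) else 0) (fun l l' => ?_), mat_id]
    have h := congrArg (fun x => S.repr x l') (B.sum_repr (S l))
    simp only [map_sum, map_smul, Finsupp.coe_finsetSum, Finset.sum_apply, Finsupp.smul_apply, smul_eq_mul,
      S.repr_self, Finsupp.single_apply, hB] at h
    simp only [cmat, cst]
    refine (Finset.sum_congr rfl fun _ _ => (map_mul _ _ _).symm).trans ?_
    rw [← map_sum, h]
    exact (apply_ite (Coh.toGlobal (CohB1.ProjSpace.toSpec m K)) _ _ _).trans (by rw [map_one, map_zero])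

include hA in
theorem mono_toRows [Flat (cover e)] : Mono (toRows Φ e b) := by
  haveI := RGLib.Lim8.preservesFiniteLimits_pullback (cover e)
  obtain ⟨d, hd1, hd2⟩ := cmat_mul Φ b hA
  haveI : IsIso (mat (cmat Φ b)) := ⟨mat d, hd1, hd2⟩
  obtain ⟨ε, hε⟩ := exists_adjunct (cover e) (cmat Φ b)
  haveI : Mono (emb Φ e b) := by
    rw [emb, Adjunction.homEquiv_naturality_left_symm, hε]
    infer_instance
  exact mono_of_mono_fac (toRows_rows Φ e b)

include he in
theorem exists_section_of_mem {U : X.Opens} (hU : IsAffineOpen U) {y : Fin (m + 1) × Fin (m + 1) → Γ(X, U)}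
    (hy : Mem s b hU y) :
    ∃ t : Γ((Scheme.Modules.pullback (cover e)).obj (bundle Φ e b), cover e ⁻¹ᵁ U),
      ∀ p, crd (rows.app _ ((toRows Φ e b).app _ t)) p = gmat Φ e b y p := by
  obtain ⟨x, hx⟩ := exists_sect (Y := X) y
  let G : Γ(fr (Pn m K) (Fin (m + 1) × Fin (m + 1)), cover e ⁻¹ᵁ U) := (frPush (cover e) (cmat Φ b)).app U x
  have hG : ∀ p, crd G p = gmat Φ e b y p := fun p => by
    refine (crd_frPush (cover e) (cmat Φ b) x p).trans ?_
    simp only [hx, gmat]
  have h0 : (cut Φ e b).app U x = 0 :=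
    cokernel_eq_zero G fun z hz i hi r j => by
      rw [hG, hG]
      exact (key Φ hA s e he b hU z hz i hi).1 y hy r j
  obtain ⟨w, hw⟩ := QCoh.exists_kernel_lift (cut Φ e b) U x h0
  refine ⟨((Scheme.Modules.pullbackPushforwardAdjunction (cover e)).unit.app (bundle Φ e b)).app U w, fun p => ?_⟩
  rw [← hG]
  congr 1
  have h0' : ((Scheme.Modules.pullbackPushforwardAdjunction (cover e)).homEquiv _ _) (emb Φ e b) =
      kernel.ι (cut Φ e b) ≫ frPush (cover e) (cmat Φ b) := Equiv.apply_symm_apply _ _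
  rw [Adjunction.homEquiv_unit, ← toRows_rows] at h0'
  have h1 := congrArg (fun ψ => ψ.app U w) h0'
  refine h1.trans ?_
  show (frPush (cover e) (cmat Φ b)).app U ((kernel.ι (cut Φ e b)).app U w) = _
  rw [hw]

theorem crd_rows_ι {U : (Pn m K).Opens} (x : Γ(Twist.twistProjSpace m K (-1), U)) (q : Fin (m + 1))
    (p : Fin (m + 1) × Fin (m + 1)) :
    crd (rows.app U ((biproduct.ι (fun _ : Fin (m + 1) => Twist.twistProjSpace m K (-1)) q).app U x)) p =
      if p.1 = q then crd (line.app U x) p.2 else 0 := by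
  obtain ⟨r, j⟩ := p
  rw [crd_rows]
  show crd (line.app U ((biproduct.ι (fun _ : Fin (m + 1) => Twist.twistProjSpace m K (-1)) q ≫
    biproduct.π (fun _ : Fin (m + 1) => Twist.twistProjSpace m K (-1)) r).app U x)) j = _
  split_ifs with h
  · subst h
    rw [biproduct.ι_π_self]
    rfl
  · rw [biproduct.ι_π_ne _ (Ne.symm h)]
    exact (congrArg (fun t => crd t j) (map_zero (line.app U).hom)).trans (map_zero _)

theorem crd_line_fe {i j : Fin (m + 1)} : crd (line.app (D i) (fe i)) j = c (m := m) (K := K) i j := by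
  have := crd_line (m := m) (K := K) i j le_rfl 1
  rwa [one_smul, res_self, one_mul, resR_self] at this

include he in
theorem epi_toRows : Epi (toRows Φ e b) := by
  classical
  refine Abelian.epi_of_cokernel_π_eq_zero _ ?_
  let C := cokernel.π (toRows Φ e b)
  refine biproduct.hom_ext' _ _ fun q => ?_
  rw [comp_zero]
  refine InvX.hom_ext_of_frames (fun i => D i) cov_D (fun i => fe i) isFrame_fe fun i => ?_
  show C.app (D i) ((biproduct.ι (fun _ : Fin (m + 1) => Twist.twistProjSpace m K (-1)) q).app (D i) (fe i)) = 0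
  refine eq_of_locally _ _ fun z hi => ?_
  obtain ⟨_, ⟨U, hU, rfl⟩, hzU, -⟩ :=
    X.isBasis_affineOpens.exists_subset_of_mem_open (Set.mem_univ (cover e z)) isOpen_univ
  have hz : z ∈ cover e ⁻¹ᵁ U := hzU
  let T : Submodule ((Pn m K).presheaf.stalk z) (Fin (m + 1) × Fin (m + 1) → (Pn m K).presheaf.stalk z) :=
    { carrier := {M | ∃ (W : (Pn m K).Opens) (hW : z ∈ W)
        (t : Γ((⨁ fun _ : Fin (m + 1) => Twist.twistProjSpace m K (-1)), W)),
        C.app W t = 0 ∧ ∀ p, (Pn m K).presheaf.germ W z hW (crd (rows.app W t) p) = M p}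
      zero_mem' := ⟨⊤, trivial, 0, map_zero _, fun p => by
        rw [map_zero, show crd (0 : Γ(fr (Pn m K) (Fin (m + 1) × Fin (m + 1)), ⊤)) p = 0 from map_zero _, map_zero]
        rfl⟩
      add_mem' := by
        rintro M M' ⟨W, hW, t, ht, hM⟩ ⟨W', hW', t', ht', hM'⟩
        refine ⟨W ⊓ W', ⟨hW, hW'⟩, res _ inf_le_left t + res _ inf_le_right t', ?_, fun p => ?_⟩
        · rw [map_add, app_res, app_res, ht, ht', map_zero, map_zero, add_zero]
        · rw [map_add, app_res, app_res, crd_add, crd_res', crd_res', map_add, InvX.germ_resR', InvX.germ_resR', hM, hM']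
          rfl
      smul_mem' := by
        rintro a M ⟨W, hW, t, ht, hM⟩
        obtain ⟨V, hV, a', rfl⟩ := (Pn m K).presheaf.exists_germ_eq (x := z) a
        refine ⟨V ⊓ W, ⟨hV, hW⟩, resR (inf_le_left : V ⊓ W ≤ V) a' • res _ (inf_le_right : V ⊓ W ≤ W) t, ?_, fun p => ?_⟩
        · rw [Scheme.Modules.Hom.app_smul, app_res, ht, map_zero, smul_zero]
        · rw [Scheme.Modules.Hom.app_smul, app_res, crd_smul, crd_res', map_mul, InvX.germ_resR', InvX.germ_resR', hM]
          rfl }
  have hT := (key Φ hA s e he b hU z hz i hi).2 T (fun y hy => by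
    obtain ⟨t, ht⟩ := exists_section_of_mem Φ hA s e he b hU hy
    exact ⟨_, hz, (toRows Φ e b).app _ t, congr(($(cokernel.condition (toRows Φ e b))).app _ t),
      fun p => by rw [ht]⟩) q
  obtain ⟨W, hW, t, ht, htp⟩ := hT
  let V := D i ⊓ W
  let w := (biproduct.ι (fun _ : Fin (m + 1) => Twist.twistProjSpace m K (-1)) q).app (D i) (fe i)
  obtain ⟨W', h', hzW', he'⟩ := exists_nhd_eq (W := V) (z := z) ⟨hi, hW⟩
    (fun p => crd (rows.app V (res _ (inf_le_left : V ≤ D i) w)) p)
    (fun p => crd (rows.app V (res _ (inf_le_right : V ≤ W) t)) p)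
    (fun p => by
      rw [app_res, app_res, crd_res', crd_res', InvX.germ_resR', InvX.germ_resR', htp, crd_rows_ι]
      split_ifs
      · rw [crd_line_fe]; simp [*]
      · simp [*])
  refine ⟨W', h'.trans inf_le_left, hzW', ?_⟩
  have hwt : res _ h' (res _ (inf_le_left : V ≤ D i) w) = res _ h' (res _ (inf_le_right : V ≤ W) t) := by
    refine QCoh.app_injective rows W' (crd_ext fun p => ?_)
    rw [app_res rows h', app_res rows h', crd_res', crd_res']
    exact he' p
  rw [map_zero, ← app_res, ← res_res (inf_le_left : V ≤ D i) h' w, hwt, res_res, app_res, ht, map_zero]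

/-- Left multiplication, on coordinates. -/
def lmul (a : A) (l l' : Fin (m + 1) × Fin (m + 1)) : Γ(X, ⊤) := Coh.toGlobal f (b.repr (a * b l) l')

/-- Left multiplication, on matrices. -/
def lmulM (a : A) (p p' : Fin (m + 1) × Fin (m + 1)) : Γ(Pn m K, ⊤) :=
  if p.2 = p'.2 then cst (Φ ((1 : K) ⊗ₜ[k] a) p'.1 p.1) else 0

theorem lmul_comp (a : A) :
    mat (lmul (f := f) b a) ≫ frPush (cover e) (cmat Φ b) =
      frPush (cover e) (cmat Φ b) ≫ (Scheme.Modules.pushforward (cover e)).map (mat (lmulM Φ a)) := by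
  classical
  rw [mat_comp_frPush, frPush_comp_mat]
  congr 1
  funext l p
  obtain ⟨r, j⟩ := p
  have h1 : ∀ i, (cover e).appTop (lmul (f := f) b a l i) = cst (algebraMap k K (b.repr (a * b l) i)) := fun i =>
    (QCoh.toGlobal_comm (pA := f) (pB := CohB1.ProjSpace.toSpec m K) (φ := cover e) (isPullback_cover e).w _).symm
  have h2 : ((1 : K) ⊗ₜ[k] (a * b l)) = ∑ i, algebraMap k K (b.repr (a * b l) i) • ((1 : K) ⊗ₜ[k] b i) := by
    conv_lhs => rw [← b.sum_repr (a * b l), TensorProduct.tmul_sum]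
    refine Finset.sum_congr rfl fun i _ => ?_
    rw [TensorProduct.tmul_smul, algebraMap_smul]
  have h3 : Φ ((1 : K) ⊗ₜ[k] (a * b l)) r j = ∑ x, Φ ((1 : K) ⊗ₜ[k] a) r x * Φ ((1 : K) ⊗ₜ[k] b l) x j := by
    rw [show ((1 : K) ⊗ₜ[k] (a * b l)) = ((1 : K) ⊗ₜ[k] a) * ((1 : K) ⊗ₜ[k] b l) by simp, map_mul, Matrix.mul_apply]
  rw [h2, map_sum, Matrix.sum_apply] at h3
  simp only [map_smul, Matrix.smul_apply, smul_eq_mul] at h3
  simp only [h1, cmat, cst]
  refine (Finset.sum_congr rfl fun _ _ => (map_mul _ _ _).symm).trans ?_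
  rw [← map_sum, h3]
  refine (map_sum (Coh.toGlobal (CohB1.ProjSpace.toSpec m K)) _ _).trans ?_
  rw [Fintype.sum_prod_type]
  refine Finset.sum_congr rfl fun x _ => ?_
  rw [Finset.sum_eq_single j]
  · rw [lmulM, if_pos rfl]
    exact (congrArg (Coh.toGlobal (CohB1.ProjSpace.toSpec m K)) (mul_comm _ _)).trans (map_mul _ _ _)
  · intro y _ hy
    rw [lmulM, if_neg hy, mul_zero]
  · exact fun h => absurd (Finset.mem_univ j) h

theorem rows_lmulM (a : A) : rows ≫ mat (lmulM Φ a) ≫ cokernel.π rows = 0 := by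
  classical
  refine biproduct.hom_ext' _ _ fun r => ?_
  rw [comp_zero]
  refine InvX.hom_ext_of_frames (fun i => D i) cov_D (fun i => fe i) isFrame_fe fun i => ?_
  show (cokernel.π rows).app (D i) ((mat (lmulM Φ a)).app (D i) (rows.app (D i)
    ((biproduct.ι (fun _ : Fin (m + 1) => Twist.twistProjSpace m K (-1)) r).app (D i) (fe i)))) = 0
  refine cokernel_eq_zero _ fun z hz i' hi' q j => ?_
  have hval : ∀ j, crd ((mat (lmulM Φ a)).app (D i) (rows.app (D i)
      ((biproduct.ι (fun _ : Fin (m + 1) => Twist.twistProjSpace m K (-1)) r).app (D i) (fe i)))) (q, j) =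
      rtop (D i) (cst (Φ ((1 : K) ⊗ₜ[k] a) q r)) * c i j := fun j => by
    rw [crd_mat, Finset.sum_eq_single (r, j)]
    · rw [crd_rows_ι, if_pos rfl, crd_line_fe]
      simp [lmulM]
    · rintro ⟨x, y⟩ _ hxy
      rw [crd_rows_ι]
      by_cases hx : x = r
      · subst hx
        have hy : y ≠ j := fun h => hxy (by rw [h])
        simp [lmulM, hy]
      · simp [hx]
    · simp
  rw [hval, hval, map_mul, map_mul, mul_assoc]
  congr 1
  have := congrArg ((Pn m K).presheaf.germ (D i ⊓ D i') z ⟨hz, hi'⟩)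
    (c_trans (j := j) (inf_le_left : D i ⊓ D i' ≤ D i) inf_le_right)
  rwa [map_mul, InvX.germ_resR', InvX.germ_resR', InvX.germ_resR'] at this

theorem lmul_cut (a : A) : kernel.ι (cut Φ e b) ≫ mat (lmul (f := f) b a) ≫ cut Φ e b = 0 := by
  have h : (Scheme.Modules.pushforward (cover e)).map (mat (lmulM Φ a)) ≫
      (Scheme.Modules.pushforward (cover e)).map (cokernel.π rows) =
      (Scheme.Modules.pushforward (cover e)).map (cokernel.π rows) ≫
        (Scheme.Modules.pushforward (cover e)).map (cokernel.desc rows _ (rows_lmulM Φ a)) := by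
    rw [← Functor.map_comp, ← Functor.map_comp, cokernel.π_desc]
  rw [cut, ← Category.assoc (mat _), lmul_comp, Category.assoc, h, ← Category.assoc (frPush _ _)]
  exact kernel.condition_assoc (cut Φ e b) _ |>.trans zero_comp

/-- The action of the algebra. -/
def act (a : A) : bundle Φ e b ⟶ bundle Φ e b :=
  kernel.lift _ (kernel.ι (cut Φ e b) ≫ mat (lmul (f := f) b a)) (by rw [Category.assoc]; exact lmul_cut Φ e b a)

theorem act_ι (a : A) : act Φ e b a ≫ kernel.ι (cut Φ e b) = kernel.ι (cut Φ e b) ≫ mat (lmul (f := f) b a) :=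
  kernel.lift_ι _ _ _

theorem act_mul (a a' : A) : act Φ e b (a * a') = act Φ e b a' ≫ act Φ e b a := by
  classical
  refine (cancel_mono (kernel.ι (cut Φ e b))).1 ?_
  rw [Category.assoc, act_ι, act_ι, ← Category.assoc, act_ι, Category.assoc, mat_comp_mat]
  congr 1
  refine mat_eq_of _ _ fun l l' => ?_
  simp only [lmul]
  refine Eq.trans ?_ (Finset.sum_congr rfl fun i _ => map_mul (Coh.toGlobal f) _ _)
  refine Eq.trans ?_ (map_sum (Coh.toGlobal f) _ _)
  congr 1
  conv_lhs => rw [mul_assoc, ← b.sum_repr (a' * b l)]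
  rw [Finset.mul_sum]
  simp only [mul_smul_comm, map_sum, map_smul, Finsupp.coe_finsetSum, Finset.sum_apply, Finsupp.smul_apply, smul_eq_mul]

theorem act_one : act Φ e b 1 = 𝟙 _ := by
  classical
  refine (cancel_mono (kernel.ι (cut Φ e b))).1 ?_
  rw [act_ι, Category.id_comp, mat_eq_of _ (fun i j => if i = j then (1 : Γ(X, ⊤)) else 0) (fun l l' => ?_), mat_id,
    Category.comp_id]
  simp [lmul, Finsupp.single_apply, apply_ite (Coh.toGlobal f)]

theorem act_add (a a' : A) : act Φ e b (a + a') = act Φ e b a + act Φ e b a' := by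
  refine (cancel_mono (kernel.ι (cut Φ e b))).1 ?_
  rw [Preadditive.add_comp, act_ι, act_ι, act_ι, ← Preadditive.comp_add]
  congr 1
  refine Scheme.Modules.hom_ext _ _ fun U => ?_
  ext x
  refine crd_ext fun j => ?_
  show crd ((mat _).app U x) j = crd ((mat _).app U x + (mat _).app U x) j
  rw [crd_add, crd_mat, crd_mat, crd_mat, ← Finset.sum_add_distrib]
  simp [lmul, add_mul]

theorem act_scalar (a : k) : act Φ e b (algebraMap k A a) = Formal.smulModΓ _ (Coh.toGlobal f a) := by
  classical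
  refine (cancel_mono (kernel.ι (cut Φ e b))).1 ?_
  rw [act_ι, ← KLin.comp_smulModΓ]
  congr 1
  refine Scheme.Modules.hom_ext _ _ fun U => ?_
  ext x
  refine crd_ext fun j => ?_
  show crd ((mat _).app U x) j = crd ((Formal.smulModΓ _ _).app U x) j
  rw [crd_mat, KLin.smulModΓ_app_apply, crd_smul, Finset.sum_eq_single j]
  · simp [lmul, Algebra.algebraMap_eq_smul_one]
  · intro i _ hi
    simp [lmul, Algebra.algebraMap_eq_smul_one, hi]
  · simp

omit e in
include Φ hA s in
/-- A bundle of type `O(-1)` of multiplicity the degree, acted on by the algebra. -/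
theorem exists_bundle [IsAlgClosed K] [Algebra.IsAlgebraic k K] (e' : BrSev.Splitting f K m) :
    ∃ (M : X.Modules), FlatMod.IsFinLocFree M ∧ BrSev.IsTwPow e' (-1) (m + 1) M ∧
      ∃ ρ : A → (M ⟶ M), (∀ a a', ρ (a * a') = ρ a' ≫ ρ a) ∧ (∀ a a', ρ (a + a') = ρ a + ρ a') ∧
        ρ 1 = 𝟙 M ∧ ∀ a : k, ρ (algebraMap k A a) = Formal.smulModΓ M (Coh.toGlobal f a) := by
  haveI : Module.Finite k A := Module.finite_of_finrank_pos (by rw [hA]; positivity)
  obtain ⟨e, he⟩ := exists_splitting_pt Φ hA s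
  let b : Module.Basis (Fin (m + 1) × Fin (m + 1)) k A :=
    (Module.finBasisOfFinrankEq k A hA).reindex finProdFinEquiv.symm
  haveI := Abelian.hasFiniteBiproducts (C := X.Modules)
  haveI := Abelian.hasFiniteBiproducts (C := (Pn m K).Modules)
  have hpb := isPullback_cover e
  let g := Spec.map (CommRingCat.ofHom (algebraMap k K))
  haveI : Flat g := by
    rw [HasRingHomProperty.Spec_iff (P := @Flat), CommRingCat.hom_ofHom, RingHom.flat_algebraMap_iff]
    infer_instance
  haveI : Surjective g := ⟨fun x => ⟨Classical.arbitrary _, Subsingleton.elim _ _⟩⟩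
  haveI : Flat (cover e) := MorphismProperty.of_isPullback hpb.flip ‹Flat g›
  haveI : Surjective (cover e) := MorphismProperty.of_isPullback hpb.flip ‹Surjective g›
  haveI : QuasiCompact (cover e) := MorphismProperty.of_isPullback hpb.flip (inferInstance : QuasiCompact g)
  haveI : QuasiSeparated (cover e) := MorphismProperty.of_isPullback hpb.flip (inferInstance : QuasiSeparated g)
  haveI := mono_toRows Φ hA e b
  haveI := epi_toRows Φ hA s e he b
  haveI : IsIso (toRows Φ e b) := isIso_of_mono_of_epi _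
  obtain ⟨c⟩ := nonempty_pow_biproduct (Twist.twistProjSpace m K (-1)) (m + 1)
  let E : (Scheme.Modules.pullback (cover e)).obj (bundle Φ e b) ≅ powM (Twist.twistProjSpace m K (-1)) (m + 1) :=
    asIso (toRows Φ e b) ≪≫ c.symm
  have hinv : PicF.IsInvertible (Twist.twistProjSpace m K (-1)) := PnPic.isInvertible_twistProjSpace m K (-1)
  have hL : Coh.IsQCoh (Twist.twistProjSpace m K (-1)) :=
    QCoh.isQCoh_of_isFinLocFree (H23.PullPush.isFinLocFree_of_isInvertible hinv)
  have hflfO : ∀ (Y : Scheme.{u}) [HasFiniteBiproducts Y.Modules] (β : Type) [Fintype β],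
      FlatMod.IsFinLocFree (fr Y β) := fun Y _ β _ => by
    exact H23.PullPush.isFinLocFree_of_iso (biproduct.isoCoproduct _).symm (KFlatLib.isFinLocFree_sigma _
      Finset.univ (fun i hi => absurd (Finset.mem_univ i) hi)
      fun _ => H23.PullPush.isFinLocFree_of_isInvertible (PicLoc.isInvertible_structureModule Y))
  have hrq : Coh.IsQCoh (cokernel (rows (m := m) (K := K))) :=
    QCoh.isQCoh_cokernel (QCoh.isQCoh_of_isFinLocFree (H23.PullPush.isFinLocFree_of_iso c
      (KFlatLib.isFinLocFree_sigma _ Finset.univ (fun i hi => absurd (Finset.mem_univ i) hi)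
        fun _ => H23.PullPush.isFinLocFree_of_isInvertible hinv))) (QCoh.isQCoh_of_isFinLocFree (hflfO _ _)) _
  have hq : Coh.IsQCoh (bundle Φ e b) :=
    QCoh.isQCoh_kernel (QCoh.isQCoh_of_isFinLocFree (hflfO _ _)) (QCoh.isQCoh_pushforward _ hrq) _
  have hflf : FlatMod.IsFinLocFree (bundle Φ e b) :=
    FTDescent.isFinLocFree_of_pullback (cover e) hq (H23.PullPush.isFinLocFree_of_iso E.symm
      (KFlatLib.isFinLocFree_sigma _ Finset.univ (fun i hi => absurd (Finset.mem_univ i) hi)
        fun _ => H23.PullPush.isFinLocFree_of_isInvertible hinv))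
  have htw : BrSev.IsTwPow e (-1) (m + 1) (bundle Φ e b) := by
    obtain ⟨d⟩ := nonempty_pullback_pow e.iso.hom (Twist.twistProjSpace m K (-1)) (m + 1)
    exact ⟨(Scheme.Modules.pullbackCongr (show BrSev.proj f K = e.iso.hom ≫ cover e by simp [cover])).app _ ≪≫
      (Scheme.Modules.pullbackComp e.iso.hom (cover e)).symm.app _ ≪≫ (Scheme.Modules.pullback e.iso.hom).mapIso E ≪≫ d⟩
  exact ⟨_, hflf, isTwPow_of_algHom (AlgHom.id k K) e e' htw, act Φ e b, act_mul Φ e b, act_add Φ e b, act_one Φ e b,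
    act_scalar Φ e b⟩

end Groth.Agent.ASBunLib
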