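import Groth.Agent.ASBunLib.EndAlg
import Groth.Agent.ASBunLib.Bundle
import Groth.Agent.S14202

/-!
# The index of a tensor power is the multiplicity of the indecomposable bundle of that type
-/

noncomputable section

set_option linter.style.haveILetI false
set_option linter.unusedSectionVars false
set_option backward.isDefEq.respectTransparency false
set_option backward.isDefEq.respectTransparency.types false
set_option maxHeartbeats 1000000

universe u

open CategoryTheory CategoryTheory.Limits AlgebraicGeometry TopologicalSpace Module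
open scoped TensorProduct

namespace Groth.Agent.ASBunLib

open Groth.Agent
open scoped Groth.Agent.H23.PicMul

theorem isIndex_of_division {k : Type u} [Field k] {B : Type u} [Ring B] [Algebra k B] {E : Type u} [Ring E]
    [Algebra k E] [Nontrivial E] {r t : ℕ} (hr : 0 < r) (hu : ∀ f : E, IsUnit f ∨ f = 0)
    (hd : Module.finrank k E = r ^ 2) (ht : 0 < t) (ε : B ≃ₐ[k] Matrix (Fin t) (Fin t) E) :
    CSAGal.IsIndex k B r :=
  ⟨hr, t, E, DivisionRing.ofIsUnitOrEqZero hu, inferInstance, ht, hd, ⟨ε⟩⟩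

variable {k K : Type u} [Field k] [Field K] [Algebra k K] {X : Scheme.{u}} [X.Over (Spec (CommRingCat.of k))]
  {n : ℕ} (e : BrSev.Splitting (X ↘ Spec (CommRingCat.of k)) K n)

/-- Some bundle of type `O(j)` has the given algebra as its endomorphisms. -/
def HasType (B : Type u) [Ring B] [Algebra k B] (j : ℤ) : Prop :=
  ∃ (M : X.Modules) (a : ℕ), 0 < a ∧ FlatMod.IsFinLocFree M ∧ BrSev.IsTwPow e j a M ∧
    Nonempty (B ≃ₐ[k] End M)

theorem HasType.congr {B B' : Type u} [Ring B] [Algebra k B] [Ring B'] [Algebra k B'] {j : ℤ}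
    (h : HasType e B j) (f : B' ≃ₐ[k] B) : HasType e B' j := by
  obtain ⟨M, a, ha, hM, ht, ⟨ε⟩⟩ := h
  exact ⟨M, a, ha, hM, ht, ⟨f.trans ε⟩⟩

variable [IsProper (X ↘ Spec (CommRingCat.of k))] [IsAlgClosed K]

local notation "XK" => BrSev.bc (X ↘ Spec (CommRingCat.of k)) K

instance instOverBc : Scheme.Over XK (Spec (CommRingCat.of K)) := ⟨BrSev.bcTo (X ↘ Spec (CommRingCat.of k)) K⟩

instance isProper_bc : IsProper (XK ↘ Spec (CommRingCat.of K)) :=
  inferInstanceAs (IsProper (Limits.pullback.snd (X ↘ Spec (CommRingCat.of k)) (Spec.map (CommRingCat.ofHom (algebraMap k K)))))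

theorem isPullback_bc : IsPullback (BrSev.proj (X ↘ Spec (CommRingCat.of k)) K) (XK ↘ Spec (CommRingCat.of K))
    (X ↘ Spec (CommRingCat.of k)) (Spec.map (CommRingCat.ofHom (algebraMap k K))) :=
  IsPullback.of_hasPullback _ _

include e in
theorem nonempty_bc : Nonempty ↥XK := by
  haveI := isIntegral_bc e
  infer_instance

include e in
theorem hasType_field : HasType e k 0 := by
  haveI := isIntegral_bc e
  haveI := nonempty_bc e
  haveI := CurveCohLib.isNoetherian_of_proper (k := k) (X := X)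
  have hs := surjective_toGlobal (K := K) (Y := XK)
  have hO := PicLoc.isInvertible_structureModule X
  have hf := H23.PullPush.isFinLocFree_of_isInvertible hO
  obtain ⟨ι₀⟩ := PicClLib.nonempty_pullback_structureModule (BrSev.proj (X ↘ Spec (CommRingCat.of k)) K)
  obtain ⟨e1⟩ := nonempty_powM_one (Coh.structureModule XK)
  obtain ⟨e0⟩ : Nonempty (Coh.structureModule XK ≅ e.twist 0) := by
    rw [← PicGrp.cl_eq_cl_iff, cl_twist_zero']
    rfl
  refine ⟨_, 1, one_pos, hf, ⟨ι₀ ≪≫ e1.symm ≪≫ Sigma.mapIso (fun _ => e0)⟩, ⟨AlgEquiv.ofBijective (Algebra.ofId k _) ?_⟩⟩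
  exact bijective_of_typed isPullback_bc hs (CurveDeg.isCoh_of_isFinLocFree hf)
    (PicLoc.isInvertible_structureModule XK) one_pos (ι₀ ≪≫ e1.symm) (Module.finrank_self k) _

theorem HasType.finrank {B : Type u} [Ring B] [Algebra k B] {j : ℤ} (h : HasType e B j) :
    ∃ a, 0 < a ∧ Module.finrank k B = a * a := by
  obtain ⟨M, a, ha, hM, ⟨eM⟩, ⟨ε⟩⟩ := h
  haveI := isIntegral_bc e
  haveI := nonempty_bc e
  haveI := CurveCohLib.isNoetherian_of_proper (k := k) (X := X)
  exact ⟨a, ha, ε.toLinearEquiv.finrank_eq.trans (finrank_end_typed isPullback_bc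
    (surjective_toGlobal (K := K) (Y := XK)) (CurveDeg.isCoh_of_isFinLocFree hM) (isInvertible_twist e j) eM)⟩

theorem HasType.tensor {B B' : Type u} [Ring B] [Algebra k B] [Ring B'] [Algebra k B']
    [Algebra.IsCentral k B] [IsSimpleRing B] [FiniteDimensional k B]
    [Algebra.IsCentral k B'] [IsSimpleRing B'] [FiniteDimensional k B'] {j j' : ℤ}
    (h : HasType e B j) (h' : HasType e B' j') : HasType e (B ⊗[k] B') (j + j') := by
  obtain ⟨M, a, ha, hM, ⟨eM⟩, ⟨ε⟩⟩ := h
  obtain ⟨M', b, hb, hM', ⟨eM'⟩, ⟨ε'⟩⟩ := h'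
  haveI := isIntegral_bc e
  haveI := nonempty_bc e
  haveI := CurveCohLib.isNoetherian_of_proper (k := k) (X := X)
  let π := BrSev.proj (X ↘ Spec (CommRingCat.of k)) K
  let N := e.twist j
  let N' := e.twist j'
  have hflf : FlatMod.IsFinLocFree (CohB1.tensorMod M M') := KFlatLib.isFinLocFree_tensor hM hM'
  obtain ⟨c0⟩ : Nonempty (CohB1.tensorMod N' N ≅ e.twist (j + j')) := by
    rw [← PicGrp.cl_eq_cl_iff]
    exact (H23.PicMul.cl_tensor _ _).trans ((cl_twist_add' e j' j).trans (by rw [add_comm]))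
  obtain ⟨p1⟩ := H23.PicMul.pull π M M'
  obtain ⟨p2⟩ := nonempty_tensor_powM N ((Scheme.Modules.pullback π).obj M') a
  obtain ⟨p3⟩ := H23.PicMul.comm N ((Scheme.Modules.pullback π).obj M')
  obtain ⟨p4⟩ := nonempty_tensor_powM N' N b
  obtain ⟨p5⟩ := nonempty_pow_pow (e.twist (j + j')) b a
  let E : (Scheme.Modules.pullback π).obj (CohB1.tensorMod M M') ≅ powM (e.twist (j + j')) (a * b) :=
    p1 ≪≫ PicGrp.tensorModIso eM (Iso.refl _) ≪≫ p2 ≪≫
      Sigma.mapIso (fun _ => p3 ≪≫ PicGrp.tensorModIso eM' (Iso.refl _) ≪≫ p4 ≪≫ Sigma.mapIso (fun _ => c0)) ≪≫ p5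
  have hd : ∀ {C : Type u} [Ring C] [Algebra k C] (_ : C ≃ₐ[k] End M), Module.finrank k C = a * a := fun f =>
    f.toLinearEquiv.finrank_eq.trans (finrank_end_typed isPullback_bc
      (surjective_toGlobal (K := K) (Y := XK)) (CurveDeg.isCoh_of_isFinLocFree hM) (isInvertible_twist e j) eM)
  have hd' : Module.finrank k B' = b * b :=
    ε'.toLinearEquiv.finrank_eq.trans (finrank_end_typed isPullback_bc
      (surjective_toGlobal (K := K) (Y := XK)) (CurveDeg.isCoh_of_isFinLocFree hM') (isInvertible_twist e j') eM')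
  haveI := CSALib.isSimpleRing_tensorProduct k B B'
  let φ : B ⊗[k] B' →ₐ[k] End (CohB1.tensorMod M M') :=
    (endTensor M M').comp (Algebra.TensorProduct.map ε.toAlgHom ε'.toAlgHom)
  refine ⟨_, a * b, Nat.mul_pos ha hb, hflf, ⟨E⟩, ⟨AlgEquiv.ofBijective φ ?_⟩⟩
  exact bijective_of_typed isPullback_bc (surjective_toGlobal (K := K) (Y := XK))
    (CurveDeg.isCoh_of_isFinLocFree hflf) (isInvertible_twist e (j + j')) (Nat.mul_pos ha hb) E
    (by rw [Module.finrank_tensorProduct, hd ε, hd']; ring) φ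

theorem isFinLocFree_component {Y : Scheme.{u}} [HasFiniteBiproducts Y.Modules] {t : ℕ} (Ws : Fin (t + 1) → Y.Modules)
    {M : Y.Modules} (hM : FlatMod.IsFinLocFree M) (eM : M ≅ ⨁ Ws) (i : Fin (t + 1)) : FlatMod.IsFinLocFree (Ws i) :=
  isFinLocFree_summand hM (eM ≪≫ (CurveKS.splitAt Ws i).symm)

/-- The index of the algebra of a type is the multiplicity of an indecomposable of that type. -/
theorem HasType.exists_index {B : Type u} [Ring B] [Algebra k B] {j : ℤ} (h : HasType e B j) :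
    ∃ (W : X.Modules) (r : ℕ), FlatMod.IsFinLocFree W ∧ CurveKS.Ind W ∧ 0 < r ∧ BrSev.IsTwPow e j r W ∧
      CSAGal.IsIndex k B r := by
  classical
  obtain ⟨M, a, ha, hM, ⟨eM⟩, ⟨ε⟩⟩ := h
  haveI := isIntegral_bc e
  haveI := nonempty_bc e
  haveI := CurveCohLib.isNoetherian_of_proper (k := k) (X := X)
  haveI := CurveCohLib.isNoetherian_of_proper (k := K) (X := XK)
  haveI := Abelian.hasFiniteBiproducts (C := X.Modules)
  let π := BrSev.proj (X ↘ Spec (CommRingCat.of k)) K
  have hs := surjective_toGlobal (K := K) (Y := XK)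
  have hMc := CurveDeg.isCoh_of_isFinLocFree hM
  have hN := isInvertible_twist e j
  have hNi : CurveKS.Ind (e.twist j) := ind_of_finrank_end (finrank_end_invertible hs hN)
  haveI : Module.Finite k (M ⟶ M) := CurveKS.finite_hom k hMc hMc
  obtain ⟨t, Ws, hWs, ⟨eW⟩⟩ := CurveKS.exists_decomposition k M
  have hfr := finrank_end_typed isPullback_bc hs hMc hN eM
  have ht : t ≠ 0 := fun h0 => by
    subst h0
    have hz : IsZero M := ((IsZero.iff_id_eq_zero _).2 (biproduct.hom_ext _ _ fun i => i.elim0)).of_iso eW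
    haveI : Subsingleton (M ⟶ M) := ⟨fun p q => hz.eq_of_src p q⟩
    rw [Module.finrank_zero_of_subsingleton] at hfr
    exact (Nat.mul_pos ha ha).ne hfr
  obtain ⟨t, rfl⟩ := Nat.exists_eq_succ_of_ne_zero ht
  have hWc : ∀ i, Coh.IsCoh (Ws i) := fun i =>
    isCoh_of_retract hMc (biproduct.ι Ws i ≫ eW.inv) (eW.hom ≫ biproduct.π Ws i) (by simp)
  have htype : ∀ i, ∃ r, Nonempty ((Scheme.Modules.pullback π).obj (Ws i) ≅ powM (e.twist j) r) := fun i => by
    refine exists_pow_of_retract (k := K) hNi (ZClosLib.isCoh_pullback π (hWc i)) a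
      ((Scheme.Modules.pullback π).map (biproduct.ι Ws i ≫ eW.inv) ≫ eM.hom)
      (eM.inv ≫ (Scheme.Modules.pullback π).map (eW.hom ≫ biproduct.π Ws i)) ?_
    rw [Category.assoc, eM.hom_inv_id_assoc, ← Functor.map_comp]
    simp
  choose r hr using htype
  have hiso : ∀ i, Nonempty (Ws i ≅ Ws 0) := fun i =>
    ind_unique isPullback_bc (hWc i) (hWc 0) (hWs i) (hWs 0) (e.twist j) (r i) (r 0) (hr i).some (hr 0).some
  obtain ⟨c⟩ := nonempty_end_congr (k := k) (eW ≪≫ biproduct.mapIso (fun i => (hiso i).some))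
  obtain ⟨d⟩ := end_pow_biproduct (k := k) (Ws 0) (t + 1)
  have hr0 : 0 < r 0 := pos_of_ind isPullback_bc (hWc 0) (hWs 0) (hr 0).some
  refine ⟨Ws 0, r 0, isFinLocFree_component Ws hM eW 0, hWs 0, hr0, hr 0, ?_⟩
  haveI : Nontrivial (End (Ws 0)) := ⟨⟨0, 1, fun h => (hWs 0).1 ((IsZero.iff_id_eq_zero _).2 h.symm)⟩⟩
  refine isIndex_of_division (E := End (Ws 0)) hr0 (fun f => ?_)
    ((finrank_end_typed isPullback_bc hs (hWc 0) hN (hr 0).some).trans (pow_two _).symm) (Nat.succ_pos t)
    (ε.trans (c.trans d))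
  by_cases hf : f = 0
  · exact Or.inr hf
  · exact Or.inl ((isUnit_iff_isIso (f := f)).2 (isIso_of_ne_zero isPullback_bc (hWc 0) (hWs 0)
      (isIso_of_ne_zero_of_finrank (finrank_end_invertible hs hN)) (r 0) (hr 0).some f hf))

theorem mult_eq {j : ℤ} {W W' : X.Modules} (hW : FlatMod.IsFinLocFree W) (hW' : FlatMod.IsFinLocFree W')
    (hWi : CurveKS.Ind W) (hW'i : CurveKS.Ind W') {r r' : ℕ}
    (hWt : BrSev.IsTwPow e j r W) (hW't : BrSev.IsTwPow e j r' W') : r = r' := by
  haveI := isIntegral_bc e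
  haveI := nonempty_bc e
  haveI := CurveCohLib.isNoetherian_of_proper (k := k) (X := X)
  haveI := CurveCohLib.isNoetherian_of_proper (k := K) (X := XK)
  obtain ⟨eW⟩ := hWt
  obtain ⟨eW'⟩ := hW't
  obtain ⟨i⟩ := ind_unique isPullback_bc (CurveDeg.isCoh_of_isFinLocFree hW) (CurveDeg.isCoh_of_isFinLocFree hW')
    hWi hW'i (e.twist j) r r' eW eW'
  have hN := isInvertible_twist e j
  have hNi : CurveKS.Ind (e.twist j) :=
    ind_of_finrank_end (finrank_end_invertible (surjective_toGlobal (K := K) (Y := XK)) hN)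
  exact (pow_unique (k := K) hNi hNi (CurveDeg.isCoh_of_isFinLocFree (H23.PullPush.isFinLocFree_of_isInvertible hN)) r r'
    (eW.symm ≪≫ (Scheme.Modules.pullback _).mapIso i ≪≫ eW')).1

end Groth.Agent.ASBunLib

namespace Groth.Agent.ASBunLib

open Groth.Agent

variable {k K : Type u} [Field k] [Field K] [Algebra k K] [IsAlgClosure k K] {A : Type u} [Ring A] [Algebra k A]
  [Algebra.IsCentral k A] [IsSimpleRing A] {m : ℕ} (hA : Module.finrank k A = (m + 1) * (m + 1))
  {X : Scheme.{u}} [X.Over (Spec (CommRingCat.of k))] [IsProper (X ↘ Spec (CommRingCat.of k))]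
  (hX : BrSev.IsSBOf k A ((m + 1) * (m + 1) - (m + 1)) (X ↘ Spec (CommRingCat.of k)))
  (e : BrSev.Splitting (X ↘ Spec (CommRingCat.of k)) K m)

theorem exists_split_of_closed (hA : Module.finrank k A = (m + 1) * (m + 1)) [IsAlgClosed K] :
    Nonempty (K ⊗[k] A ≃ₐ[K] Matrix (Fin (m + 1)) (Fin (m + 1)) K) := by
  haveI : Module.Finite k A := Module.finite_of_finrank_pos (by rw [hA]; positivity)
  haveI := CSALib.isSimpleRing_baseChange (k := k) (A := A) K
  haveI := CSALib.isCentral_baseChange (k := k) (A := A) K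
  obtain ⟨a, ha, ⟨ε⟩⟩ := CSALib.exists_algEquiv_matrix_of_isSepClosed K (K ⊗[k] A)
  have h := ε.toLinearEquiv.finrank_eq
  rw [Module.finrank_baseChange, hA, Module.finrank_matrix, Module.finrank_self, mul_one, Fintype.card_fin] at h
  obtain rfl : m + 1 = a := by nlinarith
  exact ⟨ε⟩

include hA hX in
theorem hasType_tpow (i : ℕ) : HasType e (CSAGal.tpow k A i) (-(i : ℤ)) := by
  haveI : IsAlgClosed K := IsAlgClosure.isAlgClosed k
  haveI : Algebra.IsAlgebraic k K := IsAlgClosure.isAlgebraic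
  haveI : Module.Finite k A := Module.finite_of_finrank_pos (by rw [hA]; positivity)
  induction i with
  | zero =>
    have := (hasType_field e).congr e (CSALib.powZero k A)
    simpa using this
  | succ i ih =>
    have h1 : HasType e A (-1) := by
      obtain ⟨Φ⟩ := exists_split_of_closed (K := K) hA
      obtain ⟨s⟩ : Nonempty (BrSev.SBStr k A ((m + 1) * (m + 1) - (m + 1)) (X ↘ Spec (CommRingCat.of k))) := hX
      obtain ⟨M, hM, ⟨eM⟩, ρ, hmul, hadd, hone, hsc⟩ := exists_bundle Φ hA s e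
      haveI := isIntegral_bc e
      haveI := nonempty_bc e
      haveI := CurveCohLib.isNoetherian_of_proper (k := k) (X := X)
      let φ : A →ₐ[k] End M :=
        { toFun := ρ
          map_one' := hone
          map_mul' := hmul
          map_zero' := by simpa using hadd 0 0
          map_add' := hadd
          commutes' := fun c => (hsc c).trans (end_algebraMap M c).symm }
      exact ⟨M, m + 1, m.succ_pos, hM, ⟨eM⟩, ⟨AlgEquiv.ofBijective φ (bijective_of_typed isPullback_bc
        (surjective_toGlobal (K := K) (Y := BrSev.bc (X ↘ Spec (CommRingCat.of k)) K))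
        (CurveDeg.isCoh_of_isFinLocFree hM) (isInvertible_twist e (-1)) m.succ_pos eM hA φ)⟩⟩
    obtain ⟨_, _, _⟩ := CSALib.centralSimple_pow k A i
    have := (h1.tensor e ih).congr e (CSALib.powSucc k A i)
    convert this using 2
    push_cast
    ring

include hA hX in
/-- The multiplicity of the indecomposable of type `O(j)` is the index of the tensor power. -/
theorem isIndex_tpow_of_ind (j : ℤ) {W : X.Modules} (hW : FlatMod.IsFinLocFree W) (hWi : CurveKS.Ind W) {r : ℕ}
    (hr : 0 < r) (hWt : BrSev.IsTwPow e j r W) : CSAGal.IsIndex k (CSAGal.tpow k A j.natAbs) r := by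
  haveI : IsAlgClosed K := IsAlgClosure.isAlgClosed k
  obtain ⟨W', r', hW', hW'i, hr', hW't, hI⟩ := (hasType_tpow hA hX e j.natAbs).exists_index e
  rcases le_or_gt j 0 with hj | hj
  · have hje : (-(j.natAbs : ℤ)) = j := by omega
    rw [hje] at hW't
    rwa [mult_eq e hW hW' hWi hW'i hWt hW't]
  · have hje : (-(j.natAbs : ℤ)) = -j := by omega
    rw [hje] at hW't
    rwa [S14202.result k (X ↘ Spec (CommRingCat.of k)) m K e j W W' hW hW' hWi hW'i r r' hr hr' hWt hW't]

end Groth.Agent.ASBunLib
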