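import Groth.Agent.ASBunLib.TwistType
import Groth.Agent.S11388
import Groth.Agent.HorrX.Basic
import Groth.Agent.KPE7.Transfer
import Groth.Agent.Lib.RegEpiGen
import Groth.Agent.S7752
import Groth.Agent.QCoh.FlatCoh
import Groth.Agent.ExtPow7.Lambda
import Groth.Agent.S14199

/-!
# Cohomological criterion for absolutely split bundles on Severi–Brauer varieties
-/

noncomputable section

set_option linter.style.haveILetI false
set_option linter.unusedSectionVars false
set_option backward.isDefEq.respectTransparency false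
set_option backward.isDefEq.respectTransparency.types false
set_option maxHeartbeats 1000000

universe u

open CategoryTheory CategoryTheory.Limits AlgebraicGeometry TopologicalSpace

namespace Groth.Agent.ASBunLib

open Groth.Agent
open scoped Groth.Agent.H23.PicMul

variable {k : Type u} [Field k] {X : Scheme.{u}} {f : X ⟶ Spec (CommRingCat.of k)} {K : Type u} [Field K] [Algebra k K]

theorem isFinLocFree_tensorMod {Y : Scheme.{u}} {M N : Y.Modules} (hM : FlatMod.IsFinLocFree M)
    (hN : FlatMod.IsFinLocFree N) : FlatMod.IsFinLocFree (CohB1.tensorMod M N) :=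
  KFlatLib.isFinLocFree_tensor hM hN

/-- Vanishing of cohomology of a bundle does not depend on the field. -/
theorem subsingleton_HH_bcMod_iff [IsProper f] {T : X.Modules} (hT : FlatMod.IsFinLocFree T) (i : ℕ) :
    Subsingleton (Coh.HH (BrSev.bc f K) (BrSev.bcMod f K T) i) ↔ Subsingleton (Coh.HH X T i) := by
  letI : X.Over (Spec (CommRingCat.of k)) := ⟨f⟩
  haveI : IsProper (X ↘ Spec (CommRingCat.of k)) := ‹IsProper f›
  letI : (BrSev.bc f K).Over (Spec (CommRingCat.of K)) := ⟨BrSev.bcTo f K⟩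
  haveI : CompactSpace X := QuasiCompact.compactSpace_of_compactSpace f
  haveI : X.IsSeparated := ⟨by rw [← Limits.terminal.comp_from f]; infer_instance⟩
  obtain ⟨φ⟩ := QCoh.nonempty_HH_bc_of_flat (A := k) (X := X) (F := T) (QCoh.isQCoh_of_isFinLocFree hT)
    (S7752.isFlatOver_field _ T) (fun p => inferInstance) (B := K) (X' := BrSev.bc f K) (BrSev.proj f K)
    (IsPullback.of_hasPullback f _) i
  exact φ.toEquiv.subsingleton_congr.trans (Module.FaithfullyFlat.subsingleton_tensorProduct_iff_left (R := k) (N := K) _)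

/-- A positive power vanishes exactly with its summand. -/
theorem subsingleton_HH_pow_iff {Y : Scheme.{u}} (M : Y.Modules) {r : ℕ} (hr : 0 < r) (i : ℕ) :
    Subsingleton (Coh.HH Y (powM M r) i) ↔ Subsingleton (Coh.HH Y M i) := by
  refine ⟨fun h => ⟨fun x y => ?_⟩, fun h => RegEpi.subsingleton_HH_sigma _ i fun _ => h⟩
  let a : M ⟶ powM M r := Limits.Sigma.ι (fun _ : Fin r => M) ⟨0, hr⟩
  let b : powM M r ⟶ M := Limits.Sigma.desc fun _ => 𝟙 M
  have key : ∀ z, Sheaf.H.map ((SheafOfModules.toSheaf _).map b) i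
      (Sheaf.H.map ((SheafOfModules.toSheaf _).map a) i z) = z := fun z => by
    refine (Formal.HHmap_comp _ _ i z).trans ?_
    rw [show a ≫ b = 𝟙 M from Limits.Sigma.ι_desc _ _, CategoryTheory.Functor.map_id, Sheaf.H.map_id_apply]
  rw [← key x, ← key y, h.elim (Sheaf.H.map ((SheafOfModules.toSheaf _).map a) i x)]

variable {n : ℕ} (e : BrSev.Splitting f K n)

/-- The bundle moved to projective space, twisted. -/
theorem nonempty_transport (E : X.Modules) (t : ℤ) :
    Nonempty (CohB1.tensorMod (BrSev.bcMod f K E) (e.twist t) ≅ (Scheme.Modules.pullback e.iso.hom).obj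
      (CohB1.tensorMod ((Scheme.Modules.pullback e.iso.inv).obj (BrSev.bcMod f K E)) (Twist.twistProjSpace n K t))) := by
  refine (PicGrp.cl_eq_cl_iff _ _).1 ?_
  show PicF.cl _ * PicF.pullCl e.iso.hom (PicF.cl (Twist.twistProjSpace n K t)) =
    PicF.pullCl e.iso.hom (PicF.pullCl e.iso.inv (PicF.cl (BrSev.bcMod f K E)) * PicF.cl (Twist.twistProjSpace n K t))
  rw [H23.PicMul.pullCl_mul, PicClLib.pullCl_comp, e.iso.hom_inv_id, PicClLib.pullCl_id]

/-- The cohomology of the twisted bundle on projective space. -/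
theorem subsingleton_HH_transport_iff (E : X.Modules) (t : ℤ) (i : ℕ) :
    Subsingleton (Coh.HH (BrSev.bc f K) (CohB1.tensorMod (BrSev.bcMod f K E) (e.twist t)) (i + 1)) ↔
      Subsingleton (Coh.HH (CohB1.ProjSpace n K)
        (CohB1.tensorMod ((Scheme.Modules.pullback e.iso.inv).obj (BrSev.bcMod f K E)) (Twist.twistProjSpace n K t)) (i + 1)) := by
  obtain ⟨a⟩ := nonempty_transport e E t
  refine ⟨fun h => ?_, fun h => AmpleVan.subsingleton_of_iso a.symm _ (KPE7.subsingleton_HH_pullback_iso e.iso.hom _ i h)⟩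
  have h1 := KPE7.subsingleton_HH_pullback_iso e.iso.inv _ i (AmpleVan.subsingleton_of_iso a _ h)
  exact AmpleVan.subsingleton_of_iso ((Scheme.Modules.pullbackComp _ _).app _ ≪≫
    (Scheme.Modules.pullbackCongr e.iso.inv_hom_id).app _ ≪≫ (Scheme.Modules.pullbackId _).app _) _ h1

/-- The terms of the criterion are twists of the bundle. -/
theorem nonempty_bcMod_term {E L W : X.Modules} {a j : ℤ} {r : ℕ} (hL : BrSev.IsTwPow e a 1 L)
    (hW : BrSev.IsTwPow e j r W) :
    Nonempty (BrSev.bcMod f K (CohB1.tensorMod (CohB1.tensorMod E L) W) ≅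
      powM (CohB1.tensorMod (BrSev.bcMod f K E) (e.twist (a + j))) r) := by
  obtain ⟨eL⟩ := hL
  obtain ⟨eW⟩ := hW
  obtain ⟨one⟩ := nonempty_powM_one (e.twist a)
  let π := BrSev.proj f K
  obtain ⟨c⟩ := H23.PicMul.comm ((Scheme.Modules.pullback π).obj (CohB1.tensorMod E L)) ((Scheme.Modules.pullback π).obj W)
  let T := (Scheme.Modules.pullback π).obj (CohB1.tensorMod E L)
  have hs : Nonempty (CohB1.tensorMod (e.twist j) T ≅ CohB1.tensorMod (BrSev.bcMod f K E) (e.twist (a + j))) := by
    refine (PicGrp.cl_eq_cl_iff _ _).1 ?_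
    show PicF.cl (e.twist j) * PicF.pullCl π (PicF.cl E * PicF.cl L) = PicF.cl (BrSev.bcMod f K E) * PicF.cl (e.twist (a + j))
    rw [H23.PicMul.pullCl_mul, show PicF.pullCl π (PicF.cl L) = PicF.cl (e.twist a) from
      (PicGrp.cl_eq_cl_iff _ _).2 ⟨eL ≪≫ one⟩, ← cl_twist_add']
    exact (_root_.mul_comm _ _).trans (_root_.mul_assoc _ _ _)
  exact ⟨((KFlatLib.pullTensorBiIso π).app (CohB1.tensorMod E L)).app W ≪≫ c ≪≫
    (DCoh.tensorBi.mapIso eW).app T ≪≫ PreservesCoproduct.iso (DCoh.tensorBi.flip.obj T) _ ≪≫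
    Sigma.mapIso (fun _ => hs.some)⟩

end Groth.Agent.ASBunLib
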