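import Groth.Agent.ASBunLib.TypeExists
import Groth.Agent.PicBnd.AlgLim
import Groth.Agent.S4788
import Groth.Agent.S9223
import Groth.Agent.RGLib.Lim8LocFree
import Groth.Agent.Lib.CurveDualPrep
import Groth.Agent.NormX.Line
import Groth.Agent.NormX.FromFree
import Groth.Agent.NormX.NormalAmple
import Groth.Agent.EtFound.Descent
import Groth.Agent.PicRep.Good

/-!
# An ample module over a field extension gives an ample module
-/

noncomputable section

set_option linter.style.haveILetI false
set_option linter.unusedSectionVars false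
set_option backward.isDefEq.respectTransparency false
set_option backward.isDefEq.respectTransparency.types false
set_option maxHeartbeats 1000000

universe u

open CategoryTheory CategoryTheory.Limits AlgebraicGeometry TopologicalSpace Opposite

namespace Groth.Agent.ASBunLib.AmpleField

open Groth.Agent

variable {k : Type u} [Field k] {X : Scheme.{u}} {f : X ⟶ Spec (CommRingCat.of k)}
  {K : Type u} [Field K] [Algebra k K]

theorem surjective_specMap : Surjective (Spec.map (CommRingCat.ofHom (algebraMap k K))) :=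
  ⟨fun x => ⟨Classical.arbitrary _, Subsingleton.elim _ _⟩⟩

theorem surjective_fst : Surjective (pullback.fst f (Spec.map (CommRingCat.ofHom (algebraMap k K)))) :=
  MorphismProperty.of_isPullback (IsPullback.of_hasPullback f (Spec.map (CommRingCat.ofHom (algebraMap k K)))).flip
    surjective_specMap

theorem compactSpace_of_ample (L' : (pullback f (Spec.map (CommRingCat.ofHom (algebraMap k K)))).Modules)
    (h : CohB1.IsAmple L') : CompactSpace X := by
  haveI := h.2.1
  exact (surjective_fst (f := f) (K := K)).surj.compactSpace (pullback.fst f _).continuous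

theorem isSeparated_of_ample (L' : (pullback f (Spec.map (CommRingCat.ofHom (algebraMap k K)))).Modules)
    (h : CohB1.IsAmple L') : IsSeparated f := by
  haveI := AmpleX.isSeparated_of_isAmple h
  haveI : IsSeparated (pullback.snd f (Spec.map (CommRingCat.ofHom (algebraMap k K)))) :=
    IsSeparated.of_comp _ (terminal.from _)
  haveI := EtFound.fpqc_isSeparated.{u}
  refine MorphismProperty.of_pullback_snd_of_descendsAlong (P := @IsSeparated)
    (Q := (@Surjective ⊓ @Flat ⊓ @QuasiCompact : MorphismProperty Scheme.{u})) ⟨⟨surjective_specMap, ?_⟩, ?_⟩ ‹_›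
  · exact (HasRingHomProperty.Spec_iff (P := @Flat)).2 (RingHom.flat_algebraMap_iff.2 inferInstance)
  · exact inferInstance

/-- An ample invertible module at a finite level. -/
theorem exists_finite_level (L' : (pullback f (Spec.map (CommRingCat.ofHom (algebraMap k K)))).Modules)
    (h : CohB1.IsAmple L') :
    ∃ (L : Type u) (_ : Field L) (_ : Algebra k L) (_ : Module.Finite k L) (M : (BrSev.bc f L).Modules),
      CohB1.IsAmple M := by
  classical
  haveI := compactSpace_of_ample L' h
  haveI := isSeparated_of_ample L' h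
  haveI : QuasiSeparatedSpace X := quasiSeparatedSpace_of_quasiSeparated f
  haveI : ∀ (i j : (Finset K)ᵒᵖ) (g : i ⟶ j), IsAffineHom ((PicBnd.AlgLim.diag k K f).map g) := fun _ _ _ => inferInstance
  haveI hfp : CohB1.IsFP L' := PicRep.isFP_of_isInvertible h.1
  haveI : Coh.IsQCoh L' := QCoh.isQCoh_of_isFP hfp
  obtain ⟨i, -, F, hFq, hFfp, ⟨e⟩⟩ := S4788.result (PicBnd.AlgLim.diag k K f) (PicBnd.AlgLim.cone k K f)
    (PicBnd.AlgLim.isLimitCone k K f) (op ∅) L' hfp
  have hrk : FlatMod.IsFinLocFreeOfRank 1
      ((Scheme.Modules.pullback ((PicBnd.AlgLim.cone k K f).π.app i)).obj F) :=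
    (ConsPropLib.isFinLocFreeOfRank_iso e).2 (InvEnd.isFinLocFreeOfRank_one h.1)
  obtain ⟨j, φ, hj⟩ := (RGLib.Lim8.isFinLocFreeOfRank_iff (PicBnd.AlgLim.diag k K f) (PicBnd.AlgLim.cone k K f)
    (PicBnd.AlgLim.isLimitCone k K f) hFfp 1).1 hrk
  let Lj := (Scheme.Modules.pullback ((PicBnd.AlgLim.diag k K f).map φ)).obj F
  have hamp : CohB1.IsAmple ((Scheme.Modules.pullback ((PicBnd.AlgLim.cone k K f).π.app j)).obj Lj) :=
    AmpleX.isAmple_of_iso (e.symm ≪≫ ((Scheme.Modules.pullbackComp _ _).app F ≪≫
      (Scheme.Modules.pullbackCongr ((PicBnd.AlgLim.cone k K f).w φ)).app F).symm) h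
  obtain ⟨t, g, hg⟩ := S9223.result (PicBnd.AlgLim.diag k K f) (PicBnd.AlgLim.cone k K f)
    (PicBnd.AlgLim.isLimitCone k K f) j Lj (CurveDuality.isInvertible_of_rank_one hj) hamp
  let R : Subalgebra k K := PicBnd.AlgLim.sub k K t.unop
  haveI : Algebra.FiniteType k R := (Subalgebra.fg_iff_finiteType _).1 (Subalgebra.fg_adjoin_finset _)
  obtain ⟨M, hM⟩ := Ideal.exists_maximal R
  letI : Field (R ⧸ M) := Ideal.Quotient.field M
  haveI : Algebra.FiniteType k (R ⧸ M) := Algebra.FiniteType.of_surjective (Ideal.Quotient.mkₐ k M) Ideal.Quotient.mk_surjective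
  haveI : Module.Finite k (R ⧸ M) := finite_of_finite_type_of_isJacobsonRing k (R ⧸ M)
  have hcomp : Spec.map (CommRingCat.ofHom (Ideal.Quotient.mk M)) ≫ PicBnd.AlgLim.str k K t =
      Spec.map (CommRingCat.ofHom (algebraMap k (R ⧸ M))) := by
    rw [← Spec.map_comp]
    rfl
  let w : BrSev.bc f (R ⧸ M) ⟶ (PicBnd.AlgLim.diag k K f).obj t :=
    pullback.lift (BrSev.proj f (R ⧸ M)) (BrSev.bcTo f (R ⧸ M) ≫ Spec.map (CommRingCat.ofHom (Ideal.Quotient.mk M)))
      (by rw [Category.assoc, hcomp]; exact pullback.condition)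
  haveI : IsAffineHom w := by
    haveI : IsAffineHom (w ≫ pullback.fst f (PicBnd.AlgLim.str k K t)) := by
      rw [show w ≫ pullback.fst f (PicBnd.AlgLim.str k K t) = BrSev.proj f (R ⧸ M) from pullback.lift_fst _ _ _]
      exact MorphismProperty.pullback_fst _ _ inferInstance
    haveI : IsAffineHom (pullback.fst f (PicBnd.AlgLim.str k K t)) := MorphismProperty.pullback_fst _ _ inferInstance
    exact IsAffineHom.of_comp w (pullback.fst f (PicBnd.AlgLim.str k K t))
  exact ⟨R ⧸ M, inferInstance, inferInstance, inferInstance, _, NormX.isAmple_pullback_affine w hg⟩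

/-- An ample module over a field extension gives an ample module. -/
theorem exists_isAmple (L' : (pullback f (Spec.map (CommRingCat.ofHom (algebraMap k K)))).Modules)
    (h : CohB1.IsAmple L') : ∃ M : X.Modules, CohB1.IsAmple M := by
  obtain ⟨L, _, _, _, M, hM⟩ := exists_finite_level L' h
  haveI := compactSpace_of_ample L' h
  obtain ⟨hfin, hflat, hlfp⟩ := isFinLocFree_proj f L
  haveI : Surjective (BrSev.proj f L) := surjective_fst
  obtain ⟨d, ⟨Nm⟩⟩ := NormX.exists_hasNorm_of_isFinLocFree (π := BrSev.proj f L)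
    (PerfGen7.ResDescend.isFinLocFree_pushforward _ (isFinLocFree_proj f L)
      (H23.PullPush.isFinLocFree_of_isInvertible InvX.isInvertible_structureModule))
  exact NormX.exists_isAmple_of_norm Nm hM

end Groth.Agent.ASBunLib.AmpleField
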