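import Groth.Agent.ASBunLib.StableBirat
import Groth.Agent.ASBunLib.TypeExists
import Groth.Agent.GrpLimLib.QuotDesc
import Groth.Agent.PicBnd.AlgLim
import Groth.Agent.GrpSchLib.SepPoints
import Groth.Agent.KRR7.SmoothPr
import Groth.Agent.NormX.Line
import Groth.Agent.NormX.FromFree
import Groth.Agent.NormX.NormalAmple
import Groth.Agent.Lib.AmpleImmersion
import Groth.Prelude.Def_W4bk4gw11416BS

/-!
# Forms of projective space over a field: finite and Galois splittings, projectivity
-/

noncomputable section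

set_option linter.style.haveILetI false
set_option linter.unusedSectionVars false
set_option backward.isDefEq.respectTransparency false
set_option backward.isDefEq.respectTransparency.types false
set_option maxHeartbeats 1000000

universe u

open CategoryTheory CategoryTheory.Limits AlgebraicGeometry TopologicalSpace Opposite

namespace Groth.Agent.ASBunLib.BSForm

open Groth.Agent Groth.Agent.ASBunLib

variable {k : Type u} [Field k] {X : Scheme.{u}} {f : X ⟶ Spec (CommRingCat.of k)}

/-- An isomorphism over a limit holds over every point of some stage. -/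
theorem exists_iso_stage {I : Type u} [SmallCategory I] [IsCofiltered I] (D : I ⥤ Scheme.{u}) {c : Cone D}
    (hc : IsLimit c) [∀ (i i' : I) (g : i ⟶ i'), IsAffineHom (D.map g)] [∀ i, CompactSpace (D.obj i)]
    [∀ i, QuasiSeparatedSpace (D.obj i)] {j : I} (P Q : Over (D.obj j)) [QuasiCompact P.hom] [QuasiSeparated P.hom]
    [LocallyOfFinitePresentation P.hom] [QuasiCompact Q.hom] [QuasiSeparated Q.hom]
    [LocallyOfFinitePresentation Q.hom] (u₀ : Red.bc (c.π.app j) P ≅ Red.bc (c.π.app j) Q) :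
    ∃ (t : I) (g : t ⟶ j), ∀ {T : Scheme.{u}} (lam : T ⟶ D.obj t),
      Nonempty (Red.bc (lam ≫ D.map g) P ≅ Red.bc (lam ≫ D.map g) Q) := by
  obtain ⟨i, g, φ, hφ⟩ := GrpLimLib.exists_map_fst_eq D hc u₀.hom
  haveI : IsIso ((Over.pullback (c.π.app i)).map φ) := by rw [hφ]; infer_instance
  haveI : QuasiCompact (Red.bc (D.map g) P).hom := MorphismProperty.pullback_snd _ _ inferInstance
  haveI : QuasiSeparated (Red.bc (D.map g) P).hom := MorphismProperty.pullback_snd _ _ inferInstance
  haveI : LocallyOfFinitePresentation (Red.bc (D.map g) P).hom := MorphismProperty.pullback_snd _ _ inferInstance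
  haveI : QuasiCompact (Red.bc (D.map g) Q).hom := MorphismProperty.pullback_snd _ _ inferInstance
  haveI : QuasiSeparated (Red.bc (D.map g) Q).hom := MorphismProperty.pullback_snd _ _ inferInstance
  haveI : LocallyOfFinitePresentation (Red.bc (D.map g) Q).hom := MorphismProperty.pullback_snd _ _ inferInstance
  obtain ⟨t, g', hiso⟩ := GrpLimLib.exists_isIso_stage D hc φ
  haveI := hiso
  refine ⟨t, g' ≫ g, fun {T} lam => ⟨?_⟩⟩
  have he : (lam ≫ D.map g') ≫ D.map g = lam ≫ D.map (g' ≫ g) := by rw [Category.assoc, Functor.map_comp]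
  exact (GrpLimLib.cmp he P).symm ≪≫ (GrpLimLib.cmp (rfl : lam ≫ D.map g' = _) (Red.bc (D.map g) P)).symm ≪≫
    asIso ((Over.pullback lam).map ((Over.pullback (D.map g')).map φ)) ≪≫
    GrpLimLib.cmp (rfl : lam ≫ D.map g' = _) (Red.bc (D.map g) Q) ≪≫ GrpLimLib.cmp he Q

/-- A splitting from an isomorphism of models. -/
theorem nonempty_splitting_of_model {R₀ L : Type u} [CommRing R₀] [Field L] [Algebra k L] {n : ℕ}
    (s : Spec (CommRingCat.of R₀) ⟶ Spec (CommRingCat.of k)) (κ : Spec (CommRingCat.of L) ⟶ Spec (CommRingCat.of R₀))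
    (hκ : κ ≫ s = Spec.map (CommRingCat.ofHom (algebraMap k L)))
    (tot : Red.bc κ (Over.mk (pullback.snd f s)) ≅ Red.bc κ (Over.mk (CohB1.ProjSpace.toSpec n R₀))) :
    Nonempty (BrSev.Splitting f L n) := by
  have hPL : IsPullback (pullback.fst (pullback.snd f s) κ ≫ pullback.fst f s) (pullback.snd (pullback.snd f s) κ) f
      (Spec.map (CommRingCat.ofHom (algebraMap k L))) := by
    rw [← hκ]
    exact (IsPullback.of_hasPullback (pullback.snd f s) κ).paste_horiz (IsPullback.of_hasPullback f s)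
  let κ' : R₀ →+* L := (Spec.preimage κ).hom
  have hκ' : Spec.map (CommRingCat.ofHom κ') = κ := Spec.map_preimage _
  have hQL : IsPullback (ProjX.pmap n κ') (CohB1.ProjSpace.toSpec n L) (CohB1.ProjSpace.toSpec n R₀) κ := by
    rw [← hκ']
    exact ProjX.isPullback_pmap n κ'
  refine ⟨{ iso := hPL.isoPullback.symm ≪≫ (Over.forget _).mapIso tot ≪≫ hQL.isoPullback.symm, comm := ?_ }⟩
  show (hPL.isoPullback.inv ≫ tot.hom.left ≫ hQL.isoPullback.inv) ≫ _ = _
  rw [Category.assoc, Category.assoc, hQL.isoPullback_inv_snd]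
  have hw : tot.hom.left ≫ pullback.snd (CohB1.ProjSpace.toSpec n R₀) κ = pullback.snd (pullback.snd f s) κ :=
    Over.w tot.hom
  rw [hw]
  exact hPL.isoPullback_inv_snd

/-- The comparison over the limit. -/
theorem nonempty_model_iso {R₀ K : Type u} [CommRing R₀] [Field K] [Algebra k K] {n : ℕ}
    (s : Spec (CommRingCat.of R₀) ⟶ Spec (CommRingCat.of k)) (ι : R₀ →+* K)
    (hι : Spec.map (CommRingCat.ofHom ι) ≫ s = Spec.map (CommRingCat.ofHom (algebraMap k K)))
    (e : BrSev.Splitting f K n) :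
    Nonempty (Red.bc (Spec.map (CommRingCat.ofHom ι)) (Over.mk (pullback.snd f s)) ≅
      Red.bc (Spec.map (CommRingCat.ofHom ι)) (Over.mk (CohB1.ProjSpace.toSpec n R₀))) := by
  have hP : IsPullback (pullback.fst (pullback.snd f s) (Spec.map (CommRingCat.ofHom ι)) ≫ pullback.fst f s)
      (pullback.snd (pullback.snd f s) (Spec.map (CommRingCat.ofHom ι))) f
      (Spec.map (CommRingCat.ofHom (algebraMap k K))) := by
    rw [← hι]
    exact (IsPullback.of_hasPullback (pullback.snd f s) _).paste_horiz (IsPullback.of_hasPullback f s)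
  have hQ : IsPullback (ProjX.pmap n ι) (CohB1.ProjSpace.toSpec n K) (CohB1.ProjSpace.toSpec n R₀)
      (Spec.map (CommRingCat.ofHom ι)) := ProjX.isPullback_pmap n ι
  refine ⟨Over.isoMk (hP.isoPullback ≪≫ e.iso ≪≫ hQ.isoPullback) ?_⟩
  show (hP.isoPullback.hom ≫ e.iso.hom ≫ hQ.isoPullback.hom) ≫ pullback.snd _ _ = pullback.snd _ _
  rw [Category.assoc, Category.assoc, hQ.isoPullback_hom_snd, e.comm]
  exact hP.isoPullback_hom_snd

/-- A form of projective space splits over a finite extension; if the given splitting extension is algebraic,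
the finite one embeds into it. -/
theorem exists_finite_splitting {K : Type u} [Field K] [Algebra k K] {n : ℕ} (e : BrSev.Splitting f K n) :
    ∃ (L : Type u) (_ : Field L) (_ : Algebra k L) (_ : Module.Finite k L),
      Nonempty (BrSev.Splitting f L n) ∧ (Algebra.IsAlgebraic k K → Nonempty (L →ₐ[k] K)) := by
  classical
  haveI := isProper_of_splitting e
  haveI : LocallyOfFinitePresentation f := LocallyOfFinitePresentation.iff_locallyOfFiniteType.2 inferInstance
  haveI : ∀ i, IsAffine ((PicBnd.AlgLim.specs k K).obj i) := fun i => isAffine_Spec _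
  haveI : ∀ (i i' : (Finset K)ᵒᵖ) (g : i ⟶ i'), IsAffineHom ((PicBnd.AlgLim.specs k K).map g) :=
    fun _ _ g => isAffineHom_of_isAffine _
  let R₀ : Subalgebra k K := PicBnd.AlgLim.sub k K (∅ : Finset K)
  haveI : Algebra.FiniteType k R₀ := (Subalgebra.fg_iff_finiteType _).1 (Subalgebra.fg_adjoin_finset _)
  haveI : IsNoetherianRing R₀ := Algebra.FiniteType.isNoetherianRing k R₀
  haveI : IsProper (CohB1.ProjSpace.toSpec n R₀) := PnCoh.Chow.isProper_toSpec n R₀
  haveI : LocallyOfFinitePresentation (CohB1.ProjSpace.toSpec n R₀) :=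
    LocallyOfFinitePresentation.iff_locallyOfFiniteType.2 inferInstance
  let s : Spec (CommRingCat.of R₀) ⟶ Spec (CommRingCat.of k) := PicBnd.AlgLim.str k K (op (∅ : Finset K))
  obtain ⟨u₀⟩ := nonempty_model_iso s R₀.val.toRingHom (PicBnd.AlgLim.str_cone k K (op (∅ : Finset K))) e
  obtain ⟨t, g, hiso⟩ := @exists_iso_stage _ _ _ (PicBnd.AlgLim.specs k K) _ (PicBnd.AlgLim.isLimitSpec k K) _ _ _
    (op (∅ : Finset K)) (Over.mk (pullback.snd f s)) (Over.mk (CohB1.ProjSpace.toSpec n R₀))
    (inferInstanceAs (QuasiCompact (pullback.snd f s))) (inferInstanceAs (QuasiSeparated (pullback.snd f s)))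
    (inferInstanceAs (LocallyOfFinitePresentation (pullback.snd f s)))
    (inferInstanceAs (QuasiCompact (CohB1.ProjSpace.toSpec n R₀)))
    (inferInstanceAs (QuasiSeparated (CohB1.ProjSpace.toSpec n R₀)))
    (inferInstanceAs (LocallyOfFinitePresentation (CohB1.ProjSpace.toSpec n R₀))) u₀
  let R : Subalgebra k K := PicBnd.AlgLim.sub k K t.unop
  haveI : Algebra.FiniteType k R := (Subalgebra.fg_iff_finiteType _).1 (Subalgebra.fg_adjoin_finset _)
  obtain ⟨M, hM⟩ := Ideal.exists_maximal R
  letI : Field (R ⧸ M) := Ideal.Quotient.field M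
  haveI : Algebra.FiniteType k (R ⧸ M) := Algebra.FiniteType.of_surjective (Ideal.Quotient.mkₐ k M) Ideal.Quotient.mk_surjective
  haveI : Module.Finite k (R ⧸ M) := finite_of_finite_type_of_isJacobsonRing k (R ⧸ M)
  refine ⟨R ⧸ M, inferInstance, inferInstance, inferInstance, ?_, fun halg => ?_⟩
  · let lam : Spec (CommRingCat.of (R ⧸ M)) ⟶ (PicBnd.AlgLim.specs k K).obj t :=
      Spec.map (CommRingCat.ofHom (Ideal.Quotient.mk M))
    obtain ⟨tot⟩ := hiso lam
    refine nonempty_splitting_of_model s (lam ≫ (PicBnd.AlgLim.specs k K).map g) ?_ tot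
    rw [Category.assoc]
    refine (congrArg (lam ≫ ·) (PicBnd.AlgLim.str_map k K g)).trans ?_
    rw [← Spec.map_comp]
    rfl
  · have hR : IsField R := Subalgebra.isField_of_algebraic R
    letI := hR.toField
    have hMbot : M = ⊥ := (Ideal.eq_bot_or_top M).resolve_right hM.ne_top
    exact ⟨Ideal.Quotient.liftₐ M R.val fun a ha => by rw [hMbot, Ideal.mem_bot] at ha; rw [ha, map_zero]⟩

/-- Splittings of an iterated base change. -/
theorem nonempty_splitting_tower {K L : Type u} [Field K] [Field L] [Algebra k K] [Algebra k L] [Algebra K L]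
    [IsScalarTower k K L] {n : ℕ} :
    Nonempty (BrSev.Splitting (BrSev.bcTo f K) L n) ↔ Nonempty (BrSev.Splitting f L n) := by
  have h : IsPullback (pullback.fst (BrSev.bcTo f K) (Spec.map (CommRingCat.ofHom (algebraMap K L))) ≫ BrSev.proj f K)
      (pullback.snd (BrSev.bcTo f K) (Spec.map (CommRingCat.ofHom (algebraMap K L)))) f
      (Spec.map (CommRingCat.ofHom (algebraMap k L))) := by
    rw [IsScalarTower.algebraMap_eq k K L, CommRingCat.ofHom_comp, Spec.map_comp]
    exact (IsPullback.of_hasPullback (BrSev.bcTo f K) _).paste_horiz (IsPullback.of_hasPullback f _)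
  let a : BrSev.bc (BrSev.bcTo f K) L ≅ BrSev.bc f L := h.isoPullback
  have ha : a.hom ≫ BrSev.bcTo f L = BrSev.bcTo (BrSev.bcTo f K) L := h.isoPullback_hom_snd
  have ha' : a.inv ≫ BrSev.bcTo (BrSev.bcTo f K) L = BrSev.bcTo f L := by rw [← ha, a.inv_hom_id_assoc]
  constructor
  · rintro ⟨e⟩
    exact ⟨{ iso := a.symm ≪≫ e.iso, comm := (Category.assoc _ _ _).trans ((congrArg (a.inv ≫ ·) e.comm).trans ha') }⟩
  · rintro ⟨e⟩
    exact ⟨{ iso := a ≪≫ e.iso, comm := (Category.assoc _ _ _).trans ((congrArg (a.hom ≫ ·) e.comm).trans ha) }⟩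

/-- A form of projective space is smooth. -/
theorem smooth_of_splitting {K : Type u} [Field K] [Algebra k K] {n : ℕ} (e : BrSev.Splitting f K n) : Smooth f := by
  haveI := KRR7.smooth_toSpec n K
  have hsnd : Smooth (BrSev.bcTo f K) := by
    rw [← e.comm]
    infer_instance
  refine MorphismProperty.of_pullback_snd_of_descendsAlong (P := @Smooth)
    (Q := (@Surjective ⊓ @Flat ⊓ @QuasiCompact : MorphismProperty Scheme.{u})) ⟨⟨?_, ?_⟩, ?_⟩ hsnd
  · exact ⟨fun x => ⟨Classical.arbitrary _, Subsingleton.elim _ _⟩⟩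
  · exact (HasRingHomProperty.Spec_iff (P := @Flat)).2 (RingHom.flat_algebraMap_iff.2 inferInstance)
  · exact inferInstance

/-- A form of projective space is geometrically integral. -/
theorem geometricallyIntegral_of_splitting {K : Type u} [Field K] [Algebra k K] {n : ℕ} (e₀ : BrSev.Splitting f K n) :
    GeometricallyIntegral f := by
  obtain ⟨L₀, _, _, _, ⟨e₁⟩, -⟩ := exists_finite_splitting e₀
  refine H23.MaxAbelian.geometricallyIntegral_of_pullback f fun L _ x => ?_
  obtain ⟨φ, rfl⟩ := Spec.map_surjective x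
  letI : Algebra k L := φ.hom.toAlgebra
  obtain ⟨e⟩ := nonempty_splitting_algClosure (IsAlgClosed.lift : L₀ →ₐ[k] AlgebraicClosure L) e₁
  haveI := isIntegral_bc e
  let π : Spec (CommRingCat.of (AlgebraicClosure L)) ⟶ Spec (CommRingCat.of L) :=
    Spec.map (CommRingCat.ofHom (algebraMap L (AlgebraicClosure L)))
  have hπ : π ≫ Spec.map φ = Spec.map (CommRingCat.ofHom (algebraMap k (AlgebraicClosure L))) := by
    rw [← Spec.map_comp, IsScalarTower.algebraMap_eq k L (AlgebraicClosure L)]
    rfl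
  let g : BrSev.bc f (AlgebraicClosure L) ⟶ pullback f (Spec.map φ) :=
    pullback.lift (BrSev.proj f _) (BrSev.bcTo f _ ≫ π) (by rw [Category.assoc, hπ]; exact pullback.condition)
  have hsq : IsPullback g (BrSev.bcTo f (AlgebraicClosure L)) (pullback.snd f (Spec.map φ)) π := by
    refine IsPullback.of_right ?_ (pullback.lift_snd _ _ _) (IsPullback.of_hasPullback f (Spec.map φ))
    rw [pullback.lift_fst, hπ]
    exact IsPullback.of_hasPullback f _
  haveI : Flat g := MorphismProperty.of_isPullback hsq.flip (GrpSchLib.flat_spec_map_field _)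
  haveI : Surjective g := MorphismProperty.of_isPullback hsq.flip (GrpSchLib.surjective_spec_map_field _)
  haveI : IsReduced (pullback f (Spec.map φ)) := FBaseLib.isReduced_of_flat_surjective g
  haveI : IrreducibleSpace ↥(pullback f (Spec.map φ)) :=
    Function.Surjective.irreducibleSpace g.continuous g.surjective
  exact isIntegral_of_irreducibleSpace_of_isReduced _

/-- A form of projective space splits over a finite Galois extension. -/
theorem exists_galois_splitting {K : Type u} [Field K] [Algebra k K] {n : ℕ} (e : BrSev.Splitting f K n) :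
    ∃ (L : Type u) (_ : Field L) (_ : Algebra k L), FiniteDimensional k L ∧ IsGalois k L ∧
      Nonempty (BrSev.Splitting f L n) := by
  obtain ⟨L₀, _, _, _, ⟨e₁⟩, -⟩ := exists_finite_splitting e
  let ks := SeparableClosure k
  let K₂ := AlgebraicClosure ks
  obtain ⟨e₂⟩ := nonempty_splitting_algClosure (IsAlgClosed.lift : L₀ →ₐ[k] K₂) e₁
  obtain ⟨e₃⟩ := (nonempty_splitting_tower (f := f) (K := ks) (L := K₂)).2 ⟨e₂⟩
  haveI := smooth_of_splitting e₃
  haveI := isIntegral_bc e₃
  obtain ⟨L₁, _, _, _, ⟨e₄⟩, -⟩ := exists_finite_splitting e₃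
  have hbs : BrSev.IsBS (BrSev.bcTo f ks) n := ⟨L₁, inferInstance, inferInstance, inferInstance, ⟨e₄⟩⟩
  let x : ↥(BrSev.bc f ks) := BrSev.proj (BrSev.bcTo f ks) K₂ (Classical.arbitrary _)
  obtain ⟨s, hs, -⟩ := GrpSchLib.exists_point_of_smooth (BrSev.bcTo f ks) ⊤ (x := x) trivial
  obtain ⟨e₅⟩ := nonempty_splitting_of_isBS hbs (Or.inr ⟨s, hs⟩)
  obtain ⟨e₆⟩ := (nonempty_splitting_tower (f := f) (K := ks) (L := ks)).1 ⟨e₅⟩
  obtain ⟨L, _, _, _, ⟨e₇⟩, hL⟩ := exists_finite_splitting e₆
  obtain ⟨φ⟩ := hL (Algebra.IsSeparable.isAlgebraic k ks)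
  let N := IntermediateField.normalClosure k φ.fieldRange ks
  haveI : FiniteDimensional k φ.fieldRange := φ.toLinearMap.finiteDimensional_range
  obtain ⟨e₈⟩ := nonempty_splitting_algClosure
    ((IntermediateField.inclusion φ.fieldRange.le_normalClosure).comp φ.rangeRestrict : L →ₐ[k] N) e₇
  exact ⟨N, inferInstance, inferInstance, inferInstance, inferInstance, ⟨e₈⟩⟩

/-- A form of projective space is projective. -/
theorem exists_closedImmersion_of_splitting {K : Type u} [Field K] [Algebra k K] {n : ℕ} (e₀ : BrSev.Splitting f K n) :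
    ∃ (N : ℕ) (i : X ⟶ CohB1.ProjSpace N k), IsClosedImmersion i ∧ i ≫ CohB1.ProjSpace.toSpec N k = f := by
  obtain ⟨L, _, _, _, ⟨e⟩, -⟩ := exists_finite_splitting e₀
  haveI := isProper_of_splitting e₀
  haveI : CompactSpace X := QuasiCompact.compactSpace_of_compactSpace f
  obtain ⟨hfin, hflat, hlfp⟩ := isFinLocFree_proj f L
  haveI : Surjective (BrSev.proj f L) := MorphismProperty.of_isPullback
    (IsPullback.of_hasPullback f (Spec.map (CommRingCat.ofHom (algebraMap k L)))).flip
    ⟨fun x => ⟨Classical.arbitrary _, Subsingleton.elim _ _⟩⟩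
  have hamp : CohB1.IsAmple ((Scheme.Modules.pullback e.iso.hom).obj (Twist.twistProjSpace n L 1)) :=
    NormX.isAmple_pullback_affine e.iso.hom ExtShX.isAmple_twistPn_one
  obtain ⟨d, ⟨Nm⟩⟩ := NormX.exists_hasNorm_of_isFinLocFree (π := BrSev.proj f L)
    (PerfGen7.ResDescend.isFinLocFree_pushforward _ (isFinLocFree_proj f L)
      (H23.PullPush.isFinLocFree_of_isInvertible InvX.isInvertible_structureModule))
  obtain ⟨M, hM⟩ := NormX.exists_isAmple_of_norm Nm hamp
  obtain ⟨N, r, hr, hrf⟩ := AmpleEmbed.exists_immersion f hM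
  haveI := hr
  haveI : IsProper (CohB1.ProjSpace.toSpec N k) := PnCoh.Chow.isProper_toSpec N k
  haveI : IsProper (r ≫ CohB1.ProjSpace.toSpec N k) := by rw [hrf]; infer_instance
  haveI : IsProper r := IsProper.of_comp r (CohB1.ProjSpace.toSpec N k)
  exact ⟨N, r, IsClosedImmersion.of_isPreimmersion r r.isClosedMap.isClosed_range, hrf⟩

end Groth.Agent.ASBunLib.BSForm
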