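import Groth.Agent.ASBunLib.Deuring
import Groth.Agent.S5626
import Groth.Agent.Lib.InvEnd
import Groth.Agent.Lib.CurveDeg
import Groth.Agent.KFlatLib.Perfect.Tensor
import Groth.Agent.KZ.OpenExt

/-! Powers of indecomposable modules. -/

noncomputable section

set_option linter.style.haveILetI false
set_option linter.unusedSectionVars false
set_option backward.isDefEq.respectTransparency false
set_option backward.isDefEq.respectTransparency.types false
set_option maxHeartbeats 1000000

universe u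

open CategoryTheory CategoryTheory.Limits AlgebraicGeometry TopologicalSpace Opposite

namespace Groth.Agent.ASBunLib

open Groth.Agent

/-- The finite power of a module. -/
abbrev powM {Y : Scheme.{u}} (M : Y.Modules) (n : ℕ) : Y.Modules := ∐ fun _ : Fin n => M

theorem nonempty_pow_biproduct {Y : Scheme.{u}} (M : Y.Modules) (n : ℕ) [HasFiniteBiproducts Y.Modules] :
    Nonempty (powM M n ≅ ⨁ fun _ : Fin n => M) := ⟨(biproduct.isoCoproduct _).symm⟩

theorem nonempty_pow_pow {Y : Scheme.{u}} (M : Y.Modules) (r s : ℕ) :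
    Nonempty (powM (powM M r) s ≅ powM M (s * r)) :=
  ⟨sigmaSigmaIso (fun _ : Fin s => Fin r) (fun _ _ => M) ≪≫
    Sigma.whiskerEquiv (f := fun _ : Σ _ : Fin s, Fin r => M) (g := fun _ : Fin (s * r) => M)
      ((Equiv.sigmaEquivProd _ _).trans finProdFinEquiv) (fun _ => Iso.refl _)⟩

theorem nonempty_pullback_pow {Y Y' : Scheme.{u}} (π : Y' ⟶ Y) (M : Y.Modules) (n : ℕ) :
    Nonempty ((Scheme.Modules.pullback π).obj (powM M n) ≅ powM ((Scheme.Modules.pullback π).obj M) n) := by
  haveI : PreservesColimitsOfSize.{0, 0} (Scheme.Modules.pullback π) :=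
    (Scheme.Modules.pullbackPushforwardAdjunction π).leftAdjoint_preservesColimits
  exact ⟨PreservesCoproduct.iso (Scheme.Modules.pullback π) (fun _ : Fin n => M)⟩

theorem isZero_pow {Y : Scheme.{u}} {M : Y.Modules} {n : ℕ} (hn : n = 0) : IsZero (powM M n) := by
  subst hn
  exact (IsZero.iff_id_eq_zero _).2 (Sigma.hom_ext _ _ fun i => i.elim0)

theorem pos_of_not_isZero {Y : Scheme.{u}} {F M : Y.Modules} {n : ℕ} (hF : ¬ IsZero F) (e : F ≅ powM M n) : 0 < n :=
  Nat.pos_of_ne_zero fun h => hF ((isZero_pow h).of_iso e)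

/-- A direct summand of a finite locally free module is finite locally free. -/
theorem isFinLocFree_summand {Y : Scheme.{u}} {E M N : Y.Modules} (hE : FlatMod.IsFinLocFree E) (e : E ≅ M ⊞ N) :
    FlatMod.IsFinLocFree M := by
  refine KFlatLib.isFinLocFree_of_restrict fun x => ?_
  obtain ⟨U, n, hx, ⟨eU⟩⟩ := hE x
  haveI : (Scheme.Modules.restrictFunctor U.ι).Additive :=
    (Scheme.Modules.restrictAdjunction U.ι).left_adjoint_additive
  haveI : PreservesBinaryBiproducts (Scheme.Modules.restrictFunctor U.ι) := preservesBinaryBiproducts_of_preservesBiproducts _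
  exact ⟨U, hx, S5626.result _ ((Scheme.Modules.restrictFunctor U.ι).obj N) n
    (((Scheme.Modules.restrictFunctor U.ι).mapBiprod M N).symm ≪≫
      ((Scheme.Modules.restrictFunctor U.ι).mapIso e.symm) ≪≫ eU)⟩

variable {k : Type u} [Field k] {X : Scheme.{u}} [X.Over (Spec (CommRingCat.of k))]
  [IsProper (X ↘ Spec (CommRingCat.of k))]

include k in
/-- Powers of indecomposables determine the exponent and the module. -/
theorem pow_unique {G G' : X.Modules} (hG : CurveKS.Ind G) (hG' : CurveKS.Ind G') (hGc : Coh.IsCoh G) (n m : ℕ)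
    (e : powM G n ≅ powM G' m) : n = m ∧ (0 < n → Nonempty (G ≅ G')) := by
  haveI := Abelian.hasFiniteBiproducts (C := X.Modules)
  obtain ⟨σ, hσ⟩ := CurveKS.unique_decomposition k n m (fun _ => G) (fun _ => G') (fun _ => hG) (fun _ => hG')
    (fun _ => CurveKS.finite_hom k hGc hGc)
    ⟨(nonempty_pow_biproduct G n).some.symm ≪≫ e ≪≫ (nonempty_pow_biproduct G' m).some⟩
  exact ⟨by simpa using Fintype.card_congr σ, fun hn => hσ ⟨0, hn⟩⟩

include k in
/-- A retract of a power of an indecomposable is such a power. -/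
theorem exists_pow_of_retract {L H : X.Modules} (hL : CurveKS.Ind L) (hHc : Coh.IsCoh H) (r : ℕ)
    (i : H ⟶ powM L r) (q : powM L r ⟶ H) (hiq : i ≫ q = 𝟙 H) : ∃ s, Nonempty (H ≅ powM L s) := by
  haveI := Abelian.hasFiniteBiproducts (C := X.Modules)
  haveI : Module.Finite k (H ⟶ H) := CurveKS.finite_hom k hHc hHc
  obtain ⟨n, Hs, hHs, ⟨eH⟩⟩ := CurveKS.exists_decomposition k H
  obtain ⟨b⟩ := nonempty_pow_biproduct L r
  have key : ∀ a, Nonempty (Hs a ≅ L) := fun a => by
    haveI : Module.Finite k (Hs a ⟶ Hs a) :=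
      CurveKS.finite_end_of_retract k (biproduct.ι Hs a ≫ eH.inv) (eH.hom ≫ biproduct.π Hs a) (by simp)
    let i' := biproduct.ι Hs a ≫ eH.inv ≫ i ≫ b.hom
    let q' := b.inv ≫ q ≫ eH.hom ≫ biproduct.π Hs a
    have hsum : ∑ j : Fin r, (i' ≫ biproduct.π (fun _ : Fin r => L) j) ≫ (biproduct.ι (fun _ : Fin r => L) j ≫ q') = 𝟙 (Hs a) := by
      calc _ = i' ≫ (∑ j : Fin r, biproduct.π (fun _ : Fin r => L) j ≫ biproduct.ι (fun _ : Fin r => L) j) ≫ q' := by
            rw [Preadditive.sum_comp, Preadditive.comp_sum]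
            simp only [Category.assoc]
        _ = _ := by rw [biproduct.total]; simp [i', q', reassoc_of% hiq]
    obtain ⟨j, -, hj⟩ := CurveKS.exists_isIso_of_sum k (hHs a) Finset.univ _ (by rw [hsum]; infer_instance)
    haveI := hj
    haveI := CurveKS.isIso_of_comp (hHs a).1 hL (i' ≫ biproduct.π (fun _ : Fin r => L) j) (biproduct.ι (fun _ : Fin r => L) j ≫ q')
    exact ⟨asIso (i' ≫ biproduct.π (fun _ : Fin r => L) j)⟩
  exact ⟨n, ⟨eH ≪≫ biproduct.mapIso (fun a => (key a).some) ≪≫ (nonempty_pow_biproduct L n).some.symm⟩⟩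

variable {K : Type u} [Field K] [Algebra k K] {X' : Scheme.{u}}
  [X'.Over (Spec (CommRingCat.of K))] [IsProper (X' ↘ Spec (CommRingCat.of K))] {π : X' ⟶ X}
  (h : IsPullback π (X' ↘ Spec (CommRingCat.of K)) (X ↘ Spec (CommRingCat.of k)) (Spec.map (CommRingCat.ofHom (algebraMap k K))))

include h in
/-- Indecomposables with pullbacks powers of one module are isomorphic. -/
theorem ind_unique {E E' : X.Modules} (hE : Coh.IsCoh E) (hE' : Coh.IsCoh E') (hEi : CurveKS.Ind E)
    (hE'i : CurveKS.Ind E') (W : X'.Modules) (r s : ℕ) (eE : (Scheme.Modules.pullback π).obj E ≅ powM W r)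
    (eE' : (Scheme.Modules.pullback π).obj E' ≅ powM W s) : Nonempty (E ≅ E') := by
  haveI := CurveCohLib.isNoetherian_of_proper (k := k) (X := X)
  haveI := Abelian.hasFiniteBiproducts (C := X.Modules)
  obtain ⟨hfl, hsurj⟩ := flat_surjective_proj h
  haveI := hfl
  haveI := hsurj
  have hne : ∀ {M : X.Modules}, ¬ IsZero M → ¬ IsZero ((Scheme.Modules.pullback π).obj M) :=
    fun hM hz => hM (KFlatLib.isZero_of_isZero_pullback π _ hz)
  have hs := pos_of_not_isZero (hne hE'i.1) eE'
  have hc : ∀ {M : X.Modules} (n : ℕ), Coh.IsCoh M → Coh.IsCoh (powM M n) := fun {M} n hM =>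
    isCoh_pow n hM
  obtain ⟨e⟩ := nonempty_iso_of_pullback h (hc s hE) (hc r hE')
    ((nonempty_pullback_pow π E s).some ≪≫ Sigma.mapIso (fun _ => eE) ≪≫ (nonempty_pow_pow W r s).some ≪≫
      eqToIso (by rw [Nat.mul_comm]) ≪≫ (nonempty_pow_pow W s r).some.symm ≪≫ (Sigma.mapIso (fun _ => eE')).symm ≪≫
      (nonempty_pullback_pow π E' r).some.symm)
  exact (pow_unique (k := k) hEi hE'i hE s r e).2 hs
where
  isCoh_pow {Y : Scheme.{u}} [IsNoetherian Y] {M : Y.Modules} (n : ℕ) (hM : Coh.IsCoh M) :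
      Coh.IsCoh (powM M n) := by
    haveI := Abelian.hasFiniteBiproducts (C := Y.Modules)
    induction n with
    | zero => exact isCoh_of_retract hM 0 0 ((isZero_pow rfl).eq_of_src _ _)
    | succ n ih =>
      let s := (nonempty_pow_biproduct M (n + 1)).some ≪≫ (CurveKS.splitAt (fun _ : Fin (n + 1) => M) 0).symm ≪≫
        biprod.mapIso (Iso.refl M) (nonempty_pow_biproduct M n).some.symm
      exact isCoh_of_retract (KZ.isCoh_biprod hM ih) s.hom s.inv s.hom_inv_id

end Groth.Agent.ASBunLib
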