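import Groth.Agent.ASBunLib.Classify
import Groth.Agent.CSALib.Index

/-!
# Endomorphism algebras of bundles isotypical of one type
-/

noncomputable section

set_option linter.style.haveILetI false
set_option linter.unusedSectionVars false
set_option backward.isDefEq.respectTransparency false
set_option backward.isDefEq.respectTransparency.types false
set_option maxHeartbeats 1000000

universe u

open CategoryTheory CategoryTheory.Limits AlgebraicGeometry TopologicalSpace Module Opposite
open scoped TensorProduct

namespace Groth.Agent.ASBunLib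

open Groth.Agent

/-- Tensoring commutes with global scalars in the second variable. -/
theorem tensorMap_smulModΓ_right {X : Scheme.{u}} (M N : X.Modules) (r : Coh.Γtop X) :
    KoszTw.tensorMap (𝟙 M) (Formal.smulModΓ N r) = Formal.smulModΓ (CohB1.tensorMod M N) r := by
  refine DefoConnLib.tensor_hom_ext fun U s t => ?_
  rw [KoszTw.tensorMap_tmul]
  erw [KLin.smulModΓ_app_apply, KLin.smulModΓ_app_apply]
  exact (congrArg ((SecTwist.toTensor M N).app (op U)).hom
    (((KFlatLib.tm_smul (P := (CohB1.toPMod M : CohB1.PMod X)) (Q := (CohB1.toPMod N : CohB1.PMod X))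
      (U := op U) (X.presheaf.map (homOfLE (le_top : U ≤ ⊤)).op r) s t).symm.trans
    (KFlatLib.tm_smul_left (P := (CohB1.toPMod M : CohB1.PMod X)) (Q := (CohB1.toPMod N : CohB1.PMod X))
      (U := op U) (X.presheaf.map (homOfLE (le_top : U ≤ ⊤)).op r) s t)))).trans
    (LinearMap.map_smul _ _ _)

variable {k : Type u} [Field k] {X : Scheme.{u}} [X.Over (Spec (CommRingCat.of k))]

theorem end_algebraMap (M : X.Modules) (c : k) :
    (algebraMap k (End M) c : M ⟶ M) = Formal.smulModΓ M (Coh.toGlobal (X ↘ Spec (CommRingCat.of k)) c) := by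
  rw [Algebra.algebraMap_eq_smul_one]
  show c • 𝟙 M = _
  rw [KLin.smul_id]
  rfl

/-- Endomorphisms of the first factor of a tensor product. -/
def endLeft (M M' : X.Modules) : End M →ₐ[k] End (CohB1.tensorMod M M') where
  toFun f := (DCoh.tensorBi.map f).app M'
  map_one' := by
    show (DCoh.tensorBi.map (𝟙 M)).app M' = 𝟙 _
    rw [CategoryTheory.Functor.map_id]; rfl
  map_mul' f g := by
    show (DCoh.tensorBi.map (g ≫ f)).app M' = _
    rw [CategoryTheory.Functor.map_comp]; rfl
  map_zero' := by
    show (DCoh.tensorBi.map (0 : M ⟶ M)).app M' = 0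
    rw [Functor.map_zero]; rfl
  map_add' f g := by
    show (DCoh.tensorBi.map (show M ⟶ M from f + g)).app M' = _
    rw [Functor.map_add]; rfl
  commutes' c := by
    show (DCoh.tensorBi.map (algebraMap k (End M) c : M ⟶ M)).app M' = _
    rw [end_algebraMap, end_algebraMap, KoszTw.tensorBi_map_app]
    exact DefoConnLib.tensorMap_smulModΓ _ _ _

/-- Endomorphisms of the second factor of a tensor product. -/
def endRight (M M' : X.Modules) : End M' →ₐ[k] End (CohB1.tensorMod M M') where
  toFun f := (DCoh.tensorBi.obj M).map f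
  map_one' := (DCoh.tensorBi.obj M).map_id M'
  map_mul' f g := (DCoh.tensorBi.obj M).map_comp g f
  map_zero' := by
    show (DCoh.tensorBi.obj M).map (0 : M' ⟶ M') = 0
    simp
  map_add' f g := by
    show (DCoh.tensorBi.obj M).map (show M' ⟶ M' from f + g) = _
    rw [Functor.map_add]
  commutes' c := by
    show (DCoh.tensorBi.obj M).map (algebraMap k (End M') c : M' ⟶ M') = _
    rw [end_algebraMap, end_algebraMap, KoszTw.tensorBi_obj_map]
    exact tensorMap_smulModΓ_right _ _ _

/-- Endomorphisms of a tensor product from those of the factors. -/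
def endTensor (M M' : X.Modules) : End M ⊗[k] End M' →ₐ[k] End (CohB1.tensorMod M M') :=
  Algebra.TensorProduct.lift (endLeft M M') (endRight M M') fun f g =>
    (((DCoh.tensorBi (X := X)).map (show M ⟶ M from f)).naturality (show M' ⟶ M' from g)).trans rfl

theorem end_pow_biproduct (W : X.Modules) (t : ℕ) [HasFiniteBiproducts X.Modules] :
    Nonempty (End (⨁ fun _ : Fin t => W) ≃ₐ[k] Matrix (Fin t) (Fin t) (End W)) := by
  classical
  let F : End (⨁ fun _ : Fin t => W) → Matrix (Fin t) (Fin t) (End W) := fun f =>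
    Matrix.of fun i j => (biproduct.ι (fun _ : Fin t => W) j ≫ (f : (⨁ fun _ : Fin t => W) ⟶ _) ≫
      biproduct.π (fun _ : Fin t => W) i : W ⟶ W)
  refine ⟨AlgEquiv.ofBijective
    { toFun := F
      map_one' := ?_
      map_mul' := fun f g => ?_
      map_zero' := ?_
      map_add' := fun f g => ?_
      commutes' := fun c => ?_ } ⟨fun f g hfg => ?_, fun A => ?_⟩⟩
  · refine Matrix.ext fun i j => ?_
    show biproduct.ι (fun _ : Fin t => W) j ≫ (𝟙 _) ≫ biproduct.π (fun _ : Fin t => W) i = _
    rw [Category.id_comp, Matrix.one_apply]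
    split_ifs with h
    · subst h; exact biproduct.ι_π_self _ i
    · exact biproduct.ι_π_ne _ (Ne.symm h)
  · refine Matrix.ext fun i j => ?_
    rw [Matrix.mul_apply]
    show biproduct.ι (fun _ : Fin t => W) j ≫ (g ≫ f) ≫ biproduct.π (fun _ : Fin t => W) i = _
    calc _ = biproduct.ι (fun _ : Fin t => W) j ≫ g ≫
          (∑ l, biproduct.π (fun _ : Fin t => W) l ≫ biproduct.ι (fun _ : Fin t => W) l) ≫ f ≫
            biproduct.π (fun _ : Fin t => W) i := by rw [biproduct.total, Category.id_comp, Category.assoc]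
      _ = _ := by
        simp only [Preadditive.sum_comp, Preadditive.comp_sum]
        refine Finset.sum_congr rfl fun l _ => ?_
        simp only [F, Matrix.of_apply, End.mul_def, Category.assoc]
  · refine Matrix.ext fun i j => ?_
    show biproduct.ι (fun _ : Fin t => W) j ≫ (0 : (⨁ fun _ : Fin t => W) ⟶ _) ≫ biproduct.π (fun _ : Fin t => W) i = 0
    rw [zero_comp, comp_zero]
  · refine Matrix.ext fun i j => ?_
    show biproduct.ι (fun _ : Fin t => W) j ≫ (f + g : (⨁ fun _ : Fin t => W) ⟶ _) ≫ biproduct.π (fun _ : Fin t => W) i = _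
    rw [Preadditive.add_comp, Preadditive.comp_add]
    rfl
  · refine Matrix.ext fun i j => ?_
    show biproduct.ι (fun _ : Fin t => W) j ≫ (algebraMap k (End (⨁ fun _ : Fin t => W)) c : (⨁ fun _ : Fin t => W) ⟶ _) ≫
      biproduct.π (fun _ : Fin t => W) i = _
    rw [Matrix.algebraMap_matrix_apply, Algebra.algebraMap_eq_smul_one, Algebra.algebraMap_eq_smul_one]
    show biproduct.ι (fun _ : Fin t => W) j ≫ (c • 𝟙 _) ≫ biproduct.π (fun _ : Fin t => W) i = _
    rw [Linear.smul_comp, Category.id_comp, Linear.comp_smul]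
    split_ifs with h
    · subst h; rw [biproduct.ι_π_self]; rfl
    · rw [biproduct.ι_π_ne _ (Ne.symm h), smul_zero]
  · refine biproduct.hom_ext _ _ fun i => biproduct.hom_ext' _ _ fun j => ?_
    exact congrFun (congrFun (hfg : F f = F g) i) j
  · refine ⟨biproduct.matrix fun j i => (A i j : W ⟶ W), Matrix.ext fun i j => ?_⟩
    show biproduct.ι (fun _ : Fin t => W) j ≫ _ ≫ biproduct.π (fun _ : Fin t => W) i = _
    rw [biproduct.matrix_π, biproduct.ι_desc]

theorem nonempty_end_congr {M N : X.Modules} (e : M ≅ N) : Nonempty (End M ≃ₐ[k] End N) := by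
  refine ⟨AlgEquiv.ofRingEquiv (f := { e.conj with map_add' := fun f g => ?_ }) fun c => ?_⟩
  · show e.inv ≫ (f + g : M ⟶ M) ≫ e.hom = _
    rw [Preadditive.add_comp, Preadditive.comp_add]
    rfl
  · show e.inv ≫ (algebraMap k (End M) c : M ⟶ M) ≫ e.hom = (algebraMap k (End N) c : N ⟶ N)
    rw [Algebra.algebraMap_eq_smul_one, Algebra.algebraMap_eq_smul_one]
    show e.inv ≫ (c • 𝟙 M) ≫ e.hom = c • 𝟙 N
    rw [Linear.smul_comp, Category.id_comp, Linear.comp_smul, e.inv_hom_id]

variable [IsProper (X ↘ Spec (CommRingCat.of k))] {K : Type u} [Field K] [Algebra k K] {X' : Scheme.{u}}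
  [X'.Over (Spec (CommRingCat.of K))] [IsProper (X' ↘ Spec (CommRingCat.of K))] [Nonempty ↥X'] {π : X' ⟶ X}
  (h : IsPullback π (X' ↘ Spec (CommRingCat.of K)) (X ↘ Spec (CommRingCat.of k)) (Spec.map (CommRingCat.ofHom (algebraMap k K))))
  (hs : Function.Surjective (Coh.toGlobal (X' ↘ Spec (CommRingCat.of K))))

include h hs in
theorem finrank_end_typed {M : X.Modules} (hM : Coh.IsCoh M) {N : X'.Modules} (hN : PicF.IsInvertible N) {a : ℕ}
    (eM : (Scheme.Modules.pullback π).obj M ≅ powM N a) : Module.finrank k (M ⟶ M) = a * a := by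
  haveI : Module.Finite K (N ⟶ N) := Module.finite_of_finrank_pos (by rw [finrank_end_invertible hs hN]; exact one_pos)
  rw [← finrank_hom_pullback h hM hM, finrank_powM_hom eM eM, finrank_end_invertible hs hN, mul_one]

include h hs in
/-- An algebra of the right dimension mapping to the endomorphisms of an isotypical bundle is all of them. -/
theorem bijective_of_typed {M : X.Modules} (hM : Coh.IsCoh M) {N : X'.Modules} (hN : PicF.IsInvertible N) {a : ℕ}
    (ha : 0 < a) (eM : (Scheme.Modules.pullback π).obj M ≅ powM N a) {B : Type u} [Ring B] [Algebra k B]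
    [IsSimpleRing B] [FiniteDimensional k B] (hB : Module.finrank k B = a * a) (φ : B →ₐ[k] End M) :
    Function.Bijective φ := by
  have hfr := finrank_end_typed h hs hM hN eM
  haveI : Module.Finite k (End M) := Module.finite_of_finrank_pos (show 0 < Module.finrank k (M ⟶ M) by rw [hfr]; positivity)
  haveI : Nontrivial (End M) := Module.nontrivial_of_finrank_pos (R := k)
    (show 0 < Module.finrank k (M ⟶ M) by rw [hfr]; positivity)
  have hinj : Function.Injective φ := φ.toRingHom.injective
  exact ⟨hinj, (LinearMap.injective_iff_surjective_of_finrank_eq_finrank (K := k) (V := B) (V₂ := End M) (f := φ.toLinearMap)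
    (hB.trans hfr.symm)).1 hinj⟩

end Groth.Agent.ASBunLib
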