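import Groth.Agent.ASBunLib.Cancel
import Groth.Agent.ASBunLib.HomBC
import Groth.Agent.CurveKS.HomFinite
import Groth.Agent.ZClosLib.CohDescent
import Groth.Agent.QCoh.Support
import Groth.Agent.QCoh.DevissageSum
import Groth.Agent.KFlatLib.Scheme.FlatDescent

/-! Modules isomorphic after a field extension are isomorphic. -/

noncomputable section

set_option linter.style.haveILetI false
set_option linter.unusedSectionVars false
set_option backward.isDefEq.respectTransparency false
set_option backward.isDefEq.respectTransparency.types false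
set_option maxHeartbeats 1000000

universe u

open CategoryTheory CategoryTheory.Limits AlgebraicGeometry TopologicalSpace Opposite

namespace Groth.Agent.ASBunLib

open Groth.Agent Groth.Agent.QCoh

theorem isCoh_of_retract {X : Scheme.{u}} [IsNoetherian X] {A F : X.Modules} (hF : Coh.IsCoh F) (i : A ⟶ F) (q : F ⟶ A)
    (h : i ≫ q = 𝟙 A) : Coh.IsCoh A := by
  let e : cokernel (𝟙 F - q ≫ i) ≅ A :=
    { hom := cokernel.desc _ q (by rw [Preadditive.sub_comp, Category.assoc, h, Category.comp_id, Category.id_comp, sub_self])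
      inv := i ≫ cokernel.π _
      hom_inv_id := by
        apply coequalizer.hom_ext
        have := cokernel.condition (𝟙 F - q ≫ i)
        rw [Preadditive.sub_comp, Category.id_comp, sub_eq_zero] at this
        rw [cokernel.π_desc_assoc]
        simpa [Category.assoc] using this.symm
      inv_hom_id := by rw [Category.assoc, cokernel.π_desc, h] }
  haveI : Epi q := epi_of_epi_fac h
  exact isCoh_of_epi q hF ((isQCoh_iff_iso e).1 (isQCoh_cokernel hF.1 hF.1 _))

/-- A split monomorphism splits off its source. -/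
theorem exists_complement {C : Type*} [Category C] [Abelian C] {A G : C} (u : A ⟶ G) (v : G ⟶ A)
    [IsIso (u ≫ v)] : Nonempty (G ≅ A ⊞ cokernel u) := by
  let r : G ⟶ A := v ≫ inv (u ≫ v)
  have hr : u ≫ r = 𝟙 A := by rw [← Category.assoc, IsIso.hom_inv_id]
  haveI : Mono u := (SplitMono.mk r hr).mono
  let S := ShortComplex.mk u (cokernel.π u) (cokernel.condition u)
  have hS : S.ShortExact :=
    { exact := ShortComplex.exact_of_g_is_cokernel _ (cokernelIsCokernel u) }
  let sp := ShortComplex.Splitting.ofExactOfRetraction S hS.exact r hr inferInstance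
  exact ⟨{ hom := biprod.lift r (cokernel.π u), inv := biprod.desc u sp.s
           hom_inv_id := by rw [biprod.lift_desc]; exact sp.id
           inv_hom_id := by
             apply biprod.hom_ext' <;> apply biprod.hom_ext
             · simpa using hr
             · simp
             · have h1 : sp.s ≫ sp.r = 0 := ShortComplex.Splitting.s_r sp
               have h2 : sp.r = r := rfl
               simp only [Category.assoc, biprod.lift_fst, biprod.inr_desc_assoc]
               rw [← h2, h1]; simp
             · simp only [Category.assoc, biprod.lift_snd, biprod.inr_desc_assoc]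
               rw [show sp.s ≫ cokernel.π u = 𝟙 _ from sp.s_g]; rw [Category.id_comp, biprod.inr_snd] }⟩

variable {k K : Type u} [Field k] [Field K] [Algebra k K] {X X' : Scheme.{u}}
  [X.Over (Spec (CommRingCat.of k))] [IsProper (X ↘ Spec (CommRingCat.of k))]
  [X'.Over (Spec (CommRingCat.of K))] [IsProper (X' ↘ Spec (CommRingCat.of K))] {π : X' ⟶ X}
  (h : IsPullback π (X' ↘ Spec (CommRingCat.of K)) (X ↘ Spec (CommRingCat.of k)) (Spec.map (CommRingCat.ofHom (algebraMap k K))))

include h in
theorem flat_surjective_proj : Flat π ∧ Surjective π := by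
  haveI : Surjective (Spec.map (CommRingCat.ofHom (algebraMap k K))) := inferInstance
  haveI : Flat (Spec.map (CommRingCat.ofHom (algebraMap k K))) := by
    rw [HasRingHomProperty.Spec_iff (P := @Flat), CommRingCat.hom_ofHom, RingHom.flat_algebraMap_iff]
    infer_instance
  exact ⟨MorphismProperty.of_isPullback h.flip inferInstance, MorphismProperty.of_isPullback h.flip inferInstance⟩

include h in
/-- The identity of a retract factors through `G`, given an isomorphism after the extension. -/
theorem exists_factor {F G A : X.Modules} (hF : Coh.IsCoh F) (hG : Coh.IsCoh G)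
    (φ : (Scheme.Modules.pullback π).obj F ⟶ (Scheme.Modules.pullback π).obj G)
    (ψ : (Scheme.Modules.pullback π).obj G ⟶ (Scheme.Modules.pullback π).obj F)
    (hφψ : φ ≫ ψ = 𝟙 _) (i : A ⟶ F) (q : F ⟶ A) (hiq : i ≫ q = 𝟙 A) (hA : CurveKS.Ind A)
    [Module.Finite k (A ⟶ A)] : ∃ (u : A ⟶ G) (v : G ⟶ A), IsIso (u ≫ v) := by
  classical
  haveI := CurveCohLib.isNoetherian_of_proper (k := k) (X := X)
  obtain ⟨n, c, f, hf⟩ := exists_sum h hG.1 hF φ
  obtain ⟨m, d, g, hg⟩ := exists_sum h hF.1 hG ψ
  obtain ⟨lam, hlam⟩ := LinearMap.exists_leftInverse_of_injective (Algebra.linearMap k K)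
    (LinearMap.ker_eq_bot.2 (algebraMap k K).injective)
  obtain ⟨ρ, hρ, -⟩ := exists_retr (F := F) h hF.1 lam
  haveI : (Scheme.Modules.pullback π).Additive :=
    (Scheme.Modules.pullbackPushforwardAdjunction π).left_adjoint_additive
  have hid : 𝟙 F = ∑ x : Fin n × Fin m, (f x.1 ≫ g x.2) ≫ scal (X ↘ Spec (CommRingCat.of k)) F (lam (c x.1 * d x.2)) := by
    have h1 : bcHom (X' ↘ Spec (CommRingCat.of K)) π (1 : K) (𝟙 F) = 𝟙 _ := by
      rw [bcHom, scal_one, CategoryTheory.Functor.map_id, Category.comp_id]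
    have h2 := congrArg ρ ((congrArg₂ (fun a b => a ≫ b) hf hg).symm.trans (hφψ.trans h1.symm))
    rw [hρ, show lam 1 = 1 by simpa using LinearMap.congr_fun hlam 1, scal_one, Category.comp_id] at h2
    rw [← h2, Preadditive.sum_comp, map_sum, Fintype.sum_prod_type]
    refine Finset.sum_congr rfl fun a _ => ?_
    rw [Preadditive.comp_sum, map_sum]
    exact Finset.sum_congr rfl fun b _ => by rw [bcHom_comp, hρ]
  have hA' : IsIso (∑ x : Fin n × Fin m, i ≫ ((f x.1 ≫ g x.2) ≫ scal (X ↘ Spec (CommRingCat.of k)) F (lam (c x.1 * d x.2))) ≫ q) := by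
    rw [← Preadditive.comp_sum, ← Preadditive.sum_comp, ← hid, Category.id_comp, hiq]
    infer_instance
  obtain ⟨x, -, hx⟩ := CurveKS.exists_isIso_of_sum k hA Finset.univ _ hA'
  exact ⟨i ≫ f x.1, g x.2 ≫ scal (X ↘ Spec (CommRingCat.of k)) F (lam (c x.1 * d x.2)) ≫ q, by
    simpa [Category.assoc] using hx⟩

include h in
/-- Noether–Deuring for coherent modules. -/
theorem nonempty_iso_of_pullback {F G : X.Modules} (hF : Coh.IsCoh F) (hG : Coh.IsCoh G)
    (e : (Scheme.Modules.pullback π).obj F ≅ (Scheme.Modules.pullback π).obj G) : Nonempty (F ≅ G) := by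
  classical
  haveI := CurveCohLib.isNoetherian_of_proper (k := k) (X := X)
  haveI := CurveCohLib.isNoetherian_of_proper (k := K) (X := X')
  haveI := Abelian.hasFiniteBiproducts (C := X.Modules)
  haveI := Abelian.hasFiniteBiproducts (C := X'.Modules)
  obtain ⟨hfl, hsurj⟩ := flat_surjective_proj h
  haveI := hfl
  haveI := hsurj
  haveI : (Scheme.Modules.pullback π).Additive :=
    (Scheme.Modules.pullbackPushforwardAdjunction π).left_adjoint_additive
  haveI : Module.Finite k (F ⟶ F) := CurveKS.finite_hom k hF hF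
  obtain ⟨n, Fs, hFs, ⟨eF⟩⟩ := CurveKS.exists_decomposition k F
  induction n generalizing F G with
  | zero =>
    have hz : IsZero F := ((IsZero.iff_id_eq_zero _).2 (biproduct.hom_ext _ _ fun i => i.elim0)).of_iso eF
    have hz' := ((Scheme.Modules.pullback π).map_isZero hz).of_iso e.symm
    exact ⟨hz.iso (KFlatLib.isZero_of_isZero_pullback π G hz')⟩
  | succ n ih =>
    let A := Fs 0
    let F' := ⨁ fun i => Fs (Fin.succAbove 0 i)
    let s : F ≅ A ⊞ F' := eF ≪≫ (CurveKS.splitAt Fs 0).symm
    have hiq : (biprod.inl ≫ s.inv) ≫ (s.hom ≫ biprod.fst) = 𝟙 A := by simp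
    haveI : Module.Finite k (A ⟶ A) := CurveKS.finite_end_of_retract k _ _ hiq
    have hAc : Coh.IsCoh A := isCoh_of_retract hF _ _ hiq
    have hF'c : Coh.IsCoh F' := isCoh_of_retract hF (biprod.inr ≫ s.inv) (s.hom ≫ biprod.snd) (by simp)
    obtain ⟨u, v, huv⟩ := exists_factor h hF hG e.hom e.inv e.hom_inv_id _ _ hiq (hFs 0)
    haveI := huv
    obtain ⟨eG⟩ := exists_complement u v
    have hG'c : Coh.IsCoh (cokernel u) := isCoh_cokernel hAc.1 hG u
    haveI : PreservesBinaryBiproducts (Scheme.Modules.pullback π) := preservesBinaryBiproducts_of_preservesBiproducts _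
    let eK := ((Scheme.Modules.pullback π).mapBiprod A F').symm ≪≫ (Scheme.Modules.pullback π).mapIso s.symm ≪≫ e ≪≫
      (Scheme.Modules.pullback π).mapIso eG ≪≫ (Scheme.Modules.pullback π).mapBiprod A (cokernel u)
    have hA'c := ZClosLib.isCoh_pullback π hAc
    haveI : Module.Finite K ((Scheme.Modules.pullback π).obj A ⟶ (Scheme.Modules.pullback π).obj A) :=
      CurveKS.finite_hom K hA'c hA'c
    obtain ⟨m, As, hAs, ⟨eA⟩⟩ := CurveKS.exists_decomposition K ((Scheme.Modules.pullback π).obj A)
    obtain ⟨e'⟩ := cancel K m As hAs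
      (fun i => CurveKS.finite_end_of_retract K (biproduct.ι As i ≫ eA.inv) (eA.hom ≫ biproduct.π As i) (by simp)) _ _
      (biprod.mapIso eA.symm (Iso.refl _) ≪≫ eK ≪≫ biprod.mapIso eA (Iso.refl _))
    haveI : Module.Finite k (F' ⟶ F') := CurveKS.finite_hom k hF'c hF'c
    obtain ⟨e''⟩ := ih hF'c hG'c e' ‹_› (fun i => Fs (Fin.succAbove 0 i)) (fun i => hFs _) (Iso.refl _)
    exact ⟨s ≪≫ biprod.mapIso (Iso.refl A) e'' ≪≫ eG.symm⟩

end Groth.Agent.ASBunLib
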