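import Groth.Agent.ASBunLib.TypeExists
import Groth.Agent.S14209

/-!
# Absolutely split indecomposables on Severi–Brauer schemes are of twisting type
-/

noncomputable section

set_option linter.style.haveILetI false
set_option linter.unusedSectionVars false
set_option backward.isDefEq.respectTransparency false
set_option backward.isDefEq.respectTransparency.types false
set_option maxHeartbeats 1000000

universe u

open CategoryTheory CategoryTheory.Limits AlgebraicGeometry TopologicalSpace Module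

namespace Groth.Agent.ASBunLib

open Groth.Agent

section OneField

variable {K : Type u} [Field K] {Y : Scheme.{u}} [Y.Over (Spec (CommRingCat.of K))]

theorem ind_of_finrank_end {N : Y.Modules} (hN : Module.finrank K (N ⟶ N) = 1) : CurveKS.Ind N := by
  have h1 : (𝟙 N : N ⟶ N) ≠ 0 := fun h0 => by
    haveI : Subsingleton (N ⟶ N) := ⟨fun a b => by rw [← Category.id_comp a, ← Category.id_comp b, h0, zero_comp, zero_comp]⟩
    rw [Module.finrank_zero_of_subsingleton] at hN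
    exact zero_ne_one hN
  refine ⟨fun hz => h1 ((IsZero.iff_id_eq_zero N).1 hz), ?_⟩
  rintro A B ⟨e⟩
  let x : N ⟶ N := e.hom ≫ biprod.fst ≫ biprod.inl ≫ e.inv
  have hx : x ≫ x = x := by simp [x]
  obtain ⟨c, hc⟩ := (finrank_eq_one_iff_of_nonzero' (𝟙 N) h1).1 hN x
  have hc2 : (c * c - c) • (𝟙 N : N ⟶ N) = 0 := by
    rw [sub_smul, sub_eq_zero, mul_smul]
    calc c • c • 𝟙 N = (c • 𝟙 N) ≫ (c • 𝟙 N) := by simp [smul_smul]
      _ = c • 𝟙 N := by rw [hc, hx]
  have hidem := (smul_eq_zero.1 hc2).resolve_right h1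
  have hfac : c = 0 ∨ c = 1 := by
    rcases mul_eq_zero.1 (show c * (c - 1) = 0 by rw [mul_sub, mul_one]; exact hidem) with h | h
    · exact Or.inl h
    · exact Or.inr (sub_eq_zero.1 h)
  rcases hfac with rfl | rfl
  · left
    rw [zero_smul] at hc
    refine (IsZero.iff_id_eq_zero A).2 ?_
    have : biprod.inl ≫ e.inv ≫ x ≫ e.hom ≫ biprod.fst = 𝟙 A := by simp [x]
    rw [← this, ← hc]
    simp
  · right
    rw [one_smul] at hc
    refine (IsZero.iff_id_eq_zero B).2 ?_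
    have : biprod.inr ≫ e.inv ≫ x ≫ e.hom ≫ biprod.snd = (0 : B ⟶ B) := by simp [x]
    rw [← this, ← hc]
    simp

variable [IsProper (Y ↘ Spec (CommRingCat.of K))]

include K in
theorem exists_retract_of_retract {ι : Type} [Finite ι] {Ls : ι → Y.Modules} [HasFiniteBiproducts Y.Modules]
    (hLs : ∀ i, CurveKS.Ind (Ls i)) {H : Y.Modules} (hHc : Coh.IsCoh H) (hH : ¬ IsZero H)
    (i : H ⟶ ⨁ Ls) (q : (⨁ Ls) ⟶ H) (hiq : i ≫ q = 𝟙 H) :
    ∃ (l : ι) (a : Ls l ⟶ H) (b : H ⟶ Ls l), a ≫ b = 𝟙 _ := by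
  classical
  haveI := Fintype.ofFinite ι
  haveI : Module.Finite K (H ⟶ H) := CurveKS.finite_hom K hHc hHc
  obtain ⟨n, Hs, hHs, ⟨eH⟩⟩ := CurveKS.exists_decomposition K H
  have hn : 0 < n := Nat.pos_of_ne_zero fun h => by
    subst h
    exact hH (((IsZero.iff_id_eq_zero _).2 (biproduct.hom_ext _ _ fun i => i.elim0)).of_iso eH)
  let a : Fin n := ⟨0, hn⟩
  haveI : Module.Finite K (Hs a ⟶ Hs a) :=
    CurveKS.finite_end_of_retract K (biproduct.ι Hs a ≫ eH.inv) (eH.hom ≫ biproduct.π Hs a) (by simp)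
  obtain ⟨equ⟩ := Fintype.truncEquivFin ι |>.nonempty
  let i' := biproduct.ι Hs a ≫ eH.inv ≫ i
  let q' := q ≫ eH.hom ≫ biproduct.π Hs a
  have hsum : ∑ j, (i' ≫ biproduct.π Ls j) ≫ (biproduct.ι Ls j ≫ q') = 𝟙 (Hs a) := by
    calc _ = i' ≫ (∑ j, biproduct.π Ls j ≫ biproduct.ι Ls j) ≫ q' := by
          rw [Preadditive.sum_comp, Preadditive.comp_sum]
          simp only [Category.assoc]
      _ = _ := by rw [biproduct.total]; simp [i', q', reassoc_of% hiq]
  obtain ⟨j, -, hj⟩ := CurveKS.exists_isIso_of_sum K (hHs a) Finset.univ _ (by rw [hsum]; infer_instance)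
  haveI := hj
  haveI := CurveKS.isIso_of_comp (hHs a).1 (hLs j) (i' ≫ biproduct.π Ls j) (biproduct.ι Ls j ≫ q')
  exact ⟨j, inv (i' ≫ biproduct.π Ls j) ≫ biproduct.ι Hs a ≫ eH.inv, eH.hom ≫ biproduct.π Hs a ≫ (i' ≫ biproduct.π Ls j),
    by simp⟩

end OneField

variable {k K : Type u} [Field k] [Field K] [Algebra k K] {X : Scheme.{u}}
  [X.Over (Spec (CommRingCat.of k))] [IsProper (X ↘ Spec (CommRingCat.of k))]
  {X' : Scheme.{u}} [X'.Over (Spec (CommRingCat.of K))] [IsProper (X' ↘ Spec (CommRingCat.of K))] {π : X' ⟶ X}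
  (h : IsPullback π (X' ↘ Spec (CommRingCat.of K)) (X ↘ Spec (CommRingCat.of k)) (Spec.map (CommRingCat.ofHom (algebraMap k K))))

include h in
/-- An indecomposable containing `N` after extension is isotypical of type `N`, if some bundle is. -/
theorem nonempty_iso_pow_of_retract {E M : X.Modules} (hE : Coh.IsCoh E) (hEi : CurveKS.Ind E)
    (hM : Coh.IsCoh M) {N : X'.Modules} (hN : CurveKS.Ind N) {m : ℕ} (hm : 0 < m)
    (eM : (Scheme.Modules.pullback π).obj M ≅ powM N m)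
    (a : N ⟶ (Scheme.Modules.pullback π).obj E) (b : (Scheme.Modules.pullback π).obj E ⟶ N) (hab : a ≫ b = 𝟙 N) :
    ∃ r, 0 < r ∧ Nonempty ((Scheme.Modules.pullback π).obj E ≅ powM N r) := by
  haveI := CurveCohLib.isNoetherian_of_proper (k := k) (X := X)
  haveI := CurveCohLib.isNoetherian_of_proper (k := K) (X := X')
  haveI := Abelian.hasFiniteBiproducts (C := X.Modules)
  haveI : (Scheme.Modules.pullback π).Additive :=
    (Scheme.Modules.pullbackPushforwardAdjunction π).left_adjoint_additive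
  haveI : Module.Finite k (M ⟶ M) := CurveKS.finite_hom k hM hM
  obtain ⟨n, Ws, hWs, ⟨eW⟩⟩ := CurveKS.exists_decomposition k M
  have hn : 0 < n := Nat.pos_of_ne_zero fun h0 => by
    subst h0
    have hz : IsZero M := ((IsZero.iff_id_eq_zero _).2 (biproduct.hom_ext _ _ fun i => i.elim0)).of_iso eW
    have hz' := ((Scheme.Modules.pullback π).map_isZero hz).of_iso eM.symm
    refine hN.1 ((IsZero.iff_id_eq_zero N).2 ?_)
    rw [← Sigma.ι_desc (fun _ : Fin m => 𝟙 N) ⟨0, hm⟩, hz'.eq_of_src (Sigma.desc fun _ : Fin m => 𝟙 N) 0, comp_zero]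
  let W := Ws ⟨0, hn⟩
  have hW : W = Ws ⟨0, hn⟩ := rfl
  let iW : W ⟶ M := biproduct.ι Ws ⟨0, hn⟩ ≫ eW.inv
  let qW : M ⟶ W := eW.hom ≫ biproduct.π Ws ⟨0, hn⟩
  have hiqW : iW ≫ qW = 𝟙 W := by simp [iW, qW, W]
  have hWc : Coh.IsCoh W := isCoh_of_retract hM iW qW hiqW
  obtain ⟨r, ⟨eWr⟩⟩ := exists_pow_of_retract (k := K) hN (ZClosLib.isCoh_pullback π hWc) m
    ((Scheme.Modules.pullback π).map iW ≫ eM.hom) (eM.inv ≫ (Scheme.Modules.pullback π).map qW) (by
      rw [Category.assoc, eM.hom_inv_id_assoc, ← Functor.map_comp, hiqW, CategoryTheory.Functor.map_id])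
  obtain ⟨p₁⟩ := nonempty_pullback_pow π E r
  haveI : Module.Finite k (W ⟶ W) := CurveKS.finite_hom k hWc hWc
  obtain ⟨u, v, huv⟩ := exists_factor h hWc (ind_unique.isCoh_pow r hE)
    (eWr.hom ≫ Limits.Sigma.map (fun _ : Fin r => a) ≫ p₁.inv)
    (p₁.hom ≫ Limits.Sigma.map (fun _ : Fin r => b) ≫ eWr.inv) (by
      simp only [Category.assoc, Iso.inv_hom_id_assoc]
      have hmap : Limits.Sigma.map (fun _ : Fin r => a) ≫ Limits.Sigma.map (fun _ : Fin r => b) = 𝟙 _ :=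
        Limits.Sigma.hom_ext _ _ fun _ => by simp [reassoc_of% hab]
      rw [reassoc_of% hmap, Iso.hom_inv_id])
    (𝟙 W) (𝟙 W) (Category.id_comp _) (hWs _)
  obtain ⟨bp⟩ := nonempty_pow_biproduct E r
  have hsum : ∑ j : Fin r, (u ≫ bp.hom ≫ biproduct.π (fun _ : Fin r => E) j) ≫
      (biproduct.ι (fun _ : Fin r => E) j ≫ bp.inv ≫ v) = u ≫ v := by
    calc _ = u ≫ bp.hom ≫ (∑ j : Fin r, biproduct.π (fun _ : Fin r => E) j ≫ biproduct.ι (fun _ : Fin r => E) j) ≫ bp.inv ≫ v := by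
          rw [Preadditive.sum_comp, Preadditive.comp_sum, Preadditive.comp_sum]
          simp only [Category.assoc]
      _ = _ := by rw [biproduct.total]; simp
  obtain ⟨j, -, hj⟩ := CurveKS.exists_isIso_of_sum k (hWs ⟨0, hn⟩) Finset.univ _ (by rw [hsum]; exact huv)
  haveI := hj
  haveI := CurveKS.isIso_of_comp (hWs ⟨0, hn⟩).1 hEi (u ≫ bp.hom ≫ biproduct.π (fun _ : Fin r => E) j)
    (biproduct.ι (fun _ : Fin r => E) j ≫ bp.inv ≫ v)
  refine ⟨r, ?_, ⟨(Scheme.Modules.pullback π).mapIso (asIso (u ≫ bp.hom ≫ biproduct.π (fun _ : Fin r => E) j)).symm ≪≫ eWr⟩⟩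
  exact (j.pos)

end Groth.Agent.ASBunLib

namespace Groth.Agent.ASBunLib

open Groth.Agent

/-- On a Severi–Brauer scheme, an indecomposable with an invertible summand over the algebraic closure is of twisting type. -/
theorem exists_twPow_of_retract {k : Type u} [Field k] {A : Type u} [Ring A] [Algebra k A]
    [Algebra.IsCentral k A] [IsSimpleRing A] {n : ℕ} (hn : 0 < n)
    (hA : Module.finrank k A = n * n) {X : Scheme.{u}} {f : X ⟶ Spec (CommRingCat.of k)}
    [IsProper f] (hX : BrSev.IsSBOf k A (n * n - n) f)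
    {K : Type u} [Field K] [Algebra k K] [IsAlgClosure k K] (e : BrSev.Splitting f K (n - 1))
    {E : X.Modules} (hE : FlatMod.IsFinLocFree E) (hEi : CurveKS.Ind E)
    {N : (BrSev.bc f K).Modules} (hN : PicF.IsInvertible N)
    (a : N ⟶ BrSev.bcMod f K E) (b : BrSev.bcMod f K E ⟶ N) (hab : a ≫ b = 𝟙 N) :
    ∃ (j : ℤ) (r : ℕ), 0 < r ∧ BrSev.IsTwPow e j r E := by
  letI : X.Over (Spec (CommRingCat.of k)) := ⟨f⟩
  haveI : IsProper (X ↘ Spec (CommRingCat.of k)) := ‹IsProper f›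
  letI : (BrSev.bc f K).Over (Spec (CommRingCat.of K)) := ⟨BrSev.bcTo f K⟩
  haveI : IsProper ((BrSev.bc f K) ↘ Spec (CommRingCat.of K)) :=
    inferInstanceAs (IsProper (Limits.pullback.snd f (Spec.map (CommRingCat.ofHom (algebraMap k K)))))
  haveI : IsAlgClosed K := IsAlgClosure.isAlgClosed k
  haveI := isIntegral_bc e
  haveI := CurveCohLib.isNoetherian_of_proper (k := k) (X := X)
  obtain ⟨K₀, i₁, i₂, hfd, hgal, ⟨e₀⟩⟩ := S14209.result k A n hn hA f hX
  letI := i₁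
  letI := i₂
  haveI := hfd
  haveI := hgal
  obtain ⟨j, hj⟩ := exists_twist_cl (n - 1) K (PicLoc.isInvertible_pullback e.iso.inv hN)
  obtain ⟨eN⟩ : Nonempty (N ≅ e.twist j) := by
    rw [← PicGrp.cl_eq_cl_iff]
    have h2 := congrArg (PicF.pullCl e.iso.hom) hj
    refine Eq.trans ?_ h2
    show PicF.cl N = PicF.pullCl e.iso.hom (PicF.pullCl e.iso.inv (PicF.cl N))
    rw [PicClLib.pullCl_comp, e.iso.hom_inv_id, PicClLib.pullCl_id]
  obtain ⟨M, m, hM, hm, hMt⟩ := exists_type_galois f e₀ j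
  obtain ⟨eM⟩ := isTwPow_of_algHom (IsAlgClosed.lift : K₀ →ₐ[k] K) e₀ e hMt
  have h1 := finrank_end_invertible (surjective_toGlobal (K := K) (Y := BrSev.bc f K)) hN
  obtain ⟨r, hr, ⟨eE⟩⟩ := nonempty_iso_pow_of_retract (k := k) (K := K)
    (show IsPullback (BrSev.proj f K) ((BrSev.bc f K) ↘ Spec (CommRingCat.of K)) (X ↘ Spec (CommRingCat.of k))
      (Spec.map (CommRingCat.ofHom (algebraMap k K))) from IsPullback.of_hasPullback _ _)
    (CurveDeg.isCoh_of_isFinLocFree hE) hEi (CurveDeg.isCoh_of_isFinLocFree hM) (ind_of_finrank_end h1) hm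
    (eM ≪≫ Sigma.mapIso (fun _ => eN.symm)) a b hab
  exact ⟨j, r, hr, ⟨eE ≪≫ Sigma.mapIso (fun _ => eN)⟩⟩

end Groth.Agent.ASBunLib
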