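import Groth.Agent.ASBunLib.TwistType
import Groth.Agent.S11388
import Groth.Agent.Lib.RegDescent
import Groth.Agent.Lib.CurveVanish
import Groth.Agent.HorrX.Basic
import Groth.Agent.RGLib.GenPSheaf
import Groth.Agent.DepthRel.Vanishing
import Groth.Agent.ASBunLib.Classify

/-!
# The Grothendieck group of bundles on a Severi–Brauer variety is spanned by non-positive types
-/

noncomputable section

set_option linter.style.haveILetI false
set_option linter.unusedSectionVars false
set_option backward.isDefEq.respectTransparency false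
set_option backward.isDefEq.respectTransparency.types false
set_option maxHeartbeats 1000000

universe u

open CategoryTheory CategoryTheory.Limits AlgebraicGeometry TopologicalSpace

namespace Groth.Agent.ASBunLib.K0Span

open Groth.Agent Groth.Agent.ASBunLib Groth.Agent.PnCoh.Finite
open scoped Groth.Agent.H23.PicMul

attribute [local instance] MvPolynomial.gradedAlgebra

local notation "clF" => KZero.clSub (fun M => FlatMod.IsFinLocFree M)

theorem clF_ses {X : Scheme.{u}} (S : ShortComplex X.Modules) (hS : S.ShortExact) (h₁ : FlatMod.IsFinLocFree S.X₁)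
    (h₂ : FlatMod.IsFinLocFree S.X₂) (h₃ : FlatMod.IsFinLocFree S.X₃) : clF S.X₂ = clF S.X₁ + clF S.X₃ := by
  simp only [KZero.clSub, dif_pos h₁, dif_pos h₂, dif_pos h₃]
  rw [← QuotientAddGroup.mk_add]
  refine (QuotientAddGroup.eq_iff_sub_mem.2 ?_)
  rw [← sub_sub]
  exact AddSubgroup.subset_closure ⟨S, h₁, h₂, h₃, hS, rfl⟩

theorem clF_biprod {X : Scheme.{u}} {M N : X.Modules} (hM : FlatMod.IsFinLocFree M) (hN : FlatMod.IsFinLocFree N) :
    clF (M ⊞ N) = clF M + clF N :=
  clF_ses (ShortComplex.mk (biprod.inl : M ⟶ M ⊞ N) biprod.snd biprod.inl_snd)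
    (ShortComplex.Splitting.ofHasBinaryBiproduct M N).shortExact hM (KFlatLib.isFinLocFree_biprod hM hN) hN

theorem clF_zero {X : Scheme.{u}} {M : X.Modules} (hM : IsZero M) : clF M = 0 := by
  have hf := KFlatLib.isFinLocFree_of_isZero hM
  have hS : (ShortComplex.mk (0 : M ⟶ M) (0 : M ⟶ M) comp_zero).ShortExact :=
    { exact := ShortComplex.exact_of_isZero_X₂ _ hM
      mono_f := ⟨fun _ _ _ => hM.eq_of_tgt _ _⟩
      epi_g := ⟨fun _ _ _ => hM.eq_of_src _ _⟩ }
  have h := clF_ses _ hS hf hf hf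
  exact left_eq_add.1 h

theorem clF_iso {X : Scheme.{u}} {M N : X.Modules} (φ : M ≅ N) (hM : FlatMod.IsFinLocFree M)
    (hN : FlatMod.IsFinLocFree N) : clF M = clF N := by
  obtain ⟨Z, hz⟩ := HasZeroObject.zero (C := X.Modules)
  have hS : (ShortComplex.mk φ.hom (0 : N ⟶ Z) comp_zero).ShortExact :=
    { exact := (ShortComplex.mk φ.hom (0 : N ⟶ Z) comp_zero).exact_iff_epi (hz.eq_of_tgt _ _) |>.2 inferInstance
      mono_f := inferInstance
      epi_g := ⟨fun _ _ _ => hz.eq_of_src _ _⟩ }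
  have h := clF_ses _ hS hM hN (KFlatLib.isFinLocFree_of_isZero hz)
  rw [clF_zero hz, add_zero] at h
  exact h.symm

theorem clF_biproduct_mem {X : Scheme.{u}} [HasFiniteBiproducts X.Modules]
    (G : AddSubgroup (KZero.K0sub fun M : X.Modules => FlatMod.IsFinLocFree M)) :
    ∀ (n : ℕ) (Ws : Fin n → X.Modules), (∀ i, FlatMod.IsFinLocFree (Ws i) ∧ clF (Ws i) ∈ G) →
      FlatMod.IsFinLocFree (⨁ Ws) ∧ clF (⨁ Ws) ∈ G := by
  intro n
  induction n with
  | zero =>
    intro Ws _
    have hz : IsZero (⨁ Ws) := (IsZero.iff_id_eq_zero _).2 (biproduct.hom_ext _ _ fun i => i.elim0)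
    exact ⟨KFlatLib.isFinLocFree_of_isZero hz, by rw [clF_zero hz]; exact G.zero_mem⟩
  | succ n ih =>
    intro Ws h
    obtain ⟨h₁, h₂⟩ := ih (fun i => Ws ((0 : Fin (n + 1)).succAbove i)) fun i => h _
    have hb := KFlatLib.isFinLocFree_biprod (h 0).1 h₁
    refine ⟨H23.PullPush.isFinLocFree_of_iso (CurveKS.splitAt Ws 0) hb, ?_⟩
    rw [← clF_iso (CurveKS.splitAt Ws 0) hb (H23.PullPush.isFinLocFree_of_iso (CurveKS.splitAt Ws 0) hb),
      clF_biprod (h 0).1 h₁]
    exact G.add_mem (h 0).2 h₂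

variable {k : Type u} [Field k] {X : Scheme.{u}} {f : X ⟶ Spec (CommRingCat.of k)} [IsProper f]
  {K : Type u} [Field K] [Algebra k K] [IsAlgClosure k K] {m : ℕ} (e : BrSev.Splitting f K m)

local notation "ℙ" => CohB1.ProjSpace m K
local notation "𝒪(" n ")" => Twist.twistProjSpace m K n

/-- The projection from projective space. -/
def toX : CohB1.ProjSpace m K ⟶ X := e.iso.inv ≫ BrSev.proj f K

/-- The bundle on projective space. -/
abbrev up (E : X.Modules) : (CohB1.ProjSpace m K).Modules := (Scheme.Modules.pullback (toX e)).obj E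

/-- Twisting. -/
abbrev tw (t : ℤ) : (CohB1.ProjSpace m K).Modules ⥤ (CohB1.ProjSpace m K).Modules :=
  RegEpi.twF (k := K) (n := m) t

theorem isPullback_toX :
    IsPullback (toX e) ((CohB1.ProjSpace m K) ↘ Spec (CommRingCat.of K)) f
      (Spec.map (CommRingCat.ofHom (algebraMap k K))) := by
  refine (IsPullback.of_hasPullback f _).of_iso e.iso (Iso.refl _) (Iso.refl _) (Iso.refl _) ?_ ?_ (by simp) (by simp)
  · simp [toX]
  · rw [Iso.refl_hom, Category.comp_id]; exact e.comm.symm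

theorem flat_surjective_toX : Flat (toX e) ∧ Surjective (toX e) := by
  letI : X.Over (Spec (CommRingCat.of k)) := ⟨f⟩
  haveI : IsProper (X ↘ Spec (CommRingCat.of k)) := ‹IsProper f›
  haveI := ExtShX.isProper_pn (k := K) (r := m)
  exact flat_surjective_proj (k := k) (K := K) (X := X) (isPullback_toX e)

/-- The twisting type, seen on projective space. -/
theorem isTwPow_iff {W : X.Modules} {a : ℤ} {r : ℕ} :
    BrSev.IsTwPow e a r W ↔ Nonempty (up e W ≅ powM 𝒪(a) r) := by
  refine ⟨fun ⟨φ⟩ => ?_, fun ⟨φ⟩ => ?_⟩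
  · obtain ⟨p⟩ := nonempty_pullback_pow e.iso.inv (e.twist a) r
    exact ⟨((Scheme.Modules.pullbackComp _ _).app W).symm ≪≫ (Scheme.Modules.pullback e.iso.inv).mapIso φ ≪≫ p ≪≫
      Sigma.mapIso fun _ => (Scheme.Modules.pullbackComp _ _).app _ ≪≫
        (Scheme.Modules.pullbackCongr e.iso.inv_hom_id).app _ ≪≫ (Scheme.Modules.pullbackId _).app _⟩
  · obtain ⟨p⟩ := nonempty_pullback_pow e.iso.hom 𝒪(a) r
    exact ⟨(Scheme.Modules.pullbackCongr (show BrSev.proj f K = e.iso.hom ≫ toX e by simp [toX])).app W ≪≫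
      ((Scheme.Modules.pullbackComp _ _).app W).symm ≪≫ (Scheme.Modules.pullback e.iso.hom).mapIso φ ≪≫ p⟩

/-- The subgroup spanned by types at most `b`. -/
def T (b : ℤ) : AddSubgroup (KZero.K0sub fun M : X.Modules => FlatMod.IsFinLocFree M) :=
  AddSubgroup.closure {c | ∃ (W : X.Modules) (a : ℤ) (r : ℕ), FlatMod.IsFinLocFree W ∧ CurveKS.Ind W ∧
    0 < r ∧ BrSev.IsTwPow e a r W ∧ a ≤ b ∧ c = clF W}

theorem T_mono {b b' : ℤ} (h : b ≤ b') : T e b ≤ T e b' :=
  AddSubgroup.closure_mono fun _ ⟨W, a, r, h1, h2, h3, h4, h5, h6⟩ => ⟨W, a, r, h1, h2, h3, h4, h5.trans h, h6⟩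

/-- No sections up to twist `c`. -/
def C (c : ℤ) (E : X.Modules) : Prop :=
  ∀ t : ℤ, t ≤ c → Subsingleton (Coh.HH (CohB1.ProjSpace m K) ((tw t).obj (up e E)) 0)

/-- Vanishing of the first `s` intermediate cohomologies. -/
def V (s : ℕ) (E : X.Modules) : Prop :=
  ∀ (t : ℤ) (i : ℕ), 0 < i → i ≤ s → i < m → Subsingleton (Coh.HH (CohB1.ProjSpace m K) ((tw t).obj (up e E)) i)

/-- A bundle all of whose types are above the bound. -/
structure Good (c : ℤ) (P : X.Modules) : Prop where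
  flf : FlatMod.IsFinLocFree P
  mem : clF P ∈ T e (-c - 1)
  hC : C e c P
  hV : V e m P

theorem subsingleton_tw_up_biprod {M N : X.Modules} (t : ℤ) (i : ℕ)
    (hM : Subsingleton (Coh.HH (CohB1.ProjSpace m K) ((tw t).obj (up e M)) i))
    (hN : Subsingleton (Coh.HH (CohB1.ProjSpace m K) ((tw t).obj (up e N)) i)) :
    Subsingleton (Coh.HH (CohB1.ProjSpace m K) ((tw t).obj (up e (M ⊞ N))) i) := by
  haveI : (Scheme.Modules.pullback (toX e)).Additive :=
    (Scheme.Modules.pullbackPushforwardAdjunction (toX e)).left_adjoint_additive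
  let F := Scheme.Modules.pullback (toX e) ⋙ tw (K := K) (m := m) t
  haveI : F.Additive := inferInstance
  haveI := Abelian.hasFiniteBiproducts (C := (CohB1.ProjSpace m K).Modules)
  refine subsingleton_HH_of_decomposition (fun b : Bool => if b then F.obj M else F.obj N)
    (fun b => match b with
      | true => F.map biprod.fst
      | false => F.map biprod.snd)
    (fun b => match b with
      | true => F.map biprod.inl
      | false => F.map biprod.inr) ?_ i
    (fun b => by cases b <;> assumption)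
  rw [Fintype.sum_bool]
  show F.map biprod.fst ≫ F.map biprod.inl + F.map biprod.snd ≫ F.map biprod.inr = 𝟙 _
  rw [← Functor.map_comp, ← Functor.map_comp, ← Functor.map_add, biprod.total, CategoryTheory.Functor.map_id]

theorem good_biprod {c : ℤ} {M N : X.Modules} (hM : Good e c M) (hN : Good e c N) : Good e c (M ⊞ N) where
  flf := KFlatLib.isFinLocFree_biprod hM.flf hN.flf
  mem := by rw [clF_biprod hM.flf hN.flf]; exact (T e _).add_mem hM.mem hN.mem
  hC t ht := subsingleton_tw_up_biprod e t 0 (hM.hC t ht) (hN.hC t ht)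
  hV t i h1 h2 h3 := subsingleton_tw_up_biprod e t i (hM.hV t i h1 h2 h3) (hN.hV t i h1 h2 h3)

theorem good_zero {c : ℤ} {Z : X.Modules} (hz : IsZero Z) : Good e c Z := by
  haveI : (Scheme.Modules.pullback (toX e)).Additive :=
    (Scheme.Modules.pullbackPushforwardAdjunction (toX e)).left_adjoint_additive
  have h : ∀ t i, Subsingleton (Coh.HH (CohB1.ProjSpace m K) ((tw t).obj (up e Z)) i) := fun t i =>
    Euler.subsingleton_HH_of_isZero ((tw (K := K) (m := m) t).map_isZero ((Scheme.Modules.pullback (toX e)).map_isZero hz)) i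
  exact ⟨KFlatLib.isFinLocFree_of_isZero hz, by rw [clF_zero hz]; exact (T e _).zero_mem, fun t _ => h t 0,
    fun t i _ _ _ => h t i⟩

theorem good_type (hm : 0 < m) {c a : ℤ} {W : X.Modules} {r : ℕ} (hW : FlatMod.IsFinLocFree W) (hWi : CurveKS.Ind W)
    (hr : 0 < r) (hWt : BrSev.IsTwPow e a r W) (ha : a ≤ -c - 1) : Good e c W := by
  obtain ⟨φ⟩ := (isTwPow_iff e).1 hWt
  have key : ∀ t i, Subsingleton (Coh.HH (CohB1.ProjSpace m K) 𝒪(a + t) i) →
      Subsingleton (Coh.HH (CohB1.ProjSpace m K) ((tw t).obj (up e W)) i) := fun t i h => by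
    obtain ⟨ψ⟩ := RegEpi.twF_sigma_iso (k := K) (n := m) r a t
    exact AmpleVan.subsingleton_of_iso ((tw t).mapIso φ ≪≫ ψ).symm i (RegEpi.subsingleton_HH_sigma _ i fun _ => h)
  refine ⟨hW, AddSubgroup.subset_closure ⟨W, a, r, hW, hWi, hr, hWt, ha, rfl⟩, fun t ht => key t 0 ?_,
    fun t i h1 h2 h3 => key t i ?_⟩
  · exact S0844.result K m (a + t) 0 (fun h => by omega) (fun h => by omega)
  · exact S0844.result K m (a + t) i (fun h => by omega) (fun h => by omega)

/-- Sections of a twist lift. -/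
def Lift (t : ℤ) {P E : X.Modules} (q : P ⟶ E) : Prop :=
  ∀ φ : Coh.structureModule (CohB1.ProjSpace m K) ⟶ (tw t).obj (up e E),
    ∃ ψ, ψ ≫ (tw t).map ((Scheme.Modules.pullback (toX e)).map q) = φ

theorem lift_of_fac {t : ℤ} {P P' E : X.Modules} {q : P ⟶ E} {q' : P' ⟶ E} (j : P ⟶ P') (hj : j ≫ q' = q)
    (h : Lift e t q) : Lift e t q' := fun φ => by
  obtain ⟨ψ, hψ⟩ := h φ
  refine ⟨ψ ≫ (tw t).map ((Scheme.Modules.pullback (toX e)).map j), ?_⟩
  rw [Category.assoc, ← Functor.map_comp, ← Functor.map_comp, hj, hψ]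

/-- Finitely many maps from good bundles are absorbed by one. -/
theorem exists_cover {c : ℤ} {W E : X.Modules} (hW : Good e c W) :
    ∀ (N : ℕ) (fs : Fin N → (W ⟶ E)), ∃ (P : X.Modules) (q : P ⟶ E), Good e c P ∧ ∀ i, ∃ g, g ≫ q = fs i := by
  intro N
  induction N with
  | zero =>
    intro fs
    obtain ⟨Z, hz⟩ := HasZeroObject.zero (C := X.Modules)
    exact ⟨Z, 0, good_zero e hz, fun i => i.elim0⟩
  | succ N ih =>
    intro fs
    obtain ⟨P, q, hP, hq⟩ := ih (fun i => fs i.succ)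
    refine ⟨W ⊞ P, biprod.desc (fs 0) q, good_biprod e hW hP, fun i => ?_⟩
    cases i using Fin.cases with
    | zero => exact ⟨biprod.inl, biprod.inl_desc _ _⟩
    | succ i => obtain ⟨g, hg⟩ := hq i; exact ⟨g ≫ biprod.inr, by simp [hg]⟩

/-- One twist. -/
theorem exists_lift_one (hm : 0 < m) {c t : ℤ} (ht : c < t) {E : X.Modules} (hE : FlatMod.IsFinLocFree E) :
    ∃ (P : X.Modules) (q : P ⟶ E), Good e c P ∧ Lift e t q := by
  classical
  letI : X.Over (Spec (CommRingCat.of k)) := ⟨f⟩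
  haveI : IsProper (X ↘ Spec (CommRingCat.of k)) := ‹IsProper f›
  haveI := ExtShX.isProper_pn (k := K) (r := m)
  haveI : CompactSpace X := QuasiCompact.compactSpace_of_compactSpace f
  haveI := CurveCohLib.isNoetherian_of_proper (k := k) (X := X)
  haveI := CurveCohLib.isNoetherian_of_proper (k := K) (X := CohB1.ProjSpace m K)
  haveI : IsLocallyNoetherian (Proj (CohB1.polyGrading m K)) := ExtShX.isLocallyNoetherian_pn
  obtain ⟨W, r, hW, hWi, hr, hWt⟩ := exists_ind_type f e (-t)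
  obtain ⟨eW⟩ := (isTwPow_iff e).1 hWt
  have hWc := CurveDeg.isCoh_of_isFinLocFree hW
  have hEc := CurveDeg.isCoh_of_isFinLocFree hE
  haveI : Module.Finite k (W ⟶ E) := CurveKS.finite_hom k hWc hEc
  obtain ⟨N, v, hv⟩ := Module.Finite.exists_fin (R := k) (M := W ⟶ E)
  obtain ⟨P, q, hP, hq⟩ := exists_cover e (good_type e hm (c := c) hW hWi hr hWt (by omega)) N v
  refine ⟨P, q, hP, fun φ => ?_⟩
  have hall : ∀ g : W ⟶ E, ∃ g', g' ≫ q = g := fun g => by
    have hg : g ∈ Submodule.span k (Set.range v) := hv ▸ Submodule.mem_top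
    induction hg using Submodule.span_induction with
    | mem y hy => obtain ⟨i, rfl⟩ := hy; exact hq i
    | zero => exact ⟨0, zero_comp⟩
    | add y z _ _ hy hz =>
      obtain ⟨y', hy'⟩ := hy; obtain ⟨z', hz'⟩ := hz
      exact ⟨y' + z', by rw [Preadditive.add_comp, hy', hz']⟩
    | smul a y _ hy => obtain ⟨y', hy'⟩ := hy; exact ⟨a • y', by rw [Linear.smul_comp, hy']⟩
  have hlift : ∀ ξ : 𝒪(-t) ⟶ up e E, ∃ η, η ≫ (Scheme.Modules.pullback (toX e)).map q = ξ := fun ξ => by
    obtain ⟨n, a, g, hg⟩ := exists_sum (isPullback_toX e) hEc.1 hWc (eW.hom ≫ Limits.Sigma.desc fun _ => ξ)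
    choose g' hg' using fun i => hall (g i)
    refine ⟨Limits.Sigma.ι (fun _ : Fin r => 𝒪(-t)) ⟨0, hr⟩ ≫ eW.inv ≫
      ∑ i, bcHom ((CohB1.ProjSpace m K) ↘ Spec (CommRingCat.of K)) (toX e) (a i) (g' i), ?_⟩
    have hs : (∑ i, bcHom ((CohB1.ProjSpace m K) ↘ Spec (CommRingCat.of K)) (toX e) (a i) (g' i)) ≫
        (Scheme.Modules.pullback (toX e)).map q = eW.hom ≫ Limits.Sigma.desc fun _ => ξ := by
      rw [hg, Preadditive.sum_comp]
      refine Finset.sum_congr rfl fun i _ => ?_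
      rw [show (Scheme.Modules.pullback (toX e)).map q =
          bcHom ((CohB1.ProjSpace m K) ↘ Spec (CommRingCat.of K)) (toX e) (1 : K) q by
        rw [bcHom, scal_one, Category.comp_id], bcHom_comp, mul_one, hg']
    rw [Category.assoc, Category.assoc, hs, eW.inv_hom_id_assoc, Limits.Sigma.ι_desc]
  obtain ⟨a₀⟩ := RegEpi.unitIso (k := K) (n := m)
  obtain ⟨a₁⟩ := Groth.Agent.PnCoh.Finite.twist_tensor_iso (ProjRegular.coords K m) ProjRegular.coords_mem ProjRegular.coords_cover (-t) t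
  let uI : Coh.structureModule (CohB1.ProjSpace m K) ≅ (tw t).obj 𝒪(-t) :=
    a₀ ≪≫ eqToIso (congrArg (fun n => Twist.twist (CohB1.polyGrading m K) n) (neg_add_cancel t).symm) ≪≫ a₁.symm
  haveI : (tw (K := K) (m := m) t).IsEquivalence := RegEpi.isEquivalence_twF t
  obtain ⟨η, hη⟩ := hlift ((tw t).preimage (uI.inv ≫ φ))
  refine ⟨uI.hom ≫ (tw t).map η, ?_⟩
  rw [Category.assoc, ← Functor.map_comp, hη, Functor.map_preimage, Iso.hom_inv_id_assoc]

/-- Finitely many twists. -/
theorem exists_lift_finset (hm : 0 < m) {c : ℤ} {E : X.Modules} (hE : FlatMod.IsFinLocFree E) (L : Finset ℤ)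
    (hL : ∀ t ∈ L, c < t) : ∃ (P : X.Modules) (q : P ⟶ E), Good e c P ∧ ∀ t ∈ L, Lift e t q := by
  classical
  induction L using Finset.induction with
  | empty =>
    obtain ⟨Z, hz⟩ := HasZeroObject.zero (C := X.Modules)
    exact ⟨Z, 0, good_zero e hz, fun t ht => absurd ht (Finset.notMem_empty t)⟩
  | insert t L _ ih =>
    obtain ⟨P₁, q₁, h₁, l₁⟩ := exists_lift_one e hm (hL t (Finset.mem_insert_self t L)) hE
    obtain ⟨P₂, q₂, h₂, l₂⟩ := ih fun s hs => hL s (Finset.mem_insert_of_mem hs)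
    refine ⟨P₁ ⊞ P₂, biprod.desc q₁ q₂, good_biprod e h₁ h₂, fun s hs => ?_⟩
    rcases Finset.mem_insert.1 hs with rfl | hs
    · exact lift_of_fac e biprod.inl (biprod.inl_desc _ _) l₁
    · exact lift_of_fac e biprod.inr (biprod.inr_desc _ _) (l₂ s hs)

/-- An epimorphism from a good bundle, lifting prescribed twists. -/
theorem exists_epi_good (hm : 0 < m) (c : ℤ) {E : X.Modules} (hE : FlatMod.IsFinLocFree E) (L : Finset ℤ)
    (hL : ∀ t ∈ L, c < t) : ∃ (P : X.Modules) (q : P ⟶ E), Good e c P ∧ Epi q ∧ ∀ t ∈ L, Lift e t q := by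
  classical
  haveI := ExtShX.isProper_pn (k := K) (r := m)
  haveI := CurveCohLib.isNoetherian_of_proper (k := K) (X := CohB1.ProjSpace m K)
  haveI : IsLocallyNoetherian (Proj (CohB1.polyGrading m K)) := ExtShX.isLocallyNoetherian_pn
  have hup : Coh.IsCoh (up e E) := CurveDeg.isCoh_of_isFinLocFree (KFlatLib.isFinLocFree_pullback _ hE)
  choose d hd using fun i : ℕ => Groth.Agent.RegDescent.exists_vanishing_twF (k := K) (n := m) hup (i + 1) (Nat.succ_pos i)
  obtain ⟨M, hMc, hM⟩ : ∃ M : ℤ, c < M ∧ ∀ i, i < m → d i + (i + 1 : ℕ) ≤ M := by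
    refine ⟨max (c + 1) ((Finset.range m).sup' ⟨0, Finset.mem_range.2 hm⟩ fun i => d i + (i + 1 : ℕ)),
      lt_of_lt_of_le (lt_add_one c) (le_max_left _ _), fun i hi => le_max_of_le_right ?_⟩
    exact Finset.le_sup' (fun i => d i + (i + 1 : ℕ)) (Finset.mem_range.2 hi)
  have hreg : Curv2.IsMRegular K m (up e E) M := fun i h1 h2 => by
    obtain ⟨i, rfl⟩ : ∃ i', i = i' + 1 := ⟨i - 1, by omega⟩
    exact hd i _ (by have := hM i (by omega); omega)
  obtain ⟨ι, p, hp⟩ := ExtShX.Horrocks.generated_of_regular hup hreg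
  haveI : Epi p := hp
  obtain ⟨P, q, hP, hq⟩ := exists_lift_finset e hm hE (insert M L) (by
    intro t ht
    rcases Finset.mem_insert.1 ht with rfl | ht
    · exact hMc
    · exact hL t ht)
  refine ⟨P, q, hP, ?_, fun t ht => hq t (Finset.mem_insert_of_mem ht)⟩
  have hepi : Epi ((tw M).map ((Scheme.Modules.pullback (toX e)).map q)) := ⟨fun {Z} a b hab => by
    refine (cancel_epi p).1 (Limits.Sigma.hom_ext _ _ fun j => ?_)
    obtain ⟨ψ, hψ⟩ := hq M (Finset.mem_insert_self _ _)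
      (show Coh.structureModule (CohB1.ProjSpace m K) ⟶ _ from Limits.Sigma.ι (fun _ : ι => Coh.structureModule (CohB1.ProjSpace m K)) j ≫ p)
    rw [← Category.assoc, ← Category.assoc]
    exact (congrArg (· ≫ a) hψ.symm).trans (((Category.assoc _ _ _).trans (congrArg (ψ ≫ ·) hab)).trans
      ((Category.assoc _ _ _).symm.trans (congrArg (· ≫ b) hψ)))⟩
  obtain ⟨hfl, hsurj⟩ := flat_surjective_toX e
  haveI := hsurj
  haveI : (tw (K := K) (m := m) M).IsEquivalence := RegEpi.isEquivalence_twF M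
  exact RGLib.GenPSheaf.epi_of_pullback (fun _ : PUnit.{1} => toX e) (fun _ => hfl)
    (fun y => ⟨⟨⟩, (toX e).surjective y⟩) (QCoh.isQCoh_of_isFinLocFree hP.flf) (QCoh.isQCoh_of_isFinLocFree hE) q
    fun _ => (tw (K := K) (m := m) M).epi_of_epi_map hepi

/-- The kernel of an epimorphism from a good bundle. -/
theorem kernel_props {c : ℤ} {P E : X.Modules} (hE : FlatMod.IsFinLocFree E) (hP : Good e c P) (q : P ⟶ E) [Epi q] :
    FlatMod.IsFinLocFree (kernel q) ∧ C e c (kernel q) ∧ clF P = clF (kernel q) + clF E ∧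
      ((ShortComplex.mk (kernel.ι q) q (kernel.condition q)).map (Scheme.Modules.pullback (toX e))).ShortExact := by
  letI : X.Over (Spec (CommRingCat.of k)) := ⟨f⟩
  haveI : IsProper (X ↘ Spec (CommRingCat.of k)) := ‹IsProper f›
  haveI := CurveCohLib.isNoetherian_of_proper (k := k) (X := X)
  obtain ⟨hfl, -⟩ := flat_surjective_toX e
  haveI := hfl
  haveI := RGLib.Lim8.preservesFiniteLimits_pullback (toX e)
  haveI := (Scheme.Modules.pullbackPushforwardAdjunction (toX e)).leftAdjoint_preservesColimits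
  haveI : (Scheme.Modules.pullback (toX e)).Additive :=
    (Scheme.Modules.pullbackPushforwardAdjunction (toX e)).left_adjoint_additive
  have hk := DepthRel.isFinLocFree_kernel hE hP.flf q
  have hS : (ShortComplex.mk (kernel.ι q) q (kernel.condition q)).ShortExact :=
    { exact := ShortComplex.exact_of_f_is_kernel _ (kernelIsKernel q) }
  refine ⟨hk, fun t ht => ?_, clF_ses _ hS hk hP.flf hE, hS.map_of_exact _⟩
  letI : (CohB1.ProjSpace m K).Over (Spec (CommRingCat.of K)) := inferInstance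
  haveI : Subsingleton (Coh.structureModule (CohB1.ProjSpace m K) ⟶ (tw t).obj (up e P)) := by
    haveI := hP.hC t ht
    exact (Equiv.ofBijective _ (RegEpi.evalOneLin_bijective K _)).subsingleton
  haveI : (tw (K := K) (m := m) t).IsEquivalence := RegEpi.isEquivalence_twF t
  haveI : Mono ((tw t).map ((Scheme.Modules.pullback (toX e)).map (kernel.ι q))) := inferInstance
  haveI : Subsingleton (Coh.structureModule (CohB1.ProjSpace m K) ⟶ (tw t).obj (up e (kernel q))) :=
    ⟨fun a b => (cancel_mono ((tw t).map ((Scheme.Modules.pullback (toX e)).map (kernel.ι q)))).1 (Subsingleton.elim _ _)⟩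
  exact (Equiv.ofBijective _ (RegEpi.evalOneLin_bijective K _)).symm.subsingleton

/-- One step of the resolution. -/
theorem exists_step (hm : 0 < m) {c : ℤ} {E : X.Modules} (hE : FlatMod.IsFinLocFree E) {s : ℕ} (hC : C e c E)
    (hV : V e s E) : ∃ P E₁ : X.Modules, Good e c P ∧ FlatMod.IsFinLocFree E₁ ∧ C e c E₁ ∧ V e (s + 1) E₁ ∧
      clF P = clF E₁ + clF E := by
  classical
  haveI := ExtShX.isProper_pn (k := K) (r := m)
  haveI := CurveCohLib.isNoetherian_of_proper (k := K) (X := CohB1.ProjSpace m K)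
  haveI : IsLocallyNoetherian (Proj (CohB1.polyGrading m K)) := ExtShX.isLocallyNoetherian_pn
  obtain ⟨P₀, q₀, hP₀, hq₀, -⟩ := exists_epi_good e hm c hE ∅ fun t ht => absurd ht (Finset.notMem_empty t)
  haveI := hq₀
  obtain ⟨hk₀, -, -, hS₀⟩ := kernel_props e hE hP₀ q₀
  obtain ⟨t₂, ht₂⟩ := Groth.Agent.RegDescent.exists_vanishing_twF (k := K) (n := m)
    (CurveDeg.isCoh_of_isFinLocFree (KFlatLib.isFinLocFree_pullback (toX e) hk₀)) 1 one_pos
  obtain ⟨P₁, q₁, hP₁, -, hq₁⟩ := exists_epi_good e hm c hE (Finset.Ioo c t₂) fun t ht => (Finset.mem_Ioo.1 ht).1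
  let q : P₀ ⊞ P₁ ⟶ E := biprod.desc q₀ q₁
  haveI : Epi q := by
    haveI : Epi (biprod.inl ≫ q) := by simpa [q] using hq₀
    exact epi_of_epi biprod.inl q
  have hP := good_biprod e hP₀ hP₁
  obtain ⟨hk, hCk, hcl, hS⟩ := kernel_props e hE hP q
  have hSt : ∀ (t : ℤ) {S : ShortComplex (CohB1.ProjSpace m K).Modules}, S.ShortExact → (S.map (tw t)).ShortExact :=
    fun t S h => Groth.Agent.PnCoh.Finite.shortExact_twistBy (ProjRegular.coords K m) ProjRegular.coords_mem ProjRegular.coords_cover t h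
  have hlift : ∀ t, Lift e t q := fun t => by
    rcases lt_or_ge c t with h | h
    · rcases lt_or_ge t t₂ with h' | h'
      · exact lift_of_fac e biprod.inr (biprod.inr_desc _ _) (hq₁ t (Finset.mem_Ioo.2 ⟨h, h'⟩))
      · refine lift_of_fac e biprod.inl (biprod.inl_desc _ _) fun φ => ?_
        obtain ⟨z, hz⟩ := (QCoh.Ab.connecting_eq_zero_iff (X := (CohB1.ProjSpace m K).toPresheafedSpace.carrier)
          (QCoh.toAb_shortExact (hSt t hS₀)) 0 (RegEpi.evalOneLin K _ φ)).1 ((ht₂ t h').elim _ _)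
        obtain ⟨ψ, rfl⟩ := (RegEpi.evalOneLin_bijective K _).2 z
        exact ⟨ψ, (RegEpi.evalOneLin_bijective K _).1 ((PnDual.HHlin_comp (R := K) ..).symm.trans hz)⟩
    · intro φ
      haveI := hC t h
      haveI : Subsingleton (Coh.structureModule (CohB1.ProjSpace m K) ⟶ (tw t).obj (up e E)) :=
        (Equiv.ofBijective _ (RegEpi.evalOneLin_bijective K _)).subsingleton
      exact ⟨0, Subsingleton.elim _ _⟩
  refine ⟨P₀ ⊞ P₁, kernel q, hP, hk, hCk, fun t i hi hs him => ?_, hcl⟩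
  obtain ⟨i, rfl⟩ : ∃ i', i = i' + 1 := ⟨i - 1, by omega⟩
  have hS' := hSt t hS
  refine subsingleton_of_forall_eq 0 fun x => ?_
  obtain ⟨y, rfl⟩ := (PnDual.HHlin_f_eq_zero_iff (k := K) hS' i x).1 ((hP.hV t (i + 1) hi (by omega) him).elim _ _)
  rcases Nat.eq_zero_or_pos i with rfl | hi0
  · obtain ⟨φ, rfl⟩ := (RegEpi.evalOneLin_bijective K _).2 y
    obtain ⟨ψ, hψ⟩ := hlift t φ
    exact LinearMap.mem_ker.1 (LinearMap.mem_ker.2 ((QCoh.Ab.connecting_eq_zero_iff
      (X := (CohB1.ProjSpace m K).toPresheafedSpace.carrier) (QCoh.toAb_shortExact hS') 0 _).2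
      ⟨RegEpi.evalOneLin K _ ψ, (PnDual.HHlin_comp (R := K) ..).trans (congrArg (RegEpi.evalOneLin K _) hψ)⟩))
  · rw [(hV t i hi0 (by omega) (by omega)).elim y 0, map_zero]

/-- Split bundles. -/
theorem mem_T_of_split (hm : 0 < m) {c : ℤ} {E : X.Modules} (hE : FlatMod.IsFinLocFree E) (hC : C e c E)
    (hV : V e m E) : clF E ∈ T e (-c - 1) := by
  classical
  letI : X.Over (Spec (CommRingCat.of k)) := ⟨f⟩
  haveI : IsProper (X ↘ Spec (CommRingCat.of k)) := ‹IsProper f›
  haveI := ExtShX.isProper_pn (k := K) (r := m)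
  haveI : IsAlgClosed K := IsAlgClosure.isAlgClosed k
  haveI := H23.PnChart.isIntegral_projSpace m K
  haveI := CurveCohLib.isNoetherian_of_proper (k := k) (X := X)
  haveI := CurveCohLib.isNoetherian_of_proper (k := K) (X := CohB1.ProjSpace m K)
  haveI : IsLocallyNoetherian (Proj (CohB1.polyGrading m K)) := ExtShX.isLocallyNoetherian_pn
  haveI := Abelian.hasFiniteBiproducts (C := X.Modules)
  haveI := Abelian.hasFiniteBiproducts (C := (CohB1.ProjSpace m K).Modules)
  haveI : (Scheme.Modules.pullback (toX e)).Additive :=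
    (Scheme.Modules.pullbackPushforwardAdjunction (toX e)).left_adjoint_additive
  have hEc := CurveDeg.isCoh_of_isFinLocFree hE
  obtain ⟨s, d, ⟨eS⟩⟩ := (S11388.result K m hm (up e E)
    (CurveDeg.isCoh_of_isFinLocFree (KFlatLib.isFinLocFree_pullback _ hE))).2
    ⟨⟨c, hC⟩, fun t i h1 h2 => hV t i h1 h2.le h2⟩
  haveI : Module.Finite k (E ⟶ E) := CurveKS.finite_hom k hEc hEc
  obtain ⟨N, Ws, hWs, ⟨eW⟩⟩ := CurveKS.exists_decomposition k E
  have hsummand : ∀ l, FlatMod.IsFinLocFree (Ws l) ∧ clF (Ws l) ∈ T e (-c - 1) := fun l => by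
    have hWf : FlatMod.IsFinLocFree (Ws l) := by
      obtain ⟨N', rfl⟩ : ∃ N', N = N' + 1 := ⟨N - 1, by have := l.2; omega⟩
      exact isFinLocFree_summand hE (eW ≪≫ (CurveKS.splitAt Ws l).symm)
    have hWc := CurveDeg.isCoh_of_isFinLocFree hWf
    let i₁ := biproduct.ι Ws l ≫ eW.inv
    let q₁ := eW.hom ≫ biproduct.π Ws l
    have hiq : i₁ ≫ q₁ = 𝟙 _ := by simp [i₁, q₁]
    have hnz : ¬ IsZero (up e (Ws l)) := fun hz => (hWs l).1 (by
      obtain ⟨hfl, hsurj⟩ := flat_surjective_toX e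
      haveI := hsurj
      exact RGLib.GenPSheaf.isZero_of_pullback (fun _ : PUnit.{1} => toX e) (fun _ => hfl)
        (fun y => ⟨⟨⟩, (toX e).surjective y⟩) (QCoh.isQCoh_of_isFinLocFree hWf) fun _ => hz)
    obtain ⟨j, a, b, hab⟩ := exists_retract_of_retract (K := K) (Ls := fun j => 𝒪(d j))
      (fun j => ind_of_invertible (PnPic.isInvertible_twistProjSpace m K _))
      (CurveDeg.isCoh_of_isFinLocFree (KFlatLib.isFinLocFree_pullback (toX e) hWf)) hnz
      ((Scheme.Modules.pullback (toX e)).map i₁ ≫ eS.hom ≫ (biproduct.isoCoproduct _).inv)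
      ((biproduct.isoCoproduct _).hom ≫ eS.inv ≫ (Scheme.Modules.pullback (toX e)).map q₁)
      (by simp only [Category.assoc, Iso.inv_hom_id_assoc, Iso.hom_inv_id_assoc]
          rw [← Functor.map_comp, hiq, CategoryTheory.Functor.map_id])
    obtain ⟨B, r₀, hB, -, hr₀, hBt⟩ := exists_ind_type f e (d j)
    obtain ⟨eB⟩ := (isTwPow_iff e).1 hBt
    obtain ⟨r, hr, hWt⟩ := nonempty_iso_pow_of_retract (k := k) (K := K) (isPullback_toX e) hWc (hWs l)
      (CurveDeg.isCoh_of_isFinLocFree hB) (ind_of_invertible (PnPic.isInvertible_twistProjSpace m K _)) hr₀ eB a b hab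
    refine ⟨hWf, AddSubgroup.subset_closure ⟨Ws l, d j, r, hWf, hWs l, hr, (isTwPow_iff e).2 hWt, ?_, rfl⟩⟩
    by_contra hlt
    have ht : -(d j) ≤ c := by omega
    let Φ := Scheme.Modules.pullback (toX e) ⋙ tw (K := K) (m := m) (-(d j))
    have h1 : Subsingleton (Coh.HH (CohB1.ProjSpace m K) ((tw (-(d j))).obj 𝒪(d j)) 0) := by
      refine ExtShX.Horrocks.subsingleton_of_retract (a ≫ (Scheme.Modules.pullback (toX e)).map i₁)
        ((Scheme.Modules.pullback (toX e)).map q₁ ≫ b) ?_ _ 0 (hC _ ht)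
      rw [Category.assoc, ← Category.assoc ((Scheme.Modules.pullback (toX e)).map i₁), ← Functor.map_comp, hiq,
        CategoryTheory.Functor.map_id, Category.id_comp, hab]
    obtain ⟨z⟩ := Groth.Agent.PnCoh.Finite.twist_tensor_iso (ProjRegular.coords K m) ProjRegular.coords_mem ProjRegular.coords_cover (d j) (-(d j))
    refine ExtShX.Horrocks.not_subsingleton_sections (K := K) (d := m) 0
      (AmpleVan.subsingleton_of_iso (z ≪≫ eqToIso ?_) 0 h1)
    rw [add_neg_cancel, Nat.cast_zero]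
    rfl
  obtain ⟨h₁, h₂⟩ := clF_biproduct_mem (T e (-c - 1)) N Ws hsummand
  rwa [clF_iso eW hE h₁]

/-- Bundles without sections up to twist `c`. -/
theorem mem_T (hm : 0 < m) {c : ℤ} : ∀ (j s : ℕ), m ≤ s + 1 + j → ∀ E : X.Modules, FlatMod.IsFinLocFree E →
    C e c E → V e s E → clF E ∈ T e (-c - 1) := by
  intro j
  induction j with
  | zero => exact fun s hs E hE hC hV => mem_T_of_split e hm hE hC fun t i h1 _ h3 => hV t i h1 (by omega) h3
  | succ j ih =>
    intro s hs E hE hC hV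
    obtain ⟨P, E₁, hP, hE₁, hC₁, hV₁, hcl⟩ := exists_step e hm hE hC hV
    have h1 := ih (s + 1) (by omega) E₁ hE₁ hC₁ hV₁
    rw [show clF E = clF P - clF E₁ by rw [hcl]; abel]
    exact (T e _).sub_mem hP.mem h1

theorem mem_T' (hm : 0 < m) {c : ℤ} {E : X.Modules} (hE : FlatMod.IsFinLocFree E) (hC : C e c E) :
    clF E ∈ T e (-c - 1) :=
  mem_T e hm m 0 (by omega) E hE hC fun t i h1 h2 _ => absurd h2 (by omega)

theorem T_succ_le (hm : 0 < m) (b : ℤ) : T e (b + 1) ≤ T e b := by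
  refine (AddSubgroup.closure_le _).2 ?_
  rintro _ ⟨W, a, r, hW, hWi, hr, hWt, hab, rfl⟩
  rcases lt_or_eq_of_le hab with h | rfl
  · exact AddSubgroup.subset_closure ⟨W, a, r, hW, hWi, hr, hWt, by omega, rfl⟩
  obtain ⟨P, q, hP, hq, -⟩ := exists_epi_good e hm (-(b + 1)) hW ∅ fun t ht => absurd ht (Finset.notMem_empty t)
  haveI := hq
  obtain ⟨hk, hCk, hcl, -⟩ := kernel_props e hW hP q
  have h1 := mem_T' e hm hk hCk
  have hb : -(-(b + 1)) - 1 = b := by omega
  rw [hb] at h1
  have h2 := hP.mem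
  rw [hb] at h2
  rw [SetLike.mem_coe, show clF W = clF P - clF (kernel q) by rw [hcl]; abel]
  exact (T e _).sub_mem h2 h1

theorem mem_T_zero {E : X.Modules} (hE : FlatMod.IsFinLocFree E) : clF E ∈ T e 0 := by
  rcases Nat.eq_zero_or_pos m with rfl | hm
  · classical
    letI : X.Over (Spec (CommRingCat.of k)) := ⟨f⟩
    haveI : IsProper (X ↘ Spec (CommRingCat.of k)) := ‹IsProper f›
    haveI := ExtShX.isProper_pn (k := K) (r := 0)
    haveI := CurveCohLib.isNoetherian_of_proper (k := k) (X := X)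
    haveI := CurveCohLib.isNoetherian_of_proper (k := K) (X := CohB1.ProjSpace 0 K)
    haveI := H23.PnChart.isIntegral_projSpace 0 K
    haveI := HorrX.subsingleton_pn_zero K
    haveI := Abelian.hasFiniteBiproducts (C := X.Modules)
    have hEc := CurveDeg.isCoh_of_isFinLocFree hE
    haveI : Module.Finite k (E ⟶ E) := CurveKS.finite_hom k hEc hEc
    obtain ⟨N, Ws, hWs, ⟨eW⟩⟩ := CurveKS.exists_decomposition k E
    have hsummand : ∀ l, FlatMod.IsFinLocFree (Ws l) ∧ clF (Ws l) ∈ T e 0 := fun l => by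
      have hWf : FlatMod.IsFinLocFree (Ws l) := by
        obtain ⟨N', rfl⟩ : ∃ N', N = N' + 1 := ⟨N - 1, by have := l.2; omega⟩
        exact isFinLocFree_summand hE (eW ≪≫ (CurveKS.splitAt Ws l).symm)
      obtain ⟨U, r, hx, hU⟩ := KFlatLib.isFinLocFree_pullback (toX e) hWf (Classical.arbitrary _)
      obtain ⟨o⟩ := HorrX.nonempty_iso_free (r := r) (E := up e (Ws l))
        (fun x => ⟨U, Subsingleton.elim (Classical.arbitrary _) x ▸ hx, hU⟩)
      let o' : up e (Ws l) ≅ powM (Twist.twistProjSpace 0 K (0 : ℤ)) r := o ≪≫ Sigma.mapIso fun _ => ExtShX.Horrocks.oneIso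
      exact ⟨hWf, AddSubgroup.subset_closure ⟨Ws l, 0, r, hWf, hWs l,
        pos_of_ind (k := k) (K := K) (X := X) (isPullback_toX e) (CurveDeg.isCoh_of_isFinLocFree hWf) (hWs l) o',
        (isTwPow_iff e).2 ⟨o'⟩, le_rfl, rfl⟩⟩
    obtain ⟨h₁, h₂⟩ := clF_biproduct_mem (T e 0) N Ws hsummand
    rwa [clF_iso eW hE h₁]
  · haveI := ExtShX.isProper_pn (k := K) (r := m)
    obtain ⟨c, hc⟩ := HorrX.subsingleton_H0_twist_neg K m hm (E := up e E) (KFlatLib.isFinLocFree_pullback _ hE)
    have key : ∀ j : ℕ, T e j ≤ T e 0 := fun j => by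
      induction j with
      | zero => exact le_rfl
      | succ j ih => exact (le_of_eq (by push_cast; rfl)).trans ((T_succ_le e hm j).trans ih)
    exact key (-c - 1).toNat (T_mono e (by omega) (mem_T' e hm hE (c := c) hc))

/-- The classes of non-positive types span. -/
theorem T_zero_eq_top : T e 0 = ⊤ := by
  refine eq_top_iff.2 fun x hx => ?_
  clear hx
  obtain ⟨y, rfl⟩ := QuotientAddGroup.mk_surjective x
  induction y using FreeAbelianGroup.induction_on with
  | zero => exact (T e 0).zero_mem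
  | of s =>
    have := mem_T_zero e s.2
    simpa only [KZero.clSub, dif_pos s.2] using this
  | neg s h => exact (T e 0).neg_mem h
  | add a b ha hb => exact (T e 0).add_mem ha hb

end Groth.Agent.ASBunLib.K0Span
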