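import Groth.Agent.ASBunLib.Dim
import Groth.Agent.DualInvX.Basic
import Groth.Agent.AmpleVan.Vanish

/-!
# Endomorphisms of invertible modules when the global functions are the scalars
-/

noncomputable section

set_option linter.style.haveILetI false
set_option linter.unusedSectionVars false
set_option backward.isDefEq.respectTransparency false
set_option backward.isDefEq.respectTransparency.types false

universe u

open CategoryTheory CategoryTheory.Limits AlgebraicGeometry TopologicalSpace Module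

namespace Groth.Agent.ASBunLib

open Groth.Agent

theorem exists_smulModΓ {Y : Scheme.{u}} {N : Y.Modules} (hN : PicF.IsInvertible N) (φ : N ⟶ N) :
    ∃ a : Coh.Γtop Y, φ = Formal.smulModΓ N a := by
  haveI := DualInvX.isIso_scalarEnd hN
  obtain ⟨a, ha⟩ : ∃ a : Γ(Y, ⊤), DualInvX.scalarFun N ⊤ a = RefHull.ofHom φ ⊤ :=
    ((ConcreteCategory.isIso_iff_bijective ((DualInvX.scalarEnd N).app ⊤)).1 inferInstance).2 _
  refine ⟨a, HomShX.ext_stalk fun x => ?_⟩
  have h : (RefHull.ofHom φ ⊤).1 ⟨x, trivial⟩ = (a • RefHull.ofHom (𝟙 N) ⊤).1 ⟨x, trivial⟩ :=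
    congrArg (fun g : Γ(RefHull.homSh N N, ⊤) => g.1 ⟨x, trivial⟩) ha.symm
  refine h.trans (LinearMap.ext fun v => ?_)
  show Y.presheaf.germ ⊤ x trivial a • RefHull.stalkMapₗ (𝟙 N) x v = RefHull.stalkMapₗ (Formal.smulModΓ N a) x v
  rw [← Category.comp_id (Formal.smulModΓ N a), CurveKS.stalkMapₗ_smulModΓ]

theorem nonempty_powM_one {Y : Scheme.{u}} (N : Y.Modules) : Nonempty (powM N 1 ≅ N) :=
  ⟨coproductUniqueIso fun _ : Fin 1 => N⟩

theorem not_isZero_invertible {Y : Scheme.{u}} [Nonempty ↥Y] {N : Y.Modules} (hN : PicF.IsInvertible N) : ¬ IsZero N := by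
  intro hz
  obtain ⟨x⟩ := ‹Nonempty ↥Y›
  obtain ⟨e⟩ := H23.InvStalk.exists_stalk_equiv hN x
  obtain ⟨v, hv⟩ := e.surjective 1
  have h := RefHull.stalkMapₗ (F := N) (G := N) (𝟙 N) x
  have h0 : RefHull.stalkMapₗ (𝟙 N) x v = 0 := by rw [(IsZero.iff_id_eq_zero N).1 hz, HomShX.stalkMapₗ_zero]; rfl
  rw [HomShX.stalkMapₗ_id] at h0
  exact one_ne_zero (hv.symm.trans ((congrArg e h0).trans (map_zero e)))

theorem finrank_end_invertible {K : Type u} [Field K] {Y : Scheme.{u}} [Y.Over (Spec (CommRingCat.of K))]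
    [Nonempty ↥Y] (hs : Function.Surjective (Coh.toGlobal (Y ↘ Spec (CommRingCat.of K))))
    {N : Y.Modules} (hN : PicF.IsInvertible N) : Module.finrank K (N ⟶ N) = 1 := by
  refine finrank_eq_one (𝟙 N) (fun h => not_isZero_invertible hN ((IsZero.iff_id_eq_zero N).2 h)) fun φ => ?_
  obtain ⟨a, rfl⟩ := exists_smulModΓ hN φ
  obtain ⟨c, rfl⟩ := hs a
  exact ⟨c, by rw [KLin.smul_id]; rfl⟩

variable {k K : Type u} [Field k] [Field K] [Algebra k K] {X X' : Scheme.{u}}
  [X.Over (Spec (CommRingCat.of k))] [IsProper (X ↘ Spec (CommRingCat.of k))]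
  [X'.Over (Spec (CommRingCat.of K))] [IsProper (X' ↘ Spec (CommRingCat.of K))] {π : X' ⟶ X}
  (h : IsPullback π (X' ↘ Spec (CommRingCat.of K)) (X ↘ Spec (CommRingCat.of k)) (Spec.map (CommRingCat.ofHom (algebraMap k K))))

include h in
/-- If the global functions of `X` are the scalars, so are those of its base change. -/
theorem surjective_toGlobal_bc [Nonempty ↥X'] (hs : Function.Surjective (Coh.toGlobal (X ↘ Spec (CommRingCat.of k)))) :
    Function.Surjective (Coh.toGlobal (X' ↘ Spec (CommRingCat.of K))) := by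
  haveI : Nonempty ↥X := ⟨π (Classical.arbitrary ↥X')⟩
  haveI := CurveCohLib.isNoetherian_of_proper (k := k) (X := X)
  have hO := PicLoc.isInvertible_structureModule X
  have hOc : Coh.IsCoh (Coh.structureModule X) :=
    CurveDeg.isCoh_of_isFinLocFree (H23.PullPush.isFinLocFree_of_isInvertible hO)
  have h1 := finrank_end_invertible hs hO
  rw [← finrank_hom_pullback h hOc hOc] at h1
  obtain ⟨ι₀⟩ := PicClLib.nonempty_pullback_structureModule π
  have h2 : Module.finrank K (Coh.structureModule X' ⟶ Coh.structureModule X') = 1 :=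
    (Linear.homCongr K ι₀ ι₀).finrank_eq.symm.trans h1
  have hne : (𝟙 (Coh.structureModule X') : Coh.structureModule X' ⟶ _) ≠ 0 := fun hz =>
    not_isZero_invertible (PicLoc.isInvertible_structureModule X') ((IsZero.iff_id_eq_zero _).2 hz)
  intro a
  obtain ⟨c, hc⟩ := (finrank_eq_one_iff_of_nonzero' _ hne).1 h2 (Formal.smulModΓ (Coh.structureModule X') a)
  refine ⟨c, ?_⟩
  rw [KLin.smul_id] at hc
  have key : ∀ b : Γ(X', ⊤), (show Γ(X', ⊤) from (Formal.smulModΓ (Coh.structureModule X') b).app ⊤ (1 : Γ(X', ⊤))) = b := fun b => by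
    show (X'.presheaf.map (homOfLE (le_top : (⊤ : X'.Opens) ≤ ⊤)).op b : Γ(X', ⊤)) * 1 = b
    rw [mul_one, show (homOfLE (le_top : (⊤ : X'.Opens) ≤ ⊤)).op = 𝟙 (Opposite.op (⊤ : X'.Opens)) from Subsingleton.elim _ _,
      CategoryTheory.Functor.map_id]
    rfl
  exact (key _).symm.trans ((congrArg (fun f : Coh.structureModule X' ⟶ Coh.structureModule X' =>
    (show Γ(X', ⊤) from f.app ⊤ (1 : Γ(X', ⊤)))) hc).trans (key a))

end Groth.Agent.ASBunLib
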