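import Groth.Agent.SimpleTwo.Twist
import Groth.Agent.PnPic.Ufd
import Groth.Agent.S0024
import Groth.Agent.GGDesc.Semilocal
import Groth.Agent.H23.PnChart
import Groth.Agent.Lib.InvEnd
import Groth.Agent.ASBunLib.EndOne

/-!
# Isomorphisms of projective spaces respect the twisting sheaves
-/

set_option autoImplicit false
set_option linter.style.haveILetI false
set_option backward.isDefEq.respectTransparency false
set_option backward.isDefEq.respectTransparency.types false
set_option maxHeartbeats 1000000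

universe u

open CategoryTheory CategoryTheory.Limits AlgebraicGeometry TopologicalSpace
open scoped Groth.Agent.H23.PicMul

namespace Groth.Agent.ASBunLib

open Groth.Agent

variable {n : ℕ} {k k' : Type u} [Field k] [Field k']

theorem exists_twist_cl (n : ℕ) (k : Type u) [Field k] {L : (CohB1.ProjSpace n k).Modules} (hL : PicF.IsInvertible L) :
    ∃ d : ℤ, PicF.cl L = PicF.cl (Twist.twistProjSpace n k d) :=
  let ⟨d, hd⟩ := PnPic.exists_twist (ι := Fin (n + 1)) (R := k) L hL 0
  ⟨d, (PicGrp.cl_eq_cl_iff _ _).2 hd⟩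

theorem cl_twist_pn_zero (k : Type u) [Field k] {L : (CohB1.ProjSpace 0 k).Modules} (hL : PicF.IsInvertible L) :
    PicF.cl L = 1 := by
  have htop : Proj.basicOpen (CohB1.polyGrading 0 k) (PnPic.crd 0 k ⟨0⟩) = ⊤ := by
    refine eq_top_iff.2 ((PnPic.crd_cov 0 k).ge.trans (iSup_le fun j => ?_))
    rw [show j = ⟨0⟩ from ULift.ext _ _ (Fin.ext (by have := j.down.isLt; omega))]
  have hfr : ∀ {M : (CohB1.ProjSpace 0 k).Modules} {U : (CohB1.ProjSpace 0 k).Opens} {e : Γ(M, U)},
      U = ⊤ → InvX.IsFrame e → Nonempty (M ≅ Coh.structureModule _) := by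
    rintro M U e rfl he
    exact InvUfdLib.nonempty_iso_of_frame he
  have h1 : PicF.cl (Twist.twistProjSpace 0 k 1) = 1 :=
    (PicGrp.cl_eq_cl_iff _ _).2 (hfr htop (ProjUPX.isFrame_sec (CohB1.polyGrading 0 k) (PnPic.crd_mem 0 k ⟨0⟩)))
  obtain ⟨d, hd⟩ := exists_twist_cl 0 k hL
  rw [hd]
  clear hd
  induction d using Int.induction_on with
  | zero => exact PnPic.cl_twistProjSpace_zero 0 k
  | succ i hi => rw [← PnPic.cl_twistProjSpace_add, h1, mul_one]; exact hi
  | pred i hi =>
    have := PnPic.cl_twistProjSpace_add 0 k (-(i : ℤ) - 1) 1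
    rw [h1, mul_one, sub_add_cancel] at this
    rw [this]; exact hi

theorem pullCl_twist_zsmul (f : CohB1.ProjSpace n k ⟶ CohB1.ProjSpace n k')
    {d : ℤ} (hd : PicF.pullCl f (PicF.cl (Twist.twistProjSpace n k' 1)) = PicF.cl (Twist.twistProjSpace n k d)) (z : ℤ) :
    PicF.pullCl f (PicF.cl (Twist.twistProjSpace n k' z)) = PicF.cl (Twist.twistProjSpace n k (d * z)) := by
  induction z using Int.induction_on with
  | zero => rw [mul_zero, PnPic.cl_twistProjSpace_zero, PnPic.cl_twistProjSpace_zero, H23.PicMul.pullCl_one]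
  | succ i hi =>
    rw [← PnPic.cl_twistProjSpace_add, H23.PicMul.pullCl_mul, hi, hd, PnPic.cl_twistProjSpace_add, mul_add, mul_one]
  | pred i hi =>
    refine (PnPic.isUnit_cl_twist n k d).mul_right_cancel ?_
    conv_lhs => rw [← hd, ← H23.PicMul.pullCl_mul, PnPic.cl_twistProjSpace_add, sub_add_cancel, hi]
    rw [PnPic.cl_twistProjSpace_add]
    congr 2
    ring

/-- Pullback along an isomorphism of projective spaces fixes every twist. -/
theorem pullCl_twist_iso (σ : CohB1.ProjSpace n k ≅ CohB1.ProjSpace n k') (j : ℤ) :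
    PicF.pullCl σ.hom (PicF.cl (Twist.twistProjSpace n k' j)) = PicF.cl (Twist.twistProjSpace n k j) := by
  rcases Nat.eq_zero_or_pos n with rfl | hn
  · exact ((cl_twist_pn_zero k (PicLoc.isInvertible_pullback σ.hom (PnPic.isInvertible_twistProjSpace 0 k' j))).trans
      (cl_twist_pn_zero k (PnPic.isInvertible_twistProjSpace 0 k j)).symm)
  obtain ⟨d, hd'⟩ := exists_twist_cl n k (PicLoc.isInvertible_pullback σ.hom (PnPic.isInvertible_twistProjSpace n k' 1))
  obtain ⟨d', hd''⟩ := exists_twist_cl n k' (PicLoc.isInvertible_pullback σ.inv (PnPic.isInvertible_twistProjSpace n k 1))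
  have hd : PicF.pullCl σ.hom (PicF.cl (Twist.twistProjSpace n k' 1)) = PicF.cl (Twist.twistProjSpace n k d) := hd'
  have hdi : PicF.pullCl σ.inv (PicF.cl (Twist.twistProjSpace n k 1)) = PicF.cl (Twist.twistProjSpace n k' d') := hd''
  have h1 := congrArg (PicF.pullCl σ.hom) hdi
  rw [PicClLib.pullCl_comp, σ.hom_inv_id, PicClLib.pullCl_id, pullCl_twist_zsmul σ.hom hd] at h1
  have h2 : d * d' = 1 := (PnPic.twist_injective n hn h1).symm
  rw [pullCl_twist_zsmul σ.hom hd]
  rcases Int.eq_one_or_neg_one_of_mul_eq_one h2 with rfl | rfl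
  · rw [one_mul]
  exfalso
  haveI := H23.PnChart.isIntegral_projSpace n k
  letI : (CohB1.ProjSpace n k).Over (Spec (CommRingCat.of k)) := ⟨CohB1.ProjSpace.toSpec n k⟩
  haveI : (Scheme.Modules.pullback σ.hom).Additive :=
    (Scheme.Modules.pullbackPushforwardAdjunction σ.hom).left_adjoint_additive
  haveI : (Scheme.Modules.pullback σ.hom).Faithful :=
    Functor.Faithful.of_comp_iso (G := Scheme.Modules.pullback σ.inv) (H := 𝟭 _)
      (Scheme.Modules.pullbackComp σ.inv σ.hom ≪≫ Scheme.Modules.pullbackCongr σ.inv_hom_id ≪≫ Scheme.Modules.pullbackId _)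
  obtain ⟨t, ht⟩ := SimpleTwo.exists_twist_hom_ne_zero (n := n) (k := k') (a := -1) (b := 0) (by omega)
  obtain ⟨v, hv⟩ := SimpleTwo.exists_twist_hom_ne_zero (n := n) (k := k) (a := 0) (b := 1) (by omega)
  obtain ⟨e₁⟩ := (PicGrp.cl_eq_cl_iff _ _).1 (show PicF.cl ((Scheme.Modules.pullback σ.hom).obj (Twist.twistProjSpace n k' (-1))) =
      PicF.cl (Twist.twistProjSpace n k 1) by
    refine (pullCl_twist_zsmul σ.hom hd (-1)).trans ?_
    norm_num)
  obtain ⟨e₀⟩ := (PicGrp.cl_eq_cl_iff _ _).1 (show PicF.cl ((Scheme.Modules.pullback σ.hom).obj (Twist.twistProjSpace n k' 0)) =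
      PicF.cl (Twist.twistProjSpace n k 0) by
    refine (pullCl_twist_zsmul σ.hom hd 0).trans ?_
    rw [mul_zero])
  let u₁ := e₁.inv ≫ (Scheme.Modules.pullback σ.hom).map t ≫ e₀.hom
  have hu₁ : u₁ ≠ 0 := by
    intro h0
    apply ht
    refine (Scheme.Modules.pullback σ.hom).map_injective ?_
    rw [Functor.map_zero, ← cancel_epi e₁.inv, ← cancel_mono e₀.hom, Category.assoc]
    simpa [u₁] using h0
  have hO := PnPic.isInvertible_twistProjSpace n k 0
  haveI hm : Mono u₁ := InvEnd.mono_of_ne_zero (PnPic.isInvertible_twistProjSpace n k 1) hO u₁ hu₁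
  have hw : v ≫ u₁ ≠ 0 := fun h0 => hv (by rw [← cancel_mono u₁, h0, zero_comp])
  have hs : Function.Surjective (Coh.toGlobal (CohB1.ProjSpace.toSpec n k)) := by
    intro a
    haveI := Groth.Agent.S0024.result n k
    obtain ⟨b, hb⟩ := ((ConcreteCategory.isIso_iff_bijective (CohB1.ProjSpace.toSpec n k).appTop).1 inferInstance).2 a
    exact ⟨(Scheme.ΓSpecIso (CommRingCat.of k)).hom b,
      (congrArg (CohB1.ProjSpace.toSpec n k).appTop (Iso.hom_inv_id_apply (Scheme.ΓSpecIso (CommRingCat.of k)) b)).trans hb⟩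
  haveI : IsIso (v ≫ u₁) := isIso_of_ne_zero_of_finrank (finrank_end_invertible hs hO) _ hw
  haveI : IsSplitEpi u₁ := ⟨⟨⟨inv (v ≫ u₁) ≫ v, by rw [Category.assoc, IsIso.inv_hom_id]⟩⟩⟩
  haveI : IsIso u₁ := isIso_of_mono_of_isSplitEpi u₁
  have := PnPic.twist_injective n hn ((PicGrp.cl_eq_cl_iff _ _).2 ⟨asIso u₁⟩)
  omega

end Groth.Agent.ASBunLib
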