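import Groth.Agent.ASBunLib.FiniteLevel
import Groth.Agent.ASBunLib.SplitScalars
import Groth.Agent.ASBunLib.TwistAut
import Groth.Agent.PnPic.OverPic
import Groth.Agent.AVEuler.BaseChange
import Groth.Agent.S0235
import Groth.Agent.ParaFX.TrivDesc
import Groth.Agent.KZ.RankNilp

/-!
# Every twisting sheaf is the type of an indecomposable bundle (any splitting, any field)
-/

noncomputable section

set_option linter.style.haveILetI false
set_option linter.unusedSectionVars false
set_option backward.isDefEq.respectTransparency false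
set_option backward.isDefEq.respectTransparency.types false
set_option maxHeartbeats 1600000

universe u

open CategoryTheory CategoryTheory.Limits AlgebraicGeometry TopologicalSpace
open scoped TensorProduct

namespace Groth.Agent.ASBunLib

open Groth.Agent Groth.Agent.Chevalley.BC
open scoped Groth.Agent.H23.PicMul

theorem triv_of_isFinite {R S : Scheme.{u}} [Subsingleton S] [Nonempty S] (π : R ⟶ S) [IsFinite π] {M : R.Modules}
    (hM : PicF.IsInvertible M) : H23.TrivBasic.Triv M := by
  obtain ⟨V, hy, ⟨φ⟩⟩ := S0235.result π M hM (Classical.arbitrary S)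
  have hV : V = ⊤ := top_le_iff.1 fun z _ => by rwa [Subsingleton.elim z (Classical.arbitrary S)]
  subst hV
  haveI : IsIso (π ⁻¹ᵁ (⊤ : S.Opens)).ι := inferInstanceAs (IsIso (Scheme.topIso R).hom)
  exact H23.TrivBasic.triv_of_isIso _ ⟨((Scheme.Modules.restrictFunctorIsoPullback _).app M).symm ≪≫ φ⟩

theorem pos_of_free {k R : Type u} [Field k] [CommRing R] [Nontrivial R] (q : Spec (CommRingCat.of R) ⟶ Spec (CommRingCat.of k))
    {d : ℕ} (e : (Scheme.Modules.pullback (𝟙 (Spec (CommRingCat.of k)))).obj ((Coh.push q).obj (Coh.structureModule _)) ≅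
      FlatMod.freeMod (Spec (CommRingCat.of k)) d) : 0 < d := by
  by_contra h0
  obtain rfl : d = 0 := by omega
  have hz : IsZero (FlatMod.freeMod (Spec (CommRingCat.of k)) 0) :=
    (IsZero.iff_id_eq_zero _).2 (Limits.Sigma.hom_ext _ _ fun b => b.elim0)
  have hz' : IsZero ((Scheme.Modules.pushforward q).obj (Coh.structureModule (Spec (CommRingCat.of R)))) :=
    (hz.of_iso e).of_iso ((Scheme.Modules.pullbackId _).app _).symm
  let x : Γ((Scheme.Modules.pushforward q).obj (Coh.structureModule (Spec (CommRingCat.of R))), ⊤) :=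
    (1 : Γ(Spec (CommRingCat.of R), q ⁻¹ᵁ ⊤))
  have h : x = 0 := congrArg (fun φ : _ ⟶ (Scheme.Modules.pushforward q).obj (Coh.structureModule _) => φ.app ⊤ x)
    ((IsZero.iff_id_eq_zero _).1 hz')
  have h1 : (1 : Γ(Spec (CommRingCat.of R), ⊤)) = 0 := h
  have h2 := congrArg (Scheme.ΓSpecIso (CommRingCat.of R)).hom h1
  rw [map_one, map_zero] at h2
  exact one_ne_zero h2

variable {k : Type u} [Field k] {X : Scheme.{u}} {n : ℕ}

/-- `O(j)` is the type of some bundle. -/
theorem exists_type_algClosure (f : X ⟶ Spec (CommRingCat.of k)) [IsProper f]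
    {K : Type u} [Field K] [Algebra k K] [IsAlgClosure k K] (e : BrSev.Splitting f K n) (j : ℤ) :
    ∃ (M : X.Modules) (m : ℕ), FlatMod.IsFinLocFree M ∧ 0 < m ∧ BrSev.IsTwPow e j m M := by
  classical
  haveI : IsAlgClosed K := IsAlgClosure.isAlgClosed k
  haveI : Algebra.IsAlgebraic k K := IsAlgClosure.isAlgebraic
  haveI : Normal k K := IsAlgClosure.normal k K
  let B := BrSev.bc f K
  let π : B ⟶ X := BrSev.proj f K
  let pK : B ⟶ Spec (CommRingCat.of K) := BrSev.bcTo f K
  have hL := isInvertible_twist e j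
  obtain ⟨F, hF, hlev⟩ := exists_finite_level f (e.twist j) (H23.PullPush.isFinLocFree_of_isInvertible hL)
  haveI := hF
  obtain ⟨L₀, hL₀f, ⟨e₀⟩⟩ := hlev F le_rfl
  let XF := pullback f (Spec.map (CommRingCat.ofHom (algebraMap k F)))
  let π₀ : XF ⟶ X := pullback.fst f _
  let pF : XF ⟶ Spec (CommRingCat.of F) := pullback.snd f _
  let lm : B ⟶ XF := levelMap f F
  have hlm : IsPullback lm pK pF (Spec.map (CommRingCat.ofHom (algebraMap F K))) := isPullback_levelMap f F
  haveI : Flat lm := by
    refine MorphismProperty.of_isPullback hlm.flip ?_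
    rw [HasRingHomProperty.Spec_iff (P := @Flat), CommRingCat.hom_ofHom, RingHom.flat_algebraMap_iff]
    infer_instance
  haveI : Surjective lm := MorphismProperty.of_isPullback hlm.flip inferInstance
  haveI : IsAffineHom lm := MorphismProperty.of_isPullback hlm.flip inferInstance
  have hL₀ : PicF.IsInvertible L₀ := ParaFX.isInvertible_of_pullback lm (QCoh.isQCoh_of_isFinLocFree hL₀f)
    (InvX.isInvertible_of_frames fun x => by
      obtain ⟨U, hx, a, ha⟩ := InvX.exists_frame hL x
      exact ⟨U, hx, _, InvX.IsFrame.map_iso e₀.symm ha⟩)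
  -- the base
  let R := K ⊗[k] F
  haveI : IsArtinianRing R := IsArtinianRing.of_finite K R
  let ι : K →+* R := Algebra.TensorProduct.includeLeftRingHom
  let inr : F →ₐ[k] R := Algebra.TensorProduct.includeRight
  haveI : Nontrivial R := inferInstance
  let S := Spec (CommRingCat.of R)
  let sι : S ⟶ Spec (CommRingCat.of K) := Spec.map (CommRingCat.ofHom ι)
  let sr : S ⟶ Spec (CommRingCat.of F) := Spec.map (CommRingCat.ofHom inr.toRingHom)
  have hR : IsPullback sr sι (Spec.map (CommRingCat.ofHom (algebraMap k F))) (Spec.map (CommRingCat.ofHom (algebraMap k K))) :=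
    (isPullback_SpecMap_of_isPushout _ _ _ _ (CommRingCat.isPushout_tensorProduct k K F)).flip
  haveI : IsFinite sι := (IsFinite.SpecMap_iff _).2 (show (algebraMap K R).Finite from RingHom.finite_algebraMap.2 inferInstance)
  haveI : Flat sι :=
    (HasRingHomProperty.Spec_iff (P := @Flat)).2 (show (algebraMap K R).Flat from RingHom.flat_algebraMap_iff.2 inferInstance)
  haveI : LocallyOfFinitePresentation sι :=
    (HasRingHomProperty.Spec_iff (P := @LocallyOfFinitePresentation)).2
      (show (algebraMap K R).FinitePresentation from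
        RingHom.finitePresentation_algebraMap.2 ((Algebra.FinitePresentation.of_finiteType (R := K) (A := R)).1 inferInstance))
  let P := CohB1.ProjSpaceOver n S
  let tb : P ⟶ S := CohB1.ProjSpaceOver.toBase n S
  let c : CohB1.ProjSpace n R ⟶ P := PnPic.ptMap n (𝟙 S)
  have hc := PnPic.isPullback_ptMap (n := n) (𝟙 S)
  haveI : IsIso c := MorphismProperty.of_isPullback (P := MorphismProperty.isomorphisms Scheme.{u}) hc.flip
    (show IsIso (𝟙 S) from inferInstance)
  let q : P ⟶ B := inv c ≫ ProjX.pmap n ι ≫ e.iso.inv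
  have hA : IsPullback q tb pK sι := by
    refine (ProjX.isPullback_pmap n ι).of_iso (asIso c) e.iso.symm (Iso.refl _) (Iso.refl _) ?_ ?_ ?_ (by simp [sι])
    · simp [q]
    · simp only [Iso.refl_hom, Category.comp_id, asIso_hom]
      exact ((PnPic.ptMap_toBase (𝟙 S)).trans (Category.comp_id _)).symm
    · simp only [Iso.refl_hom, Category.comp_id, Iso.symm_hom]
      exact (Iso.eq_inv_comp _).2 e.comm
  have hbig : IsPullback (q ≫ π) tb f (sι ≫ Spec.map (CommRingCat.ofHom (algebraMap k K))) :=
    hA.paste_horiz (IsPullback.of_hasPullback f _)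
  rw [← hR.w] at hbig
  let r : P ⟶ XF := pullback.lift (q ≫ π) (tb ≫ sr) (by rw [Category.assoc]; exact hbig.w)
  have hr1 : r ≫ π₀ = q ≫ π := pullback.lift_fst _ _ _
  have hr2 : r ≫ pF = tb ≫ sr := pullback.lift_snd _ _ _
  have hr : IsPullback r tb pF sr :=
    IsPullback.of_right (by rw [show r ≫ pullback.fst f _ = q ≫ π from hr1]; exact hbig) hr2 (IsPullback.of_hasPullback f _)
  have hv := hr.paste_vert hR
  rw [← hA.w, show pF ≫ Spec.map (CommRingCat.ofHom (algebraMap k F)) = π₀ ≫ f from pullback.condition.symm] at hv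
  have hsq : IsPullback r q π₀ π := IsPullback.of_bot hv hr1 (IsPullback.of_hasPullback f _)
  -- the module `r^* L₀` is `q^* O(j)`
  let G := CohB1.tensorMod ((Scheme.Modules.pullback r).obj L₀) ((Scheme.Modules.pullback q).obj (e.twist (-j)))
  have hG : PicF.IsInvertible G := InvX.isInvertible_tensorMod (PicClLib.isInvertible_pullback _ hL₀)
    (PicClLib.isInvertible_pullback _ (isInvertible_twist e (-j)))
  have hall : ∀ s : S, H23.SeesawGlobal.FieldTriv tb G s := by
    intro s K' _ x hx
    haveI hmax : s.asIdeal.IsMaximal := inferInstance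
    letI := Ideal.Quotient.field s.asIdeal
    have hbij : Function.Bijective (Algebra.ofId K (R ⧸ s.asIdeal)) :=
      IsAlgClosed.algebraMap_bijective_of_isIntegral (k := K) (K := R ⧸ s.asIdeal)
    let eQ : K ≃ₐ[K] R ⧸ s.asIdeal := AlgEquiv.ofBijective _ hbij
    let ψ : R →ₐ[K] K := eQ.symm.toAlgHom.comp (Ideal.Quotient.mkₐ K s.asIdeal)
    have hker : ∀ z : R, z - ι (ψ z) ∈ s.asIdeal := fun z => by
      rw [← Ideal.Quotient.mk_eq_mk_iff_sub_mem]
      exact (eQ.apply_symm_apply (Ideal.Quotient.mk s.asIdeal z)).symm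
    let g : R →+* K' := (Spec.preimage x).hom
    have hxg : x = Spec.map (CommRingCat.ofHom g) := (Spec.map_preimage x).symm
    have hgs : ∀ z ∈ s.asIdeal, g z = 0 := fun z hz => by
      rw [hxg] at hx
      subst hx
      have hz' : g z ∈ IsLocalRing.maximalIdeal K' := hz
      rwa [IsLocalRing.maximalIdeal_eq_bot, Ideal.mem_bot] at hz'
    have hg : g = (g.comp ι).comp ψ.toRingHom := RingHom.ext fun z =>
      sub_eq_zero.1 ((map_sub g _ _).symm.trans (hgs _ (hker z)))
    let sψ : Spec (CommRingCat.of K) ⟶ S := Spec.map (CommRingCat.ofHom ψ.toRingHom)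
    have hψι : sψ ≫ sι = 𝟙 _ := by
      rw [← Spec.map_comp, ← CommRingCat.ofHom_comp, ← Spec.map_id]
      congr 1
      ext z
      exact ψ.commutes z
    let i : B ⟶ P := hA.lift (𝟙 B) (pK ≫ sψ) (by rw [Category.assoc, hψι, Category.comp_id, Category.id_comp])
    have hiq : i ≫ q = 𝟙 B := hA.lift_fst _ _ _
    have hit : i ≫ tb = pK ≫ sψ := hA.lift_snd _ _ _
    let σ₀ : F →ₐ[k] K := ((ψ.restrictScalars k).comp inr)
    let σh : K →ₐ[k] K := σ₀.liftNormal K
    let σ : K ≃ₐ[k] K := AlgEquiv.ofBijective σh (Algebra.IsAlgebraic.algHom_bijective σh)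
    let gσ : B ⟶ B := pullback.lift π (pK ≫ Spec.map (CommRingCat.ofHom (σ : K →+* K))) (by
      rw [Category.assoc, ← Spec.map_comp, ← CommRingCat.ofHom_comp]
      refine pullback.condition.trans ?_
      congr 3
      ext z
      simp)
    have hgσπ : gσ ≫ π = π := pullback.lift_fst _ _ _
    have hgσp : gσ ≫ pK = pK ≫ Spec.map (CommRingCat.ofHom (σ : K →+* K)) := pullback.lift_snd _ _ _
    haveI : IsIso (Spec.map (CommRingCat.ofHom (σ : K →+* K))) :=
      inferInstanceAs (IsIso (Spec.map σ.toRingEquiv.toCommRingCatIso.hom))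
    haveI : IsIso gσ := by
      refine MorphismProperty.of_isPullback (P := MorphismProperty.isomorphisms Scheme.{u})
        (IsPullback.flip (IsPullback.of_right (t := IsPullback.of_hasPullback f _) ?_ hgσp))
        (show IsIso (Spec.map (CommRingCat.ofHom (σ : K →+* K))) from inferInstance)
      rw [show gσ ≫ pullback.fst f _ = π from hgσπ, ← Spec.map_comp, ← CommRingCat.ofHom_comp,
        show (σ : K →+* K).comp (algebraMap k K) = algebraMap k K from σ.toAlgHom.comp_algebraMap]
      exact IsPullback.of_hasPullback f _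
    have hir : i ≫ r = gσ ≫ lm := by
      refine pullback.hom_ext ?_ ?_
      · show (i ≫ r) ≫ π₀ = (gσ ≫ lm) ≫ π₀
        rw [Category.assoc, hr1, reassoc_of% hiq, Category.assoc, show lm ≫ π₀ = π from pullback.lift_fst _ _ _, hgσπ]
      · show (i ≫ r) ≫ pF = (gσ ≫ lm) ≫ pF
        rw [Category.assoc, hr2, reassoc_of% hit, Category.assoc, hlm.w, reassoc_of% hgσp,
          ← Spec.map_comp, ← Spec.map_comp, ← CommRingCat.ofHom_comp, ← CommRingCat.ofHom_comp]
        congr 2
        ext z
        exact (σ₀.liftNormal_commutes K z).symm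
    have hgtw : PicF.pullCl gσ (PicF.cl (e.twist j)) = PicF.cl (e.twist j) := by
      show PicF.pullCl gσ (PicF.pullCl e.iso.hom (PicF.cl (Twist.twistProjSpace n K j))) =
        PicF.pullCl e.iso.hom (PicF.cl (Twist.twistProjSpace n K j))
      rw [PicClLib.pullCl_comp, show gσ ≫ e.iso.hom = e.iso.hom ≫ (e.iso.symm ≪≫ asIso gσ ≪≫ e.iso).hom by simp,
        ← PicClLib.pullCl_comp, pullCl_twist_iso]
    have hiG : H23.TrivBasic.Triv ((Scheme.Modules.pullback i).obj G) := by
      refine (PicGrp.cl_eq_cl_iff _ _).1 ?_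
      show PicF.pullCl i (PicF.pullCl r (PicF.cl L₀) * PicF.pullCl q (PicF.cl (e.twist (-j)))) = 1
      rw [H23.PicMul.pullCl_mul, PicClLib.pullCl_comp, PicClLib.pullCl_comp, hir, hiq, PicClLib.pullCl_id,
        ← PicClLib.pullCl_comp, show PicF.pullCl lm (PicF.cl L₀) = PicF.cl (e.twist j) from
          (PicGrp.cl_eq_cl_iff _ _).2 ⟨e₀⟩, hgtw, cl_twist_add', add_neg_cancel, cl_twist_zero']
    refine H23.SeesawGlobal.triv_of_factor (pullback.fst tb x ≫ q) ?_ hiG
    apply hA.hom_ext
    · rw [Category.assoc, hiq, Category.comp_id]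
    · rw [Category.assoc, hit, Category.assoc, reassoc_of% hA.w, pullback.condition_assoc, pullback.condition]
      congr 1
      simp only [sι, sψ, hxg, ← Spec.map_comp, ← CommRingCat.ofHom_comp]
      congr 2
      rw [← RingHom.comp_assoc]
      exact hg.symm
  obtain ⟨hM, hiso⟩ := S16759.of_local tb (PnPic.bijective_app_toBase n S) G fun s =>
    SeesawGen.exists_frame_of_fieldTriv hG (PnPic.h1Zero_toBase n S) (hall s)
  haveI := hiso
  haveI : Subsingleton ↥(Spec (CommRingCat.of K)) := inferInstanceAs (Subsingleton (PrimeSpectrum K))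
  haveI : Nonempty ↥(Spec (CommRingCat.of K)) := inferInstanceAs (Nonempty (PrimeSpectrum K))
  have hGt : H23.TrivBasic.Triv G :=
    ((triv_of_isFinite sι hM).pullback tb).of_iso (asIso ((Scheme.Modules.pullbackPushforwardAdjunction tb).counit.app G))
  obtain ⟨eG⟩ : Nonempty ((Scheme.Modules.pullback r).obj L₀ ≅ (Scheme.Modules.pullback q).obj (e.twist j)) := by
    refine (PicGrp.cl_eq_cl_iff _ _).1 ?_
    show PicF.pullCl r (PicF.cl L₀) = PicF.pullCl q (PicF.cl (e.twist j))
    have h1 : PicF.pullCl r (PicF.cl L₀) * PicF.pullCl q (PicF.cl (e.twist (-j))) = 1 :=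
      (PicGrp.cl_eq_cl_iff _ _).2 hGt
    have h2 := congrArg (· * PicF.pullCl q (PicF.cl (e.twist j))) h1
    simp only [one_mul] at h2
    rw [_root_.mul_assoc, ← H23.PicMul.pullCl_mul, cl_twist_add', neg_add_cancel, cl_twist_zero',
      H23.PicMul.pullCl_one, _root_.mul_one] at h2
    exact h2
  -- the push-forward
  haveI : IsAffineHom π₀ := MorphismProperty.pullback_fst _ _ inferInstance
  haveI : Flat π := by
    refine MorphismProperty.of_isPullback (IsPullback.of_hasPullback f _).flip ?_
    rw [HasRingHomProperty.Spec_iff (P := @Flat), CommRingCat.hom_ofHom, RingHom.flat_algebraMap_iff]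
    infer_instance
  haveI : Flat r := MorphismProperty.of_isPullback hsq.flip inferInstance
  obtain ⟨a₁⟩ := AVEuler.nonempty_pullback_push π₀ π q r hsq (QCoh.isQCoh_of_isFinLocFree hL₀f)
  have hq : Mor2.IsFinLocFree q := ⟨MorphismProperty.of_isPullback hA.flip inferInstance,
    MorphismProperty.of_isPullback hA.flip inferInstance, MorphismProperty.of_isPullback hA.flip inferInstance⟩
  obtain ⟨a₂⟩ := PerfGen7.ResDescend.nonempty_proj q hq (e.twist j)
    (QCoh.isQCoh_of_isFinLocFree (H23.PullPush.isFinLocFree_of_isInvertible hL))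
  haveI : Flat pK := by
    refine MorphismProperty.of_isPullback (IsPullback.of_hasPullback f _) ?_
    infer_instance
  haveI : Flat tb := MorphismProperty.of_isPullback hA inferInstance
  obtain ⟨a₃⟩ := AVEuler.nonempty_pullback_push sι pK q tb hA.flip (M := Coh.structureModule S) QCoh.isQCoh_structureModule
  obtain ⟨d, hd⟩ := AVEuler.exists_pullback_push_free sι
  obtain ⟨a₄⟩ := hd pK
  obtain ⟨o⟩ := PicClLib.nonempty_pullback_structureModule tb
  have hdpos : 0 < d := pos_of_free sι (hd (𝟙 _)).some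
  let a₅ : (Scheme.Modules.pushforward q).obj (Coh.structureModule P) ≅ FlatMod.freeMod B d :=
    (Scheme.Modules.pushforward q).mapIso o.symm ≪≫ a₃.symm ≪≫ a₄
  refine ⟨(Scheme.Modules.pushforward π₀).obj L₀, d,
    PerfGen7.ResDescend.isFinLocFree_pushforward _ (isFinLocFree_proj f F) hL₀f, hdpos, ⟨?_⟩⟩
  exact a₁ ≪≫ (Scheme.Modules.pushforward q).mapIso eG ≪≫ a₂.symm ≪≫ (DCoh.tensorBi.mapIso a₅).app _ ≪≫
    PreservesCoproduct.iso (DCoh.tensorBi.flip.obj (e.twist j)) _ ≪≫
    Sigma.mapIso (fun _ => KZ.RankNilp.structureTensorIso _)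

/-- An indecomposable bundle of every type. -/
theorem exists_ind_type (f : X ⟶ Spec (CommRingCat.of k)) [IsProper f]
    {K : Type u} [Field K] [Algebra k K] [IsAlgClosure k K] (e : BrSev.Splitting f K n) (j : ℤ) :
    ∃ (W : X.Modules) (r : ℕ), FlatMod.IsFinLocFree W ∧ CurveKS.Ind W ∧ 0 < r ∧ BrSev.IsTwPow e j r W := by
  letI : X.Over (Spec (CommRingCat.of k)) := ⟨f⟩
  haveI : IsProper (X ↘ Spec (CommRingCat.of k)) := ‹IsProper f›
  letI : (BrSev.bc f K).Over (Spec (CommRingCat.of K)) := ⟨BrSev.bcTo f K⟩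
  haveI : IsProper ((BrSev.bc f K) ↘ Spec (CommRingCat.of K)) :=
    inferInstanceAs (IsProper (Limits.pullback.snd f (Spec.map (CommRingCat.ofHom (algebraMap k K)))))
  haveI : IsAlgClosed K := IsAlgClosure.isAlgClosed k
  haveI := isIntegral_bc e
  obtain ⟨M, m, hM, hm, ⟨eM⟩⟩ := exists_type_algClosure f e j
  exact exists_ind_summand (k := k) (K := K) (X' := BrSev.bc f K) (π := BrSev.proj f K)
    (IsPullback.of_hasPullback _ _) hM (ind_of_invertible (isInvertible_twist e j)) hm eM

end Groth.Agent.ASBunLib
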