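import Groth.Agent.CurveKS.Abstract

/-! Cancellation of summands. -/

noncomputable section

set_option linter.style.haveILetI false

universe v u w

open CategoryTheory CategoryTheory.Limits

namespace Groth.Agent.ASBunLib

open Groth.Agent CurveKS

variable {C : Type w} [Category.{v} C] [Abelian C] (k : Type u) [Field k] [Linear k C]

/-- An indecomposable summand cancels. -/
theorem cancel_ind {A B B' : C} (hA : Ind A) [Module.Finite k (A ⟶ A)] (e : A ⊞ B ≅ A ⊞ B') :
    Nonempty (B ≅ B') := by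
  let a : A ⟶ A := biprod.inl ≫ e.hom ≫ biprod.fst
  by_cases ha : IsIso a
  · haveI : IsIso (biprod.inl ≫ e.hom ≫ biprod.fst) := ha
    exact ⟨Biprod.isoElim e⟩
  let b : A ⟶ A := biprod.inl ≫ e.inv ≫ biprod.fst
  let x : A ⟶ B := biprod.inl ≫ e.inv ≫ biprod.snd
  let c : B ⟶ A := biprod.inr ≫ e.hom ≫ biprod.fst
  have hid : b ≫ a + x ≫ c = 𝟙 A := by
    calc _ = biprod.inl ≫ e.inv ≫ (biprod.fst ≫ biprod.inl + biprod.snd ≫ biprod.inr) ≫ e.hom ≫ biprod.fst := by
          simp only [a, b, x, c, Preadditive.add_comp, Preadditive.comp_add, Category.assoc]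
      _ = _ := by rw [biprod.total]; simp
  let e' := Biprod.unipotentUpper x ≪≫ e
  have ha' : biprod.inl ≫ e'.hom ≫ biprod.fst = a + x ≫ c := by
    simp [e', Biprod.unipotentUpper, Biprod.ofComponents, a, x, c, Preadditive.add_comp, Preadditive.comp_add, Category.assoc]
  have : IsIso (a + x ≫ c) := by
    by_contra hn
    have hsum : (a + x ≫ c) + (b ≫ a - a) = 𝟙 A := by rw [← hid]; abel
    rcases isUnit_or_isUnit k hA _ _ hsum with h | h
    · exact hn h
    · apply ha
      have hf : b ≫ a - a = (b - 𝟙 A) ≫ a := by rw [Preadditive.sub_comp, Category.id_comp]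
      rw [hf] at h
      haveI := h
      haveI : IsIso (b - 𝟙 A) := isIso_of_comp hA.1 hA (b - 𝟙 A) a
      exact IsIso.of_isIso_comp_left (b - 𝟙 A) a
  haveI : IsIso (biprod.inl ≫ e'.hom ≫ biprod.fst) := ha' ▸ this
  exact ⟨Biprod.isoElim e'⟩

variable [HasFiniteBiproducts C]

/-- Arbitrary summands with finite endomorphisms cancel. -/
theorem cancel : ∀ (n : ℕ) (As : Fin n → C), (∀ i, Ind (As i)) → (∀ i, Module.Finite k (As i ⟶ As i)) →
    ∀ B B' : C, ((⨁ As) ⊞ B ≅ (⨁ As) ⊞ B') → Nonempty (B ≅ B') := by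
  intro n
  induction n with
  | zero =>
    intro As _ _ B B' e
    have hz : IsZero (⨁ As) := (IsZero.iff_id_eq_zero _).2 (biproduct.hom_ext _ _ fun i => i.elim0)
    exact ⟨(isoBiprodZero hz).trans ((biprod.braiding _ _).trans (e.trans ((biprod.braiding _ _).trans (isoBiprodZero hz).symm)))⟩
  | succ n ih =>
    intro As hA hfin B B' e
    let rest := ⨁ fun i => As (Fin.succAbove 0 i)
    let s := splitAt As 0
    let assoc : ∀ Z : C, As 0 ⊞ (rest ⊞ Z) ≅ (⨁ As) ⊞ Z := fun Z =>
      (biprod.associator _ _ _).symm ≪≫ biprod.mapIso s (Iso.refl Z)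
    haveI := hfin 0
    obtain ⟨e₁⟩ := cancel_ind k (hA 0) (assoc B ≪≫ e ≪≫ (assoc B').symm)
    exact ih _ (fun i => hA _) (fun i => hfin _) B B' e₁

end Groth.Agent.ASBunLib
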