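import Groth.Agent.ASBunLib.Simple
import Groth.Agent.DefoConnLib.Basic
import Groth.Agent.H23.PicMul
import Groth.Prelude.Def_KLin

/-!
# Dimensions of Hom spaces of isotypical modules, and the divisibility they force
-/

noncomputable section

set_option linter.style.haveILetI false
set_option linter.unusedSectionVars false
set_option backward.isDefEq.respectTransparency false
set_option backward.isDefEq.respectTransparency.types false

universe u v w

open CategoryTheory CategoryTheory.Limits AlgebraicGeometry TopologicalSpace Module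

namespace Groth.Agent.ASBunLib

open Groth.Agent Groth.Agent.QCoh

section Abstract

variable {k : Type u} [Field k] {C : Type w} [Category.{v} C] [Preadditive C] [Linear k C]
  [HasFiniteBiproducts C]

/-- Homomorphisms between biproducts, as a linear equivalence. -/
def biprodHomEquiv {ι κ : Type} [Finite ι] [Finite κ] (f : ι → C) (g : κ → C) :
    ((⨁ f) ⟶ (⨁ g)) ≃ₗ[k] ∀ i j, f i ⟶ g j :=
  { biproduct.matrixEquiv with
    map_add' := fun a b => funext fun i => funext fun j => by
      simp [biproduct.matrixEquiv, biproduct.components]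
    map_smul' := fun c a => funext fun i => funext fun j => by
      simp [biproduct.matrixEquiv, biproduct.components] }

theorem finrank_biproduct_hom (N N' : C) [Module.Finite k (N ⟶ N')] (d d' : ℕ) :
    Module.finrank k ((⨁ fun _ : Fin d => N) ⟶ ⨁ fun _ : Fin d' => N') = d * d' * Module.finrank k (N ⟶ N') := by
  rw [(biprodHomEquiv (k := k) (fun _ : Fin d => N) (fun _ : Fin d' => N')).finrank_eq,
    Module.finrank_pi_fintype]
  simp [Module.finrank_pi_fintype, mul_assoc]

/-- If every nonzero endomorphism of `E` is invertible, a Hom space into an additive linear image of `E` has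
dimension a multiple of that of the endomorphism ring. -/
theorem finrank_end_dvd {E : C} (hE : ¬ IsZero E) (hdiv : ∀ f : E ⟶ E, f ≠ 0 → IsIso f)
    {C' : Type*} [Category C'] [Preadditive C'] [Linear k C'] (G : C ⥤ C') [G.Additive]
    (hG : ∀ c : k, G.map (c • 𝟙 E) = c • 𝟙 (G.obj E)) (T : C') [Module.Finite k (T ⟶ G.obj E)] :
    Module.finrank k (E ⟶ E) ∣ Module.finrank k (T ⟶ G.obj E) := by
  haveI : Nontrivial (End E) := ⟨⟨0, 1, fun h => hE ((IsZero.iff_id_eq_zero E).2 h.symm)⟩⟩
  letI : DivisionRing (End E) := DivisionRing.ofIsUnitOrEqZero fun f => by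
    by_cases hf : f = 0
    · exact Or.inr hf
    · exact Or.inl ((isUnit_iff_isIso (f := f)).2 (hdiv f hf))
  letI : Module (End E) (T ⟶ G.obj E) :=
    { smul := fun f φ => φ ≫ G.map f
      one_smul := fun φ => by show φ ≫ G.map (𝟙 E) = φ; simp
      mul_smul := fun f g φ => by show φ ≫ G.map (g ≫ f) = (φ ≫ G.map g) ≫ G.map f; simp
      smul_zero := fun f => zero_comp
      smul_add := fun f a b => Preadditive.add_comp _ _ _ _ _ _
      add_smul := fun f g φ => by
        show φ ≫ G.map (show E ⟶ E from f + g) = φ ≫ G.map f + φ ≫ G.map g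
        rw [G.map_add, Preadditive.comp_add]
      zero_smul := fun φ => by show φ ≫ G.map 0 = 0; simp }
  haveI : IsScalarTower k (End E) (T ⟶ G.obj E) := by
    refine IsScalarTower.of_algebraMap_smul fun c φ => ?_
    show φ ≫ G.map (algebraMap k (End E) c) = c • φ
    rw [Algebra.algebraMap_eq_smul_one]
    show φ ≫ G.map (c • 𝟙 E) = c • φ
    rw [hG, Linear.comp_smul, Category.comp_id]
  exact ⟨_, (Module.finrank_mul_finrank k (End E) (T ⟶ G.obj E)).symm⟩

end Abstract

variable {k K : Type u} [Field k] [Field K] [Algebra k K] {X X' : Scheme.{u}}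
  [X.Over (Spec (CommRingCat.of k))] [IsProper (X ↘ Spec (CommRingCat.of k))]
  [X'.Over (Spec (CommRingCat.of K))] [IsProper (X' ↘ Spec (CommRingCat.of K))] {π : X' ⟶ X}
  (h : IsPullback π (X' ↘ Spec (CommRingCat.of K)) (X ↘ Spec (CommRingCat.of k)) (Spec.map (CommRingCat.ofHom (algebraMap k K))))

theorem smul_eq_scal {R : Type u} [CommRing R] {Y : Scheme.{u}} [Y.Over (Spec (CommRingCat.of R))] {M N : Y.Modules}
    (c : R) (φ : M ⟶ N) : c • φ = φ ≫ scal (Y ↘ Spec (CommRingCat.of R)) N c := by
  rw [← scal_comp]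
  conv_lhs => rw [← Category.id_comp φ, ← Linear.smul_comp, KLin.smul_id]
  rfl

include h in
/-- Hom spaces of coherent modules have the same dimension after the field extension. -/
theorem finrank_hom_pullback {F G : X.Modules} (hF : Coh.IsCoh F) (hG : Coh.IsCoh G) :
    Module.finrank K ((Scheme.Modules.pullback π).obj F ⟶ (Scheme.Modules.pullback π).obj G) =
      Module.finrank k (F ⟶ G) := by
  classical
  haveI := CurveCohLib.isNoetherian_of_proper (k := k) (X := X)
  haveI : Module.Finite k (F ⟶ G) := CurveKS.finite_hom k hF hG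
  haveI : (Scheme.Modules.pullback π).Additive :=
    (Scheme.Modules.pullbackPushforwardAdjunction π).left_adjoint_additive
  let b := Module.finBasis k (F ⟶ G)
  let v := fun i => (Scheme.Modules.pullback π).map (b i)
  have hv : ∀ (c : K) i, c • v i = bcHom (X' ↘ Spec (CommRingCat.of K)) π c (b i) := fun c i => smul_eq_scal c (v i)
  have hone : ∀ (a : k) (f : F ⟶ G), (Scheme.Modules.pullback π).map (a • f) =
      algebraMap k K a • (Scheme.Modules.pullback π).map f := fun a f => by
    rw [smul_eq_scal, smul_eq_scal, Functor.map_comp]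
    congr 1
    refine ((Scheme.Modules.pullbackPushforwardAdjunction π).homEquiv _ _).injective ?_
    refine Scheme.Modules.hom_ext _ _ fun U => ?_
    ext s
    rw [Adjunction.homEquiv_unit, Adjunction.homEquiv_unit]
    show ((Scheme.Modules.pullback π).map (scal (X ↘ Spec (CommRingCat.of k)) G a)).app (π ⁻¹ᵁ U)
        (show Γ((Scheme.Modules.pullback π).obj G, π ⁻¹ᵁ U) from
          ((Scheme.Modules.pullbackPushforwardAdjunction π).unit.app G).app U s) =
      sc (X' ↘ Spec (CommRingCat.of K)) (π ⁻¹ᵁ U) (algebraMap k K a) •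
        (show Γ((Scheme.Modules.pullback π).obj G, π ⁻¹ᵁ U) from
          ((Scheme.Modules.pullbackPushforwardAdjunction π).unit.app G).app U s)
    rw [show (show Γ((Scheme.Modules.pullback π).obj G, π ⁻¹ᵁ U) from
          ((Scheme.Modules.pullbackPushforwardAdjunction π).unit.app G).app U s) = pullSec π G le_rfl s from
      (map_id' (M := (Scheme.Modules.pullback π).obj G) _ _).symm]
    rw [ExistEasy.pullSec_natural, scal_app, pullSec_smul, app_sc h]
  refine (Module.finrank_eq_card_basis (Basis.mk (v := v) ?_ ?_)).trans (Fintype.card_fin _)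
  · rw [Fintype.linearIndependent_iff]
    intro g hg i
    by_contra hgi
    obtain ⟨lam, hlam⟩ := Module.Projective.exists_dual_ne_zero k hgi
    obtain ⟨ρ, hρ, -⟩ := exists_retr (F := F) h hG.1 lam
    have := congrArg ρ hg
    rw [map_sum, map_zero] at this
    simp only [hv, hρ, ← smul_eq_scal] at this
    exact hlam (Fintype.linearIndependent_iff.1 b.linearIndependent _ this i)
  · rintro φ -
    obtain ⟨n, c, f, rfl⟩ := exists_sum h hG.1 hF φ
    refine Submodule.sum_mem _ fun j _ => ?_
    rw [show bcHom (X' ↘ Spec (CommRingCat.of K)) π (c j) (f j) = c j • (Scheme.Modules.pullback π).map (f j) from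
      (smul_eq_scal _ _).symm, ← b.sum_repr (f j), Functor.map_sum, Finset.smul_sum]
    refine Submodule.sum_mem _ fun i _ => ?_
    rw [hone, smul_smul]
    exact Submodule.smul_mem _ _ (Submodule.subset_span ⟨i, rfl⟩)

include h in
/-- An indecomposable module which is isotypical of a type with division endomorphisms has itself division
endomorphisms. -/
theorem isIso_of_ne_zero {E : X.Modules} (hE : Coh.IsCoh E) (hEi : CurveKS.Ind E) {L : X'.Modules}
    (hdiv : ∀ u : L ⟶ L, u ≠ 0 → IsIso u) (r : ℕ)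
    (e : (Scheme.Modules.pullback π).obj E ≅ powM L r) (f : E ⟶ E) (hf : f ≠ 0) : IsIso f := by
  haveI := CurveCohLib.isNoetherian_of_proper (k := k) (X := X)
  haveI : Module.Finite k (E ⟶ E) := CurveKS.finite_hom k hE hE
  obtain ⟨ι, s, x, y, hs⟩ := exists_unit_sum h hE hdiv r e f hf
  obtain ⟨i, -, hi⟩ := CurveKS.exists_isIso_of_sum k hEi s _ (by rw [hs]; infer_instance)
  haveI : IsIso ((x i ≫ f) ≫ y i) := by simpa [Category.assoc] using hi
  haveI : IsIso (x i ≫ f) := CurveKS.isIso_of_comp hEi.1 hEi (x i ≫ f) (y i)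
  haveI : IsIso (x i) := CurveKS.isIso_of_comp hEi.1 hEi (x i) f
  exact IsIso.of_isIso_comp_left (x i) f

theorem finrank_powM_hom {Y : Scheme.{u}} [Y.Over (Spec (CommRingCat.of K))] {F F' N N' : Y.Modules}
    [Module.Finite K (N ⟶ N')] {d d' : ℕ} (e : F ≅ powM N d) (e' : F' ≅ powM N' d') :
    Module.finrank K (F ⟶ F') = d * d' * Module.finrank K (N ⟶ N') := by
  haveI := Abelian.hasFiniteBiproducts (C := Y.Modules)
  rw [← finrank_biproduct_hom (k := K) N N' d d']
  exact (Linear.homCongr K (e ≪≫ (nonempty_pow_biproduct N d).some)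
    (e' ≪≫ (nonempty_pow_biproduct N' d').some)).finrank_eq

theorem isIso_of_ne_zero_of_finrank {Y : Scheme.{u}} [Y.Over (Spec (CommRingCat.of K))] {N : Y.Modules}
    (hN : Module.finrank K (N ⟶ N) = 1) (u : N ⟶ N) (hu : u ≠ 0) : IsIso u := by
  have h1 : (𝟙 N : N ⟶ N) ≠ 0 := fun h1 => hu (by rw [← Category.id_comp u, h1, zero_comp])
  obtain ⟨c, hc⟩ := (finrank_eq_one_iff_of_nonzero' (𝟙 N) h1).1 hN u
  have hc0 : c ≠ 0 := fun hc0 => hu (by rw [← hc, hc0, zero_smul])
  exact ⟨c⁻¹ • 𝟙 N, by rw [← hc]; simp [hc0], by rw [← hc]; simp [hc0]⟩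

theorem nonempty_tensor_powM {Y : Scheme.{u}} (N M : Y.Modules) (d : ℕ) :
    Nonempty (CohB1.tensorMod (powM N d) M ≅ powM (CohB1.tensorMod N M) d) := by
  haveI := Abelian.hasFiniteBiproducts (C := Y.Modules)
  let G := (DCoh.tensorBi (X := Y)).flip.obj M
  haveI : G.Additive := ⟨fun {A B f g} => by
    show (DCoh.tensorBi.map (f + g)).app M = _
    rw [Functor.map_add]; rfl⟩
  haveI : PreservesFiniteBiproducts G := Functor.preservesFiniteBiproductsOfAdditive G
  exact ⟨G.mapIso (nonempty_pow_biproduct N d).some ≪≫ G.mapBiproduct (fun _ : Fin d => N) ≪≫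
    (nonempty_pow_biproduct _ d).some.symm⟩

include h in
/-- If `E` is indecomposable of type `N^d` and `π^*(E ⊗ M) ` meets `T` of type `N'^{d'}` in type `N'`, then `d`
divides `d'`. -/
theorem dvd_of_tensor {E M T : X.Modules} (hE : Coh.IsCoh E) (hEi : CurveKS.Ind E) (hEM : Coh.IsCoh (CohB1.tensorMod E M))
    (hT : Coh.IsCoh T) {N P N' : X'.Modules} {d m : ℕ} (eE : (Scheme.Modules.pullback π).obj E ≅ powM N d)
    (hN : Module.finrank K (N ⟶ N) = 1)
    (eM : CohB1.tensorMod N ((Scheme.Modules.pullback π).obj M) ≅ powM P m)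
    {d' : ℕ} (eT : (Scheme.Modules.pullback π).obj T ≅ powM N' d')
    (hP : Module.finrank K (N' ⟶ P) = 1) : d * d ∣ d' * (d * m) := by
  haveI := Abelian.hasFiniteBiproducts (C := X'.Modules)
  haveI := Abelian.hasFiniteBiproducts (C := X.Modules)
  haveI : Module.Finite K (N ⟶ N) := Module.finite_of_finrank_pos (by omega)
  haveI : Module.Finite K (N' ⟶ P) := Module.finite_of_finrank_pos (by omega)
  let G := (DCoh.tensorBi (X := X)).flip.obj M
  haveI : G.Additive := ⟨fun {A B f g} => by
    show (DCoh.tensorBi.map (f + g)).app M = _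
    rw [Functor.map_add]; rfl⟩
  haveI : Module.Finite k (T ⟶ G.obj E) := CurveKS.finite_hom k hT hEM
  have hlin : ∀ c : k, G.map (c • 𝟙 E) = c • 𝟙 (G.obj E) := fun c => by
    rw [KLin.smul_id, KLin.smul_id]
    show (DCoh.tensorBi.map (Formal.smulMod k E c)).app M = _
    rw [KoszTw.tensorBi_map_app]
    exact DefoConnLib.tensorMap_smulModΓ _ _ _
  have key := finrank_end_dvd (k := k) hEi.1
    (fun f hf => isIso_of_ne_zero h hE hEi (isIso_of_ne_zero_of_finrank hN) d eE f hf) G hlin T
  obtain ⟨e₁⟩ := H23.PicMul.pull π E M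
  obtain ⟨e₂⟩ := nonempty_tensor_powM N ((Scheme.Modules.pullback π).obj M) d
  obtain ⟨e₃⟩ := nonempty_pow_pow P m d
  let eP : (Scheme.Modules.pullback π).obj (G.obj E) ≅ powM P (d * m) :=
    e₁ ≪≫ PicGrp.tensorModIso eE (Iso.refl _) ≪≫ e₂ ≪≫ Sigma.mapIso (fun _ => eM) ≪≫ e₃
  rw [← finrank_hom_pullback h hE hE, ← finrank_hom_pullback h hT (G := G.obj E) hEM,
    finrank_powM_hom eE eE, finrank_powM_hom eT eP, hN, hP, mul_one, mul_one] at key
  exact key

end Groth.Agent.ASBunLib
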