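import Groth.Agent.ASBunLib.Classify
import Groth.Agent.KPE7.Exists

/-!
# Invertible modules on connected schemes are indecomposable; tensoring by them keeps indecomposability
-/

noncomputable section

set_option linter.style.haveILetI false
set_option linter.unusedSectionVars false
set_option backward.isDefEq.respectTransparency false
set_option backward.isDefEq.respectTransparency.types false
set_option maxHeartbeats 1000000

universe u

open CategoryTheory CategoryTheory.Limits AlgebraicGeometry TopologicalSpace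

namespace Groth.Agent.ASBunLib

open Groth.Agent Groth.Agent.AModX

theorem smulModΓ_inj {Y : Scheme.{u}} {N : Y.Modules} (hN : PicF.IsInvertible N) {a b : Γ(Y, ⊤)}
    (h : Formal.smulModΓ N a = Formal.smulModΓ N b) : a = b := by
  refine AModX.eq_of_locally (M := Coh.structureModule Y) (show Γ(Coh.structureModule Y, ⊤) from a)
    (show Γ(Coh.structureModule Y, ⊤) from b) fun x _ => ?_
  obtain ⟨U, hx, e, he⟩ := InvX.exists_frame hN x
  refine ⟨U, le_top, hx, ?_⟩
  have h1 := congrArg (fun φ : N ⟶ N => φ.app U e) h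
  simp only [KLin.smulModΓ_app_apply] at h1
  refine he.coord_unique le_rfl ?_
  rw [res_self]
  exact h1

/-- An invertible module on a connected scheme is indecomposable. -/
theorem ind_of_invertible {Y : Scheme.{u}} [ConnectedSpace ↥Y] {N : Y.Modules} (hN : PicF.IsInvertible N) :
    CurveKS.Ind N := by
  haveI : Nonempty ↥Y := ConnectedSpace.toNonempty
  refine ⟨not_isZero_invertible hN, ?_⟩
  rintro A B ⟨e⟩
  let x : N ⟶ N := e.hom ≫ biprod.fst ≫ biprod.inl ≫ e.inv
  have hx : x ≫ x = x := by simp [x]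
  obtain ⟨a, ha⟩ := exists_smulModΓ hN x
  have hidem : IsIdempotentElem a := smulModΓ_inj hN (by rw [KLin.smulModΓ_mul, ← ha, hx])
  rcases KPE7.eq_zero_or_one_of_idem hidem with rfl | rfl
  · left
    rw [KLin.smulModΓ_zero] at ha
    refine (IsZero.iff_id_eq_zero A).2 ?_
    have : biprod.inl ≫ e.inv ≫ x ≫ e.hom ≫ biprod.fst = 𝟙 A := by simp [x]
    rw [← this, ha]
    simp
  · right
    rw [KLin.smulModΓ_one] at ha
    refine (IsZero.iff_id_eq_zero B).2 ?_
    have : biprod.inr ≫ e.inv ≫ x ≫ e.hom ≫ biprod.snd = (0 : B ⟶ B) := by simp [x]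
    rw [← this, ha]
    simp

/-- Tensoring with an invertible module preserves indecomposability. -/
theorem ind_tensor_invertible {X : Scheme.{u}} {M J J' : X.Modules} (hM : CurveKS.Ind M)
    (eJ : CohB1.tensorMod J J' ≅ Coh.structureModule X) : CurveKS.Ind (CohB1.tensorMod M J) := by
  have key : ∀ A : X.Modules, Nonempty (CohB1.tensorMod (CohB1.tensorMod A J) J' ≅ A) := fun A => by
    obtain ⟨a⟩ := H23.PicMul.assoc A J J'
    obtain ⟨u⟩ := H23.PicMul.unit A
    exact ⟨a ≪≫ PicGrp.tensorModIso (Iso.refl A) eJ ≪≫ u⟩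
  have key' : ∀ A : X.Modules, Nonempty (CohB1.tensorMod (CohB1.tensorMod A J') J ≅ A) := fun A => by
    obtain ⟨a⟩ := H23.PicMul.assoc A J' J
    obtain ⟨c⟩ := H23.PicMul.comm J' J
    obtain ⟨u⟩ := H23.PicMul.unit A
    exact ⟨a ≪≫ PicGrp.tensorModIso (Iso.refl A) (c ≪≫ eJ) ≪≫ u⟩
  let G := (DCoh.tensorBi (X := X)).flip.obj J'
  let G₀ := (DCoh.tensorBi (X := X)).flip.obj J
  haveI : G.Additive := ⟨fun {A B f g} => by
    show (DCoh.tensorBi.map (f + g)).app J' = _
    rw [Functor.map_add]; rfl⟩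
  haveI : G₀.Additive := ⟨fun {A B f g} => by
    show (DCoh.tensorBi.map (f + g)).app J = _
    rw [Functor.map_add]; rfl⟩
  refine ⟨fun hz => hM.1 ((G.map_isZero hz).of_iso (key M).some.symm), ?_⟩
  rintro A B ⟨e⟩
  haveI : PreservesFiniteBiproducts G := Functor.preservesFiniteBiproductsOfAdditive G
  haveI := preservesBinaryBiproducts_of_preservesBiproducts G
  rcases hM.2 (G.obj A) (G.obj B) ⟨(key M).some.symm ≪≫ G.mapIso e ≪≫ G.mapBiprod A B⟩ with h | h
  · exact Or.inl ((G₀.map_isZero h).of_iso (key' A).some.symm)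
  · exact Or.inr ((G₀.map_isZero h).of_iso (key' B).some.symm)

variable {k K : Type u} [Field k] [Field K] [Algebra k K] {X X' : Scheme.{u}}
  [X.Over (Spec (CommRingCat.of k))] [IsProper (X ↘ Spec (CommRingCat.of k))]
  [X'.Over (Spec (CommRingCat.of K))] [IsProper (X' ↘ Spec (CommRingCat.of K))] {π : X' ⟶ X}
  (h : IsPullback π (X' ↘ Spec (CommRingCat.of K)) (X ↘ Spec (CommRingCat.of k)) (Spec.map (CommRingCat.ofHom (algebraMap k K))))

include h in
/-- An isotypical bundle has an indecomposable isotypical bundle of the same type. -/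
theorem exists_ind_summand [Nonempty ↥X'] {T : X.Modules} (hT : FlatMod.IsFinLocFree T) {N : X'.Modules} (hN : CurveKS.Ind N) {m : ℕ}
    (hm : 0 < m) (eT : (Scheme.Modules.pullback π).obj T ≅ powM N m) :
    ∃ (M : X.Modules) (d : ℕ), FlatMod.IsFinLocFree M ∧ CurveKS.Ind M ∧ 0 < d ∧
      Nonempty ((Scheme.Modules.pullback π).obj M ≅ powM N d) := by
  classical
  haveI := CurveCohLib.isNoetherian_of_proper (k := k) (X := X)
  haveI := CurveCohLib.isNoetherian_of_proper (k := K) (X := X')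
  haveI := Abelian.hasFiniteBiproducts (C := X.Modules)
  haveI : (Scheme.Modules.pullback π).Additive :=
    (Scheme.Modules.pullbackPushforwardAdjunction π).left_adjoint_additive
  have hTc := CurveDeg.isCoh_of_isFinLocFree hT
  haveI : Module.Finite k (T ⟶ T) := CurveKS.finite_hom k hTc hTc
  obtain ⟨t, Ws, hWs, ⟨eW⟩⟩ := CurveKS.exists_decomposition k T
  have ht : t ≠ 0 := fun h0 => by
    subst h0
    have hz : IsZero T := ((IsZero.iff_id_eq_zero _).2 (biproduct.hom_ext _ _ fun i => i.elim0)).of_iso eW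
    have hz' := ((Scheme.Modules.pullback π).map_isZero hz).of_iso eT.symm
    refine hN.1 ((IsZero.iff_id_eq_zero N).2 ?_)
    rw [← Sigma.ι_desc (fun _ : Fin m => 𝟙 N) ⟨0, hm⟩, hz'.eq_of_src (Sigma.desc fun _ : Fin m => 𝟙 N) 0, comp_zero]
  obtain ⟨t, rfl⟩ := Nat.exists_eq_succ_of_ne_zero ht
  have hWc : Coh.IsCoh (Ws 0) :=
    isCoh_of_retract hTc (biproduct.ι Ws 0 ≫ eW.inv) (eW.hom ≫ biproduct.π Ws 0) (by simp)
  obtain ⟨d, ⟨ed⟩⟩ := exists_pow_of_retract (k := K) hN (ZClosLib.isCoh_pullback π hWc) m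
    ((Scheme.Modules.pullback π).map (biproduct.ι Ws 0 ≫ eW.inv) ≫ eT.hom)
    (eT.inv ≫ (Scheme.Modules.pullback π).map (eW.hom ≫ biproduct.π Ws 0))
    (by rw [Category.assoc, eT.hom_inv_id_assoc, ← Functor.map_comp]; simp)
  exact ⟨Ws 0, d, isFinLocFree_summand hT (eW ≪≫ (CurveKS.splitAt Ws 0).symm), hWs 0,
    pos_of_ind h hWc (hWs 0) ed, ⟨ed⟩⟩

end Groth.Agent.ASBunLib
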