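import Groth.Agent.S4788
import Groth.Agent.S4791
import Groth.Agent.Pi1Ext.SepClosureLim
import Groth.Agent.Chevalley.BC.Level
import Groth.Agent.KFlatLib.Perfect.LocFree
import Groth.Agent.ASBunLib.IndInv
import Groth.Agent.ASBunLib.TypeExists
import Groth.Agent.ExtShX.SmExt

/-!
# Bundles over an algebraic extension come from a finite level; Galois invariant bundles
-/

noncomputable section

set_option linter.style.haveILetI false
set_option linter.unusedSectionVars false
set_option backward.isDefEq.respectTransparency false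
set_option backward.isDefEq.respectTransparency.types false
set_option maxHeartbeats 1000000

universe u

open CategoryTheory CategoryTheory.Limits AlgebraicGeometry TopologicalSpace

namespace Groth.Agent.ASBunLib

open Groth.Agent Groth.Agent.Chevalley.BC

variable {k K : Type u} [Field k] [Field K] [Algebra k K] {X : Scheme.{u}}

/-- A bundle over an algebraic extension is defined over every large enough finite level. -/
theorem exists_finite_level [Algebra.IsAlgebraic k K] (f : X ⟶ Spec (CommRingCat.of k)) [IsProper f]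
    (W : (pullback f (Spec.map (CommRingCat.ofHom (algebraMap k K)))).Modules) (hW : FlatMod.IsFinLocFree W) :
    ∃ F : IntermediateField k K, FiniteDimensional k F ∧ ∀ F' : IntermediateField k K, F ≤ F' →
      ∃ W₀ : (pullback f (Spec.map (CommRingCat.ofHom (algebraMap k F')))).Modules, FlatMod.IsFinLocFree W₀ ∧
        Nonempty ((Scheme.Modules.pullback (levelMap f F')).obj W₀ ≅ W) := by
  classical
  haveI : CompactSpace X := QuasiCompact.compactSpace_of_compactSpace f
  haveI : QuasiSeparatedSpace X := quasiSeparatedSpace_of_quasiSeparated f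
  haveI := QCoh.isQCoh_of_isFinLocFree hW
  let W' : (Pi1Ext.SepLim.cone k K f).pt.Modules := W
  haveI : Coh.IsQCoh W' := QCoh.isQCoh_of_isFinLocFree hW
  obtain ⟨i, -, Fi, hFiq, hFifp, ⟨e⟩⟩ := S4788.result (Pi1Ext.SepLim.diag k K f) (Pi1Ext.SepLim.cone k K f)
    (Pi1Ext.SepLim.isLimitCone k K f) (Opposite.op ∅) W' (QCoh.isFP_of_isFinLocFree hW)
  haveI := hFiq
  obtain ⟨j, φ, hj⟩ := (S4791.result (Pi1Ext.SepLim.diag k K f) (Pi1Ext.SepLim.cone k K f)
    (Pi1Ext.SepLim.isLimitCone k K f) i Fi hFifp).1 (fun x => by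
      obtain ⟨U, n, hx, ⟨e'⟩⟩ := hW x
      exact ⟨U, n, hx, ⟨(Scheme.Modules.restrictFunctor U.ι).mapIso e ≪≫ e'⟩⟩)
  refine ⟨Pi1Ext.SepLim.sub k K j.unop,
    IntermediateField.finiteDimensional_adjoin fun x _ => Algebra.IsIntegral.isIntegral x, fun F' hF' => ?_⟩
  let m : pullback f (Spec.map (CommRingCat.ofHom (algebraMap k F'))) ⟶ (Pi1Ext.SepLim.diag k K f).obj j :=
    pullback.lift (pullback.fst _ _)
      (pullback.snd _ _ ≫ Spec.map (CommRingCat.ofHom (IntermediateField.inclusion hF').toRingHom))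
      (by
        rw [Category.assoc]
        show _ = _ ≫ Spec.map _ ≫ Spec.map _
        rw [← Spec.map_comp]
        exact pullback.condition)
  have hm : levelMap f F' ≫ m = (Pi1Ext.SepLim.cone k K f).π.app j := by
    show levelMap f F' ≫ m = Pi1Ext.SepLim.proj k K f j
    refine pullback.hom_ext ?_ ?_
    · rw [Category.assoc, pullback.lift_fst]
      exact (pullback.lift_fst _ _ _).trans (pullback.lift_fst _ _ _).symm
    · rw [Category.assoc, pullback.lift_snd]
      refine Eq.trans ?_ (pullback.lift_snd _ _ _).symm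
      rw [levelMap, pullback.lift_snd_assoc, Category.assoc]
      congr 1
      show Spec.map _ ≫ Spec.map _ = Spec.map _
      rw [← Spec.map_comp]
      rfl
  refine ⟨(Scheme.Modules.pullback m).obj ((Scheme.Modules.pullback ((Pi1Ext.SepLim.diag k K f).map φ)).obj Fi),
    KFlatLib.isFinLocFree_pullback m hj, ⟨?_⟩⟩
  refine (Scheme.Modules.pullbackComp (levelMap f F') m).app _ ≪≫ (Scheme.Modules.pullbackCongr hm).app _ ≪≫ ?_
  refine (Scheme.Modules.pullbackComp _ _).app Fi ≪≫ (Scheme.Modules.pullbackCongr ?_).app Fi ≪≫ e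
  exact (Pi1Ext.SepLim.cone k K f).w φ

/-- An isomorphism moves pullback to push-forward. -/
theorem nonempty_pushforward_iso_of_pullback {Y : Scheme.{u}} (g : Y ⟶ Y) [IsIso g] {L : Y.Modules}
    (a : (Scheme.Modules.pullback g).obj L ≅ L) : Nonempty ((Scheme.Modules.pushforward g).obj L ≅ L) := by
  let e : Y.Modules ≌ Y.Modules := CategoryTheory.Equivalence.mk (Scheme.Modules.pullback g) (Scheme.Modules.pullback (inv g))
    ((Scheme.Modules.pullbackComp (inv g) g ≪≫ Scheme.Modules.pullbackCongr (IsIso.inv_hom_id g) ≪≫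
      Scheme.Modules.pullbackId Y).symm)
    (Scheme.Modules.pullbackComp g (inv g) ≪≫ Scheme.Modules.pullbackCongr (IsIso.hom_inv_id g) ≪≫
      Scheme.Modules.pullbackId Y)
  haveI : (Scheme.Modules.pullback g).IsEquivalence := e.isEquivalence_functor
  exact ⟨(Scheme.Modules.pushforward g).mapIso a.symm ≪≫
    (asIso ((Scheme.Modules.pullbackPushforwardAdjunction g).unit.app L)).symm⟩

open W4c1astiltbs12 in
/-- A Galois invariant indecomposable bundle is, up to multiplicity, defined over the base. -/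
theorem exists_ind_of_invariant (p : X ⟶ Spec (CommRingCat.of k)) [IsProper p] [IsGalois k K]
    (W : (W4bk4gw11416.baseChange p K).Modules) (hW : FlatMod.IsFinLocFree W) (hWi : CurveKS.Ind W)
    (hinv : ∀ σ : K ≃ₐ[k] K, Nonempty ((Scheme.Modules.pullback (galAct p K σ)).obj W ≅ W)) :
    ∃ (M : X.Modules) (r : ℕ), FlatMod.IsFinLocFree M ∧ CurveKS.Ind M ∧
      0 < r ∧ Nonempty (bcMod p K M ≅ pow W r) := by
  classical
  letI : X.Over (Spec (CommRingCat.of k)) := ⟨p⟩
  haveI : IsProper (X ↘ Spec (CommRingCat.of k)) := ‹IsProper p›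
  obtain ⟨F₁, hF₁, hlev⟩ := exists_finite_level p W hW
  haveI := hF₁
  let F : IntermediateField k K := IntermediateField.normalClosure k F₁ K
  obtain ⟨W₀, hW₀, ⟨e₀⟩⟩ := hlev F (IntermediateField.le_normalClosure F₁)
  let Y := pullback p (Spec.map (CommRingCat.ofHom (algebraMap k F)))
  let π₀ : Y ⟶ X := pullback.fst p _
  let pY : Y ⟶ Spec (CommRingCat.of F) := pullback.snd p _
  letI : Y.Over (Spec (CommRingCat.of F)) := ⟨pY⟩
  haveI : IsProper (Y ↘ Spec (CommRingCat.of F)) :=
    inferInstanceAs (IsProper (Limits.pullback.snd p (Spec.map (CommRingCat.ofHom (algebraMap k F)))))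
  letI : (W4bk4gw11416.baseChange p K).Over (Spec (CommRingCat.of K)) := ⟨W4bk4gw11416.baseChangeTo p K⟩
  haveI : IsProper ((W4bk4gw11416.baseChange p K) ↘ Spec (CommRingCat.of K)) :=
    inferInstanceAs (IsProper (Limits.pullback.snd p (Spec.map (CommRingCat.ofHom (algebraMap k K)))))
  haveI := CurveCohLib.isNoetherian_of_proper (k := F) (X := Y)
  haveI := Abelian.hasFiniteBiproducts (C := Y.Modules)
  let g : (F ≃ₐ[k] F) → (Y ⟶ Y) := fun σ => pullback.lift π₀
    (pY ≫ Spec.map (CommRingCat.ofHom (σ : F →+* F))) (by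
      rw [Category.assoc, ← Spec.map_comp, ← CommRingCat.ofHom_comp]
      refine pullback.condition.trans ?_
      congr 3
      ext x
      simp)
  have hgπ : ∀ σ, g σ ≫ π₀ = π₀ := fun σ => pullback.lift_fst _ _ _
  have hgp : ∀ σ, g σ ≫ pY = pY ≫ Spec.map (CommRingCat.ofHom (σ : F →+* F)) := fun σ => pullback.lift_snd _ _ _
  have hgg : ∀ σ, g σ ≫ g σ.symm = 𝟙 _ := fun σ => by
    apply pullback.hom_ext
    · show (g σ ≫ g σ.symm) ≫ π₀ = 𝟙 Y ≫ π₀
      rw [Category.assoc, hgπ, hgπ, Category.id_comp]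
    · show (g σ ≫ g σ.symm) ≫ pY = 𝟙 Y ≫ pY
      rw [Category.assoc, hgp, ← Category.assoc, hgp, Category.assoc, ← Spec.map_comp, ← CommRingCat.ofHom_comp, Category.id_comp]
      convert Category.comp_id pY
      rw [← Spec.map_id]
      congr 1
      ext x
      simp
  haveI : ∀ σ, IsIso (g σ) := fun σ => ⟨g σ.symm, hgg σ, by simpa using hgg σ.symm⟩
  let q := levelMap p F
  have hq : IsPullback q ((W4bk4gw11416.baseChange p K) ↘ Spec (CommRingCat.of K)) (Y ↘ Spec (CommRingCat.of F))
      (Spec.map (CommRingCat.ofHom (algebraMap F K))) := isPullback_levelMap p F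
  have hcomm : ∀ σ : F ≃ₐ[k] F, galAct p K (σ.liftNormal K) ≫ q = q ≫ g σ := fun σ => by
    refine pullback.hom_ext ?_ ?_
    · simp only [q, g, levelMap, galAct, π₀, pullback.map, Category.assoc, pullback.lift_fst]
      simp
    · simp only [q, g, levelMap, galAct, pY, pullback.map, Category.assoc, pullback.lift_snd, pullback.lift_snd_assoc]
      congr 1
      rw [← Spec.map_comp, ← Spec.map_comp, ← CommRingCat.ofHom_comp, ← CommRingCat.ofHom_comp]
      congr 2
      ext x
      exact σ.liftNormal_commutes K x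
  have hg0 : ∀ σ : F ≃ₐ[k] F, Nonempty ((Scheme.Modules.pullback (g σ)).obj W₀ ≅ W₀) := fun σ => by
    obtain ⟨t⟩ := hinv (σ.liftNormal K)
    refine nonempty_iso_of_pullback (k := F) (K := K) hq
      (CurveDeg.isCoh_of_isFinLocFree (KFlatLib.isFinLocFree_pullback _ hW₀)) (CurveDeg.isCoh_of_isFinLocFree hW₀) ?_
    exact (Scheme.Modules.pullbackComp q (g σ)).app W₀ ≪≫ (Scheme.Modules.pullbackCongr (hcomm σ).symm).app W₀ ≪≫
      ((Scheme.Modules.pullbackComp (galAct p K (σ.liftNormal K)) q).app W₀).symm ≪≫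
      (Scheme.Modules.pullback (galAct p K (σ.liftNormal K))).mapIso e₀ ≪≫ t ≪≫ e₀.symm
  let M₀ := (Scheme.Modules.pushforward π₀).obj W₀
  obtain ⟨Ψ⟩ := nonempty_pullback_push (IsPullback.of_hasPullback p (Spec.map (CommRingCat.ofHom (algebraMap k F))))
    g hgπ hgp (L := W₀) (QCoh.isQCoh_of_isFinLocFree hW₀)
  have hM₀ : FlatMod.IsFinLocFree M₀ :=
    PerfGen7.ResDescend.isFinLocFree_pushforward _ (isFinLocFree_proj p F) hW₀
  let Ψ' := Ψ ≪≫ biproduct.mapIso (fun σ => (nonempty_pushforward_iso_of_pullback (g σ) (hg0 σ).some).some) ≪≫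
    (nonempty_powM_card _).some
  have hπ : levelMap p F ≫ π₀ = proj p K := pullback.lift_fst _ _ _
  obtain ⟨p₁⟩ := nonempty_pullback_pow (levelMap p F) W₀ (Fintype.card (F ≃ₐ[k] F))
  haveI : Nonempty ↥(W4bk4gw11416.baseChange p K) := by
    by_contra h
    haveI := not_nonempty_iff.1 h
    exact hWi.1 (ExtShX.SmExt.isZero_of_isEmpty W)
  refine exists_ind_summand (k := k) (K := K) (X' := W4bk4gw11416.baseChange p K) (π := proj p K)
    (IsPullback.of_hasPullback _ _) hM₀ hWi (Fintype.card_pos (α := F ≃ₐ[k] F)) ?_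
  exact ((Scheme.Modules.pullbackCongr hπ.symm).app M₀) ≪≫ ((Scheme.Modules.pullbackComp (levelMap p F) π₀).app M₀).symm ≪≫
    (Scheme.Modules.pullback (levelMap p F)).mapIso Ψ' ≪≫ p₁ ≪≫ Sigma.mapIso (fun _ => e₀)

end Groth.Agent.ASBunLib
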