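import Groth.Agent.ASBunLib.PushGalois
import Groth.Prelude.Def_PicLoc

/-!
# Finite free modules, constant matrices, and sections
-/

noncomputable section

set_option linter.style.haveILetI false
set_option linter.unusedSectionVars false
set_option backward.isDefEq.respectTransparency false
set_option backward.isDefEq.respectTransparency.types false
set_option maxHeartbeats 1000000

universe u

open CategoryTheory CategoryTheory.Limits AlgebraicGeometry TopologicalSpace

namespace Groth.Agent.ASBunLib

open Groth.Agent Groth.Agent.QCoh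

variable {Y : Scheme.{u}}

/-- A finite free module. -/
abbrev fr (Y : Scheme.{u}) [HasFiniteBiproducts Y.Modules] (ι : Type) [Finite ι] : Y.Modules :=
  ⨁ fun _ : ι => Coh.structureModule Y

variable [HasFiniteBiproducts Y.Modules] {ι κ : Type} [Fintype ι] [Fintype κ]

/-- The coordinates of a section of a free module. -/
def crd {U : Y.Opens} (x : Γ(fr Y ι, U)) (i : ι) : Γ(Y, U) :=
  (biproduct.π (fun _ : ι => Coh.structureModule Y) i).app U x

/-- A morphism applied to a section, as an additive function of the morphism. -/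
def evalHom {M N : Y.Modules} {U : Y.Opens} (x : Γ(M, U)) : (M ⟶ N) →+ Γ(N, U) :=
  AddMonoidHom.mk' (fun f => f.app U x) (fun _ _ => rfl)

theorem crd_ext {U : Y.Opens} {x y : Γ(fr Y ι, U)} (h : ∀ i, crd x i = crd y i) : x = y := by
  have key : ∀ z : Γ(fr Y ι, U), ∑ i, (biproduct.ι (fun _ : ι => Coh.structureModule Y) i).app U
      ((biproduct.π (fun _ : ι => Coh.structureModule Y) i).app U z) = z := fun z => by
    have := congrArg (evalHom z) (biproduct.total (f := fun _ : ι => Coh.structureModule Y))
    rw [map_sum] at this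
    exact this
  rw [← key x, ← key y]
  exact Finset.sum_congr rfl fun i _ => congrArg _ (h i)

theorem exists_sect {U : Y.Opens} (c : ι → Γ(Y, U)) : ∃ x : Γ(fr Y ι, U), ∀ i, crd x i = c i := by
  classical
  refine ⟨∑ i, (biproduct.ι (fun _ : ι => Coh.structureModule Y) i).app U (show Γ(Coh.structureModule Y, U) from c i),
    fun j => ?_⟩
  show (biproduct.π (fun _ : ι => Coh.structureModule Y) j).app U _ = _
  rw [map_sum, Finset.sum_eq_single j]
  · show (biproduct.ι (fun _ : ι => Coh.structureModule Y) j ≫ biproduct.π (fun _ : ι => Coh.structureModule Y) j).app U _ = _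
    rw [biproduct.ι_π_self]
    rfl
  · intro i _ hij
    show (biproduct.ι (fun _ : ι => Coh.structureModule Y) i ≫ biproduct.π (fun _ : ι => Coh.structureModule Y) j).app U _ = _
    rw [biproduct.ι_π_ne _ hij]
    rfl
  · simp

theorem crd_res {U V : Y.Opens} (h : V ≤ U) (x : Γ(fr Y ι, U)) (i : ι) :
    crd ((fr Y ι).presheaf.map (homOfLE h).op x) i = Y.presheaf.map (homOfLE h).op (crd x i) :=
  map_app_comm _ (homOfLE h) x

theorem crd_smul {U : Y.Opens} (r : Γ(Y, U)) (x : Γ(fr Y ι, U)) (i : ι) : crd (r • x) i = r * crd x i :=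
  Scheme.Modules.Hom.app_smul _ r x

theorem crd_add {U : Y.Opens} (x y : Γ(fr Y ι, U)) (i : ι) : crd (x + y) i = crd x i + crd y i :=
  map_add _ x y

/-- Restriction of a global function. -/
abbrev rtop (U : Y.Opens) : Γ(Y, ⊤) →+* Γ(Y, U) := (Y.presheaf.map (homOfLE (le_top : U ≤ ⊤)).op).hom

/-- The morphism of free modules of a matrix of global functions. -/
def mat (c : ι → κ → Γ(Y, ⊤)) : fr Y ι ⟶ fr Y κ :=
  biproduct.matrix fun i j => Formal.smulModΓ (Coh.structureModule Y) (c i j)

theorem crd_mat (c : ι → κ → Γ(Y, ⊤)) {U : Y.Opens} (x : Γ(fr Y ι, U)) (j : κ) :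
    crd ((mat c).app U x) j = ∑ i, rtop U (c i j) * crd x i := by
  classical
  have h : mat c ≫ biproduct.π (fun _ : κ => Coh.structureModule Y) j =
      ∑ i, biproduct.π (fun _ : ι => Coh.structureModule Y) i ≫ Formal.smulModΓ (Coh.structureModule Y) (c i j) := by
    refine biproduct.hom_ext' _ _ fun l => ?_
    rw [mat, biproduct.matrix_π, biproduct.ι_desc, Preadditive.comp_sum, Finset.sum_eq_single l]
    · rw [biproduct.ι_π_self_assoc]
    · intro i _ hi
      rw [biproduct.ι_π_ne_assoc _ (Ne.symm hi), zero_comp]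
    · simp
  have h2 := congrArg (fun f => f.app U x) h
  refine h2.trans ?_
  show evalHom x (∑ i, biproduct.π (fun _ : ι => Coh.structureModule Y) i ≫ Formal.smulModΓ (Coh.structureModule Y) (c i j)) = _
  rw [map_sum]
  rfl

theorem mat_eq_of (c c' : ι → κ → Γ(Y, ⊤)) (h : ∀ i j, c i j = c' i j) : mat c = mat c' := by
  rw [funext fun i => funext (h i)]

theorem mat_comp_mat {μ : Type} [Fintype μ] (c : ι → κ → Γ(Y, ⊤)) (d : κ → μ → Γ(Y, ⊤)) :
    mat c ≫ mat d = mat fun i l => ∑ j, c i j * d j l := by
  refine Scheme.Modules.hom_ext _ _ fun U => ?_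
  ext x
  refine crd_ext fun l => ?_
  show crd ((mat d).app U ((mat c).app U x)) l = _
  rw [crd_mat, crd_mat]
  simp only [crd_mat, map_sum, map_mul, Finset.mul_sum, Finset.sum_mul]
  rw [Finset.sum_comm]
  exact Finset.sum_congr rfl fun i _ => Finset.sum_congr rfl fun j _ => by ring

theorem mat_id [DecidableEq ι] : mat (fun i j : ι => if i = j then (1 : Γ(Y, ⊤)) else 0) = 𝟙 (fr Y ι) := by
  refine Scheme.Modules.hom_ext _ _ fun U => ?_
  ext x
  refine crd_ext fun l => ?_
  rw [crd_mat]
  show _ = crd x l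
  simp [apply_ite (rtop U)]

variable {X P : Scheme.{u}} (π : P ⟶ X) [HasFiniteBiproducts X.Modules] [HasFiniteBiproducts P.Modules]

/-- The comparison `O_X ⟶ π_* O_P`. -/
def unitPush : Coh.structureModule X ⟶ (Scheme.Modules.pushforward π).obj (Coh.structureModule P) :=
  SheafOfModules.unitToPushforwardObjUnit π.toRingCatSheafHom

theorem unitPush_app {U : X.Opens} (a : Γ(X, U)) :
    (show Γ(P, π ⁻¹ᵁ U) from (unitPush π).app U (show Γ(Coh.structureModule X, U) from a)) = π.app U a := rfl

/-- The comparison of free modules, followed by a matrix. -/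
def frPush (c : ι → κ → Γ(P, ⊤)) : fr X ι ⟶ (Scheme.Modules.pushforward π).obj (fr P κ) :=
  biproduct.desc fun i => unitPush π ≫
    (Scheme.Modules.pushforward π).map (biproduct.ι (fun _ : ι => Coh.structureModule P) i ≫ mat c)

theorem crd_frPush (c : ι → κ → Γ(P, ⊤)) {U : X.Opens} (x : Γ(fr X ι, U)) (j : κ) :
    crd (show Γ(fr P κ, π ⁻¹ᵁ U) from (frPush π c).app U x) j =
      ∑ i, rtop (π ⁻¹ᵁ U) (c i j) * π.app U (crd x i) := by
  classical
  have h : frPush π c = ∑ i, biproduct.π (fun _ : ι => Coh.structureModule X) i ≫ unitPush π ≫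
      (Scheme.Modules.pushforward π).map (biproduct.ι (fun _ : ι => Coh.structureModule P) i ≫ mat c) := by
    refine biproduct.hom_ext' _ _ fun l => ?_
    rw [frPush, biproduct.ι_desc, Preadditive.comp_sum, Finset.sum_eq_single l]
    · rw [biproduct.ι_π_self_assoc]
    · intro i _ hi
      rw [biproduct.ι_π_ne_assoc _ (Ne.symm hi), zero_comp]
    · simp
  have h2 : (frPush π c).app U x = ∑ i, (biproduct.π (fun _ : ι => Coh.structureModule X) i ≫ unitPush π ≫
      (Scheme.Modules.pushforward π).map (biproduct.ι (fun _ : ι => Coh.structureModule P) i ≫ mat c)).app U x := by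
    show evalHom x (frPush π c) = _
    rw [h, map_sum]
    rfl
  let ev : Γ(fr P κ, π ⁻¹ᵁ U) →+ Γ(P, π ⁻¹ᵁ U) := AddMonoidHom.mk' (fun y => crd y j) (fun a b => crd_add a b j)
  show ev _ = _
  rw [h2]
  refine (map_sum ev _ _).trans (Finset.sum_congr rfl fun i _ => ?_)
  show crd ((mat c).app (π ⁻¹ᵁ U) ((biproduct.ι (fun _ : ι => Coh.structureModule P) i).app (π ⁻¹ᵁ U)
    (show Γ(Coh.structureModule P, π ⁻¹ᵁ U) from π.app U (crd x i)))) j = _
  rw [crd_mat, Finset.sum_eq_single i]
  · congr 1
    show (biproduct.ι (fun _ : ι => Coh.structureModule P) i ≫ biproduct.π (fun _ : ι => Coh.structureModule P) i).app _ _ = _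
    rw [biproduct.ι_π_self]
    rfl
  · intro l _ hl
    have h0 : crd ((biproduct.ι (fun _ : ι => Coh.structureModule P) i).app (π ⁻¹ᵁ U)
        (show Γ(Coh.structureModule P, π ⁻¹ᵁ U) from π.app U (crd x i))) l = 0 := by
      show (biproduct.ι (fun _ : ι => Coh.structureModule P) i ≫ biproduct.π (fun _ : ι => Coh.structureModule P) l).app _ _ = _
      rw [biproduct.ι_π_ne _ (Ne.symm hl)]
      rfl
    rw [h0, mul_zero]
  · simp

/-- The adjunct of the comparison is the matrix, up to the canonical isomorphism. -/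
theorem exists_adjunct (c : ι → κ → Γ(P, ⊤)) :
    ∃ e : (Scheme.Modules.pullback π).obj (fr X ι) ≅ fr P ι,
      ((Scheme.Modules.pullbackPushforwardAdjunction π).homEquiv _ _).symm (frPush π c) = e.hom ≫ mat c := by
  haveI : (Scheme.Modules.pullback π).Additive :=
    (Scheme.Modules.pullbackPushforwardAdjunction π).left_adjoint_additive
  haveI : PreservesFiniteBiproducts (Scheme.Modules.pullback π) := Functor.preservesFiniteBiproductsOfAdditive _
  let adj := Scheme.Modules.pullbackPushforwardAdjunction π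
  refine ⟨(Scheme.Modules.pullback π).mapBiproduct (fun _ : ι => Coh.structureModule X) ≪≫
    biproduct.mapIso (fun _ => PicLoc.pullbackStructureIso π), ?_⟩
  have hl : ∀ i, (Scheme.Modules.pullback π).map (biproduct.ι (fun _ : ι => Coh.structureModule X) i) ≫
      (adj.homEquiv _ _).symm (frPush π c) =
      (PicLoc.pullbackStructureIso π).hom ≫ biproduct.ι (fun _ : ι => Coh.structureModule P) i ≫ mat c := fun i => by
    rw [← adj.homEquiv_naturality_left_symm, frPush, biproduct.ι_desc, adj.homEquiv_naturality_right_symm]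
    rfl
  refine (cancel_epi ((Scheme.Modules.pullback π).mapBiproduct (fun _ : ι => Coh.structureModule X)).inv).1 ?_
  simp only [Iso.trans_hom, Category.assoc, Iso.inv_hom_id_assoc]
  refine biproduct.hom_ext' _ _ fun i => ?_
  rw [Functor.mapBiproduct_inv, biproduct.ι_desc_assoc, biproduct.mapIso_hom, biproduct.ι_map_assoc]
  exact hl i

end Groth.Agent.ASBunLib
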