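import Mathlib

/-!
# `K ⊗_k N = ∏_σ N` for a finite Galois extension and a `K`-module `N`
-/

set_option autoImplicit false
set_option linter.style.haveILetI false

universe u v

open scoped TensorProduct

namespace Groth.Agent.ASBunLib

variable (k K : Type u) [Field k] [Field K] [Algebra k K] [FiniteDimensional k K]
  (N : Type v) [AddCommGroup N] [Module k N] [Module K N] [IsScalarTower k K N]

/-- `c ⊗ s ↦ (σ c • s)_σ`. -/
noncomputable def galTensorMap : K ⊗[k] N →ₗ[k] ((K ≃ₐ[k] K) → N) :=
  TensorProduct.lift
    { toFun := fun c =>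
        { toFun := fun s σ => σ c • s
          map_add' := fun s t => funext fun σ => smul_add _ _ _
          map_smul' := fun a s => funext fun σ => smul_comm (σ c) a s }
      map_add' := fun c d => LinearMap.ext fun s => funext fun σ => by
        show σ (c + d) • s = σ c • s + σ d • s
        rw [map_add, add_smul]
      map_smul' := fun a c => LinearMap.ext fun s => funext fun σ => by
        show σ (a • c) • s = a • σ c • s
        rw [map_smul, smul_assoc] }

theorem galTensorMap_tmul (c : K) (s : N) (σ : K ≃ₐ[k] K) : galTensorMap k K N (c ⊗ₜ s) σ = σ c • s := rfl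

theorem bijective_galTensorMap [IsGalois k K] : Function.Bijective (galTensorMap k K N) := by
  classical
  let b := Module.finBasis k K
  have hcard : Fintype.card (Fin (Module.finrank k K)) = Fintype.card (K ≃ₐ[k] K) := by
    rw [Fintype.card_fin, ← Nat.card_eq_fintype_card, IsGalois.card_aut_eq_finrank]
  let e := Fintype.equivOfCardEq hcard
  let M : Matrix (Fin (Module.finrank k K)) (Fin (Module.finrank k K)) K := fun j i => e j (b i)
  have hM : IsUnit M := by
    rw [← Matrix.linearIndependent_rows_iff_isUnit, Fintype.linearIndependent_iff]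
    intro g hg j
    have h1 : ∀ x : K, ∑ i, g i * e i x = 0 := by
      intro x
      conv_lhs => rw [← b.sum_repr x]
      simp only [map_sum, map_smul, Finset.mul_sum]
      rw [Finset.sum_comm]
      refine Finset.sum_eq_zero fun l _ => ?_
      have h2 := congrFun hg l
      simp only [Finset.sum_apply, Pi.smul_apply, Pi.zero_apply, smul_eq_mul] at h2
      simp only [Algebra.smul_def, mul_left_comm (g _)]
      rw [← Finset.mul_sum]
      exact mul_eq_zero_of_right _ h2
    have hli : LinearIndependent K (fun i : Fin (Module.finrank k K) => ((e i : K ≃ₐ[k] K) : K → K)) :=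
      ((linearIndependent_monoidHom K K).comp (fun σ : K ≃ₐ[k] K => (σ : K →* K))
        (fun σ τ h => AlgEquiv.ext fun x => DFunLike.congr_fun h x)).comp e e.injective
    exact Fintype.linearIndependent_iff.1 hli g (funext fun x => by simpa using h1 x) j
  obtain ⟨M', hM'⟩ := hM.exists_left_inv
  obtain ⟨M'', hM''⟩ := hM.exists_right_inv
  have hMM : M * M' = 1 := by
    have : M' = M'' := by rw [← Matrix.mul_one M', ← hM'', ← Matrix.mul_assoc, hM', Matrix.one_mul]
    rw [this, hM'']
  let E := (TensorProduct.equivFinsuppOfBasisLeft b : K ⊗[k] N ≃ₗ[k] Fin (Module.finrank k K) →₀ N)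
  have key : ∀ (s : Fin (Module.finrank k K) →₀ N) (j), galTensorMap k K N (E.symm s) (e j) = ∑ i, M j i • s i := by
    intro s j
    rw [TensorProduct.equivFinsuppOfBasisLeft_symm_apply, map_finsuppSum, Finsupp.sum_fintype _ _ (fun _ => by simp),
      Finset.sum_apply]
    rfl
  refine ⟨?_, fun y => ?_⟩
  · rw [injective_iff_map_eq_zero]
    intro x hx
    obtain ⟨s, rfl⟩ := E.symm.surjective x
    suffices hs : s = 0 by rw [hs, map_zero]
    refine Finsupp.ext fun i => ?_
    have h1 : ∀ j, ∑ l, M j l • s l = 0 := fun j => by rw [← key, hx]; rfl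
    have h2 : ∑ j, M' i j • ∑ l, M j l • s l = 0 := by simp [h1]
    simp only [Finset.smul_sum, smul_smul] at h2
    rw [Finset.sum_comm] at h2
    simp only [← Finset.sum_smul, ← Matrix.mul_apply, hM', Matrix.one_apply] at h2
    simpa using h2
  · refine ⟨E.symm (Finsupp.equivFunOnFinite.symm fun i => ∑ j, M' i j • y (e j)), funext fun σ => ?_⟩
    obtain ⟨j, rfl⟩ := e.surjective σ
    rw [key]
    simp only [Finsupp.equivFunOnFinite_symm_apply_apply, Finset.smul_sum, smul_smul]
    rw [Finset.sum_comm]
    simp only [← Finset.sum_smul, ← Matrix.mul_apply, hMM, Matrix.one_apply]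
    simp

end Groth.Agent.ASBunLib
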