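import Groth.Agent.ASBunLib.EndOne

/-!
# Multiplicities of indecomposable isotypical modules of inverse or twisted types
-/

noncomputable section

set_option linter.style.haveILetI false
set_option linter.unusedSectionVars false
set_option backward.isDefEq.respectTransparency false
set_option backward.isDefEq.respectTransparency.types false

universe u

open CategoryTheory CategoryTheory.Limits AlgebraicGeometry TopologicalSpace Module

namespace Groth.Agent.ASBunLib

open Groth.Agent

variable {k K : Type u} [Field k] [Field K] [Algebra k K] {X X' : Scheme.{u}}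
  [X.Over (Spec (CommRingCat.of k))] [IsProper (X ↘ Spec (CommRingCat.of k))]
  [X'.Over (Spec (CommRingCat.of K))] [IsProper (X' ↘ Spec (CommRingCat.of K))] [Nonempty ↥X'] {π : X' ⟶ X}
  (h : IsPullback π (X' ↘ Spec (CommRingCat.of K)) (X ↘ Spec (CommRingCat.of k)) (Spec.map (CommRingCat.ofHom (algebraMap k K))))
  (hs : Function.Surjective (Coh.toGlobal (X' ↘ Spec (CommRingCat.of K))))
  {W W' : X.Modules} (hW : FlatMod.IsFinLocFree W) (hWi : CurveKS.Ind W)
  (hW' : FlatMod.IsFinLocFree W') (hW'i : CurveKS.Ind W')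
  {N N' : X'.Modules} (hN : PicF.IsInvertible N) (hN' : PicF.IsInvertible N') {d d' : ℕ}
  (eW : (Scheme.Modules.pullback π).obj W ≅ powM N d) (eW' : (Scheme.Modules.pullback π).obj W' ≅ powM N' d')

include h in
theorem pos_of_ind {E : X.Modules} (hE : Coh.IsCoh E) (hEi : CurveKS.Ind E) {L : X'.Modules} {r : ℕ}
    (e : (Scheme.Modules.pullback π).obj E ≅ powM L r) : 0 < r := by
  haveI := CurveCohLib.isNoetherian_of_proper (k := k) (X := X)
  refine Nat.pos_of_ne_zero fun hr => ?_
  subst hr
  refine hEi.1 ((IsZero.iff_id_eq_zero E).2 ?_)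
  haveI : Module.Finite k (E ⟶ E) := CurveKS.finite_hom k hE hE
  have h0 : Module.finrank k (E ⟶ E) = 0 := by
    rw [← finrank_hom_pullback h hE hE]
    haveI : Subsingleton ((Scheme.Modules.pullback π).obj E ⟶ (Scheme.Modules.pullback π).obj E) :=
      ⟨fun a b => ((isZero_pow (M := L) rfl).of_iso e).eq_of_src a b⟩
    exact Module.finrank_zero_of_subsingleton
  haveI := Module.finrank_zero_iff.1 h0
  exact Subsingleton.elim _ _

include h hs hW hWi hW' hW'i hN hN' eW eW' in
theorem dvd_of_twist {J : X.Modules} (hJ : PicF.IsInvertible J)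
    (eJ : CohB1.tensorMod N ((Scheme.Modules.pullback π).obj J) ≅ N') : d ∣ d' := by
  haveI := CurveCohLib.isNoetherian_of_proper (k := k) (X := X)
  have hWc := CurveDeg.isCoh_of_isFinLocFree hW
  have key := dvd_of_tensor (k := k) (K := K) (M := J) (T := W') h hWc hWi
    (AmpleVan.isCoh_tensor hWc (CurveDeg.isCoh_of_isFinLocFree (H23.PullPush.isFinLocFree_of_isInvertible hJ)))
    (CurveDeg.isCoh_of_isFinLocFree hW') eW (finrank_end_invertible hs hN)
    (m := 1) (P := N') (eJ ≪≫ (nonempty_powM_one N').some.symm) eW' (finrank_end_invertible hs hN')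
  rw [mul_one, mul_comm d' d] at key
  exact Nat.dvd_of_mul_dvd_mul_left (pos_of_ind h hWc hWi eW) key

include h hs hW hWi hW' hW'i hN eW eW' in
theorem dvd_of_inverse (eO : CohB1.tensorMod N N' ≅ Coh.structureModule X') : d ∣ d' := by
  haveI := CurveCohLib.isNoetherian_of_proper (k := k) (X := X)
  have hWc := CurveDeg.isCoh_of_isFinLocFree hW
  have hW'c := CurveDeg.isCoh_of_isFinLocFree hW'
  obtain ⟨c₁⟩ := H23.PicMul.comm N ((Scheme.Modules.pullback π).obj W')
  obtain ⟨c₂⟩ := H23.PicMul.comm N' N
  obtain ⟨t⟩ := nonempty_tensor_powM N' N d'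
  obtain ⟨ι₀⟩ := PicClLib.nonempty_pullback_structureModule π
  have key := dvd_of_tensor (k := k) (K := K) (M := W') (T := Coh.structureModule X) h hWc hWi
    (AmpleVan.isCoh_tensor hWc hW'c)
    (CurveDeg.isCoh_of_isFinLocFree (H23.PullPush.isFinLocFree_of_isInvertible (PicLoc.isInvertible_structureModule X)))
    eW (finrank_end_invertible hs hN) (m := d') (P := Coh.structureModule X')
    (c₁ ≪≫ PicGrp.tensorModIso eW' (Iso.refl N) ≪≫ t ≪≫ Sigma.mapIso (fun _ => c₂ ≪≫ eO))
    (d' := 1) (N' := Coh.structureModule X') (ι₀ ≪≫ (nonempty_powM_one _).some.symm)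
    (finrank_end_invertible hs (PicLoc.isInvertible_structureModule X'))
  rw [one_mul] at key
  exact Nat.dvd_of_mul_dvd_mul_left (pos_of_ind h hWc hWi eW) key

end Groth.Agent.ASBunLib
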