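import Groth.Agent.ASBunLib.FreeMat
import Groth.Agent.ProjUPX.TwistFrame
import Groth.Agent.SBSplit.Chart
import Groth.Agent.InvX.Tensor

/-!
# Matrices with rows proportional to the point, on projective space
-/

noncomputable section

set_option linter.style.haveILetI false
set_option linter.unusedSectionVars false
set_option backward.isDefEq.respectTransparency false
set_option backward.isDefEq.respectTransparency.types false
set_option maxHeartbeats 1000000

universe u

open CategoryTheory CategoryTheory.Limits AlgebraicGeometry TopologicalSpace Opposite HomogeneousLocalization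

namespace Groth.Agent.ASBunLib.RelPn

open Groth.Agent Groth.Agent.AModX

variable (m : ℕ) (K : Type u) [Field K]

/-- Projective space. -/
abbrev Pn : Scheme.{u} := CohB1.ProjSpace m K

variable {m K}

/-- A standard chart. -/
def D (i : Fin (m + 1)) : (Pn m K).Opens :=
  Proj.basicOpen (CohB1.polyGrading m K) (MvPolynomial.X i)

theorem cov_D (z : Pn m K) : ∃ i, z ∈ D (m := m) (K := K) i := SBSplit.exists_mem_basicOpen z

/-- The coordinate ratios. -/
def c (i j : Fin (m + 1)) : Γ(Pn m K, D i) :=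
  (Proj.awayToSection (CohB1.polyGrading m K) (MvPolynomial.X i)).hom (SBSplit.coord i j)

theorem c_self (i : Fin (m + 1)) : c (m := m) (K := K) i i = 1 := by
  show (Proj.awayToSection (CohB1.polyGrading m K) (MvPolynomial.X i)).hom (SBSplit.coord i i) = 1
  rw [show (SBSplit.coord i i : Away (CohB1.polyGrading m K) (MvPolynomial.X i)) = 1 from ?_]
  · exact map_one _
  · apply HomogeneousLocalization.val_injective
    rw [SBSplit.coord, HomogeneousLocalization.Away.val_mk, HomogeneousLocalization.val_one, Localization.mk_eq_mk']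
    simp

theorem nonVan (i : Fin (m + 1)) {V : (Pn m K).Opens} (hV : V ≤ D i) :
    PnCoh.NonVan (𝒜 := CohB1.polyGrading m K) (MvPolynomial.X i : MvPolynomial (Fin (m + 1)) K) V :=
  fun x => hV x.2

/-- The frame of `O(-1)` on a chart. -/
def fe (i : Fin (m + 1)) : Γ(Twist.twistProjSpace m K (-1), D i) :=
  show Twist.sectN (𝒜 := CohB1.polyGrading m K) (-1) (op (D i)) from
    PnCoh.twPow (SBSplit.X_mem i) (-1) (nonVan i le_rfl)

theorem isFrame_fe (i : Fin (m + 1)) : InvX.IsFrame (fe (m := m) (K := K) i) := by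
  intro V hV
  exact PnCoh.trivMap_bijective (SBSplit.X_mem i) (-1) (nonVan i hV)

theorem loc_aux {A : Type u} [CommRing A] (p : Ideal A) [p.IsPrime] (a t : A) (ht : t ∉ p)
    (hle : Submonoid.powers t ≤ Submonoid.comap (RingHom.id A) p.primeCompl) :
    IsLocalization.map (S := Localization.Away t) (Localization.AtPrime p) (RingHom.id A) hle
        (Localization.mk a ⟨t ^ 1, 1, rfl⟩) =
      (Localization.mk a 1 : Localization.AtPrime p) * Localization.mk 1 ⟨t, ht⟩ := by
  rw [Localization.mk_eq_mk' (M := Submonoid.powers t), IsLocalization.map_mk', ← Localization.mk_eq_mk',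
    Localization.mk_mul, Localization.mk_eq_mk_iff, Localization.r_iff_exists]
  exact ⟨1, by simp⟩

theorem c_val (i j : Fin (m + 1)) (x : (D i : (Pn m K).Opens)) :
    ((c i j).1 x).val = (Localization.mk (MvPolynomial.X j) 1 : Twist.Loc (CohB1.polyGrading m K) x.1) *
      Localization.mk 1 ⟨MvPolynomial.X i, x.2⟩ := by
  unfold c
  erw [ProjectiveSpectrum.Proj.awayToSection_apply]
  unfold SBSplit.coord
  rw [Away.val_mk]
  exact loc_aux _ _ _ x.2 _

theorem fe_val (i : Fin (m + 1)) (x : (D i : (Pn m K).Opens)) :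
    ((show Twist.sectN (𝒜 := CohB1.polyGrading m K) (-1) (op (D i)) from fe i).1 x).1 =
      Localization.mk 1 ⟨MvPolynomial.X i, x.2⟩ := by
  refine (PnCoh.twPow_apply (SBSplit.X_mem i) (-1) (nonVan i le_rfl) x).trans ?_
  rw [Localization.mk_eq_mk_iff, Localization.r_iff_exists]
  exact ⟨1, by simp⟩

theorem c_cocycle {a b j : Fin (m + 1)} {W : (Pn m K).Opens} (ha : W ≤ D a) (hb : W ≤ D b) (g : Γ(Pn m K, W))
    (h : res _ hb (fe b) = g • res _ ha (fe a)) : resR hb (c b j) = g * resR ha (c a j) := by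
  refine Subtype.ext (funext fun x => HomogeneousLocalization.val_injective _ ?_)
  have h1 := congrArg (fun t : Γ(Twist.twistProjSpace m K (-1), W) =>
    ((show Twist.sectN (𝒜 := CohB1.polyGrading m K) (-1) (op W) from t).1 x).1) h
  have h2 : (Localization.mk 1 ⟨MvPolynomial.X b, hb x.2⟩ : Twist.Loc (CohB1.polyGrading m K) x.1) =
      (g.1 x).val * Localization.mk 1 ⟨MvPolynomial.X a, ha x.2⟩ :=
    (fe_val b ⟨x.1, hb x.2⟩).symm.trans (h1.trans ((Twist.coe_smul_val (-1) x.1 _ _).trans
      (congrArg ((g.1 x).val * ·) (fe_val a ⟨x.1, ha x.2⟩))))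
  refine (c_val b j ⟨x.1, hb x.2⟩).trans ?_
  refine Eq.trans ?_ ((HomogeneousLocalization.val_mul (g.1 x) ((c a j).1 ⟨x.1, ha x.2⟩)).trans
    (congrArg ((g.1 x).val * ·) (c_val a j ⟨x.1, ha x.2⟩))).symm
  rw [h2]
  ring

variable [HasFiniteBiproducts (Pn m K).Modules]

/-- The image of the frame. -/
def fn (i : Fin (m + 1)) : Γ(fr (Pn m K) (Fin (m + 1)), D i) := (exists_sect (c i)).choose

theorem crd_fn (i j : Fin (m + 1)) : crd (fn (m := m) (K := K) i) j = c i j :=
  (exists_sect (c i)).choose_spec j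

theorem crd_res' {Y : Scheme.{u}} [HasFiniteBiproducts Y.Modules] {β : Type} [Fintype β] {U V : Y.Opens} (h : V ≤ U)
    (x : Γ(fr Y β, U)) (i : β) : crd (res (fr Y β) h x) i = resR h (crd x i) :=
  crd_res h x i

/-- The tautological line. -/
def line : Twist.twistProjSpace m K (-1) ⟶ fr (Pn m K) (Fin (m + 1)) :=
  InvX.ofFrames (ι := ULift.{u} (Fin (m + 1))) (U := fun a => D a.down) (e := fun a => fe a.down)
    (n := fun a => fn a.down) (fun z => (cov_D z).elim fun i hi => ⟨⟨i⟩, hi⟩) (fun a => isFrame_fe a.down)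
    (fun a b W ha hb g hg => crd_ext fun j => by
      rw [crd_smul, crd_res', crd_res', crd_fn, crd_fn]
      exact c_cocycle ha hb g hg)

theorem crd_line (i j : Fin (m + 1)) {W : (Pn m K).Opens} (h : W ≤ D i) (g : Γ(Pn m K, W)) :
    crd (line.app W (g • res _ h (fe i))) j = g * resR h (c i j) := by
  rw [Scheme.Modules.Hom.app_smul, crd_smul, app_res, crd_res']
  unfold line
  erw [InvX.ofFrames_app (ι := ULift.{u} (Fin (m + 1))) (U := fun a => D a.down) (e := fun a => fe a.down)
    (n := fun a => fn a.down) _ _ _ ⟨i⟩]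
  rw [crd_fn]

theorem line_injective {U : (Pn m K).Opens} (x : Γ(Twist.twistProjSpace m K (-1), U))
    (h : line.app U x = 0) : x = 0 := by
  refine eq_of_locally _ _ fun z hz => ?_
  obtain ⟨i, hi⟩ := cov_D z
  refine ⟨U ⊓ D i, inf_le_left, ⟨hz, hi⟩, ?_⟩
  obtain ⟨g, hg⟩ := (isFrame_fe i).exists_coord (inf_le_right : U ⊓ D i ≤ D i) (res _ inf_le_left x)
  have h1 := congrArg (fun t => crd t i) (app_res line (inf_le_left : U ⊓ D i ≤ U) x)
  rw [h, map_zero, hg] at h1
  dsimp only at h1
  rw [crd_line, c_self, map_one, mul_one] at h1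
  rw [hg, map_zero, h1, show crd (0 : Γ(fr (Pn m K) (Fin (m + 1)), U ⊓ D i)) i = 0 from map_zero _, zero_smul]

/-- The constant matrix embedding a row. -/
def rowC (r : Fin (m + 1)) : Fin (m + 1) → Fin (m + 1) × Fin (m + 1) → Γ(Pn m K, ⊤) :=
  fun j p => if p = (r, j) then 1 else 0

/-- The constant matrix reading a row. -/
def rowP (r : Fin (m + 1)) : Fin (m + 1) × Fin (m + 1) → Fin (m + 1) → Γ(Pn m K, ⊤) :=
  fun p j => if p = (r, j) then 1 else 0

/-- The matrices with rows on the tautological line. -/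
def rows : (⨁ fun _ : Fin (m + 1) => Twist.twistProjSpace m K (-1)) ⟶ fr (Pn m K) (Fin (m + 1) × Fin (m + 1)) :=
  biproduct.desc fun r => line ≫ mat (rowC r)

theorem rows_comp (q : Fin (m + 1)) :
    rows (m := m) (K := K) ≫ mat (rowP q) =
      biproduct.π (fun _ : Fin (m + 1) => Twist.twistProjSpace m K (-1)) q ≫ line := by
  classical
  refine biproduct.hom_ext' _ _ fun r => ?_
  rw [rows, biproduct.ι_desc_assoc, Category.assoc, mat_comp_mat]
  by_cases hrq : r = q
  · subst hrq
    rw [biproduct.ι_π_self_assoc,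
      mat_eq_of _ (fun i j : Fin (m + 1) => if i = j then (1 : Γ(Pn m K, ⊤)) else 0) (fun i j => ?_),
      mat_id, Category.comp_id]
    rw [Finset.sum_eq_single (r, i)]
    · simp [rowC, rowP]
    · intro p _ hp
      simp [rowC, hp]
    · simp
  · rw [biproduct.ι_π_ne_assoc _ hrq, zero_comp]
    refine Scheme.Modules.hom_ext _ _ fun U => ?_
    ext x
    refine crd_ext fun j => ?_
    show crd ((mat _).app U (line.app U x)) j = _
    rw [crd_mat, Finset.sum_eq_zero]
    · exact (map_zero _).symm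
    · intro i _
      rw [Finset.sum_eq_zero, map_zero, zero_mul]
      intro p _
      simp only [rowC, rowP]
      split_ifs with h1 h2 <;> simp_all [Prod.ext_iff]

theorem crd_rows {U : (Pn m K).Opens} (x : Γ((⨁ fun _ : Fin (m + 1) => Twist.twistProjSpace m K (-1)), U))
    (q j : Fin (m + 1)) :
    crd (rows.app U x) (q, j) =
      crd (line.app U ((biproduct.π (fun _ : Fin (m + 1) => Twist.twistProjSpace m K (-1)) q).app U x)) j := by
  classical
  have h := congrArg (fun f => crd (f.app U x) j) (rows_comp q)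
  refine Eq.trans ?_ h
  show _ = crd ((mat (rowP q)).app U (rows.app U x)) j
  rw [crd_mat, Finset.sum_eq_single (q, j)]
  · simp [rowP]
  · intro p _ hp
    simp [rowP, hp]
  · simp

theorem eq_zero_of_components {Y : Scheme.{u}} [HasFiniteBiproducts Y.Modules] {β : Type} [Fintype β]
    {T : β → Y.Modules} {U : Y.Opens} (x : Γ((⨁ T), U)) (h : ∀ b, (biproduct.π T b).app U x = 0) : x = 0 := by
  have h1 := congrArg (evalHom x) (biproduct.total (f := T))
  rw [map_sum] at h1
  refine h1.symm.trans (Finset.sum_eq_zero fun b _ => ?_)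
  show (biproduct.ι T b).app U ((biproduct.π T b).app U x) = 0
  rw [h b, map_zero]

instance mono_rows : Mono (rows (m := m) (K := K)) :=
  QCoh.mono_of_app_injective _ fun U => (injective_iff_map_eq_zero _).2 fun x hx =>
    eq_zero_of_components x fun q => line_injective _ (crd_ext fun j => by
      rw [← crd_rows, hx]
      exact (map_zero _).trans (map_zero _).symm)

/-- Finitely many equalities of germs hold nearby. -/
theorem exists_nhd_eq {Y : Scheme.{u}} {W : Y.Opens} {z : Y} (hz : z ∈ W) {β : Type} [Finite β] (a b : β → Γ(Y, W))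
    (h : ∀ t, Y.presheaf.germ W z hz (a t) = Y.presheaf.germ W z hz (b t)) :
    ∃ (W' : Y.Opens) (h' : W' ≤ W), z ∈ W' ∧ ∀ t, resR h' (a t) = resR h' (b t) := by
  classical
  haveI := Fintype.ofFinite β
  have h1 : ∀ t, ∃ (V : Y.Opens) (hV : V ≤ W), z ∈ V ∧ resR hV (a t) = resR hV (b t) := fun t => by
    obtain ⟨V, hzV, i₁, i₂, he⟩ := TopCat.Presheaf.germ_eq Y.presheaf z hz hz _ _ (h t)
    exact ⟨V, i₁.le, hzV, he⟩
  choose V hV hzV hVe using h1
  refine ⟨W ⊓ Finset.univ.inf V, inf_le_left, ⟨hz, ?_⟩, fun t => ?_⟩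
  · have : ∀ s : Finset β, z ∈ s.inf V := fun s => by
      induction s using Finset.induction with
      | empty => simp
      | insert t s _ ih => rw [Finset.inf_insert]; exact ⟨hzV t, ih⟩
    exact this _
  · have hle : W ⊓ Finset.univ.inf V ≤ V t := inf_le_right.trans (Finset.inf_le (Finset.mem_univ t))
    rw [← resR_resR (hV t) hle, hVe t, resR_resR]

/-- A section of a sum of copies of `O(-1)` with given coordinates in a frame. -/
theorem exists_rows (i : Fin (m + 1)) {W : (Pn m K).Opens} (h : W ≤ D i) (g : Fin (m + 1) → Γ(Pn m K, W)) :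
    ∃ w : Γ((⨁ fun _ : Fin (m + 1) => Twist.twistProjSpace m K (-1)), W),
      ∀ q j, crd (rows.app W w) (q, j) = g q * resR h (c i j) := by
  classical
  refine ⟨∑ q, (biproduct.ι (fun _ : Fin (m + 1) => Twist.twistProjSpace m K (-1)) q).app W
    (g q • res _ h (fe i)), fun q j => ?_⟩
  rw [crd_rows, map_sum, Finset.sum_eq_single q]
  · show crd (line.app W ((biproduct.ι (fun _ : Fin (m + 1) => Twist.twistProjSpace m K (-1)) q ≫
      biproduct.π (fun _ : Fin (m + 1) => Twist.twistProjSpace m K (-1)) q).app W _)) j = _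
    rw [biproduct.ι_π_self]
    exact crd_line i j h (g q)
  · intro p _ hp
    show (biproduct.ι (fun _ : Fin (m + 1) => Twist.twistProjSpace m K (-1)) p ≫
      biproduct.π (fun _ : Fin (m + 1) => Twist.twistProjSpace m K (-1)) q).app W _ = _
    rw [biproduct.ι_π_ne _ hp]
    rfl
  · simp

/-- A section whose rows lie on the tautological line dies in the cokernel. -/
theorem cokernel_eq_zero {W : (Pn m K).Opens} (G : Γ(fr (Pn m K) (Fin (m + 1) × Fin (m + 1)), W))
    (H : ∀ (z : Pn m K) (hz : z ∈ W) (i : Fin (m + 1)) (hi : z ∈ D i) (r j : Fin (m + 1)),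
      (Pn m K).presheaf.germ W z hz (crd G (r, j)) =
        (Pn m K).presheaf.germ W z hz (crd G (r, i)) * (Pn m K).presheaf.germ (D i) z hi (c i j)) :
    (cokernel.π rows).app W G = 0 := by
  refine eq_of_locally _ _ fun z hz => ?_
  obtain ⟨i, hi⟩ := cov_D z
  let V := W ⊓ D i
  obtain ⟨W', h', hzW', he⟩ := exists_nhd_eq (W := V) (z := z) ⟨hz, hi⟩
    (fun p : Fin (m + 1) × Fin (m + 1) => resR (inf_le_left : V ≤ W) (crd G p))
    (fun p => resR (inf_le_left : V ≤ W) (crd G (p.1, i)) * resR (inf_le_right : V ≤ D i) (c i p.2))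
    (fun p => by
      rw [map_mul, InvX.germ_resR', InvX.germ_resR', InvX.germ_resR']
      exact H z hz i hi p.1 p.2)
  have hW : W' ≤ W := h'.trans inf_le_left
  have hD : W' ≤ D i := h'.trans inf_le_right
  refine ⟨W', hW, hzW', ?_⟩
  obtain ⟨w, hw⟩ := exists_rows i hD fun q => resR hW (crd G (q, i))
  have hG : res _ hW G = rows.app W' w := crd_ext fun p => by
    have := he p
    rw [map_mul, resR_resR, resR_resR, resR_resR] at this
    rw [crd_res', hw p.1 p.2]
    exact this
  rw [← app_res, hG, map_zero]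
  exact congr(($(cokernel.condition rows)).app W' w)

theorem c_trans {i i' j : Fin (m + 1)} {W : (Pn m K).Opens} (hi : W ≤ D i) (hi' : W ≤ D i') :
    resR hi (c i j) = resR hi (c i i') * resR hi' (c i' j) := by
  refine Subtype.ext (funext fun x => HomogeneousLocalization.val_injective _ ?_)
  refine (c_val i j ⟨x.1, hi x.2⟩).trans ?_
  refine Eq.trans ?_ ((HomogeneousLocalization.val_mul ((c i i').1 ⟨x.1, hi x.2⟩) ((c i' j).1 ⟨x.1, hi' x.2⟩)).trans
    (congrArg₂ (· * ·) (c_val i i' ⟨x.1, hi x.2⟩) (c_val i' j ⟨x.1, hi' x.2⟩))).symm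
  simp only [Localization.mk_mul, one_mul, mul_one]
  rw [Localization.mk_eq_mk_iff, Localization.r_iff_exists]
  exact ⟨1, by simp; ring⟩

theorem fromSpecStalk_eq_away (z : Pn m K) (i : Fin (m + 1)) (hi : z ∈ D i) :
    (Pn m K).fromSpecStalk z =
      Spec.map (Proj.awayToSection (CohB1.polyGrading m K) (MvPolynomial.X i) ≫ (Pn m K).presheaf.germ (D i) z hi) ≫
        Proj.awayι (CohB1.polyGrading m K) (MvPolynomial.X i) (SBSplit.X_mem i) one_pos := by
  rw [Spec.map_comp, Category.assoc, ← Scheme.Opens.fromSpecStalkOfMem_ι (D i) z hi,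
    ← Scheme.Opens.fromSpecStalkOfMem_toSpecΓ (D i) z hi, Category.assoc]
  congr 1
  rw [Proj.awayι]
  show (D i).ι = _
  rw [← Category.assoc (D i).toSpecΓ, ← Category.assoc _ _ (Scheme.Opens.ι _)]
  show _ = ((Proj.basicOpenIsoSpec _ _ (SBSplit.X_mem i) one_pos).hom ≫ (Proj.basicOpenIsoSpec _ _ _ _).inv) ≫ _
  rw [Iso.hom_inv_id, Category.id_comp]
  rfl

theorem fromSpecStalk_eq_pt (z : Pn m K) (i : Fin (m + 1)) (hi : z ∈ D i) [Algebra K ((Pn m K).presheaf.stalk z)]
    (halg : ∀ a : K, algebraMap K ((Pn m K).presheaf.stalk z) a =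
      (Pn m K).presheaf.germ (D i) z hi
        ((Proj.awayToSection (CohB1.polyGrading m K) (MvPolynomial.X i)).hom (SBSplit.constHom i a)))
    (hu : IsUnit ((Pn m K).presheaf.germ (D i) z hi (c i i))) :
    (Pn m K).fromSpecStalk z = SBSplit.pt K (fun j => (Pn m K).presheaf.germ (D i) z hi (c i j)) i hu := by
  let φ : CommRingCat.of (Away (CohB1.polyGrading m K) (MvPolynomial.X i)) ⟶ (Pn m K).presheaf.stalk z :=
    Proj.awayToSection (CohB1.polyGrading m K) (MvPolynomial.X i) ≫ (Pn m K).presheaf.germ (D i) z hi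
  have h1 : (SBSplit.vecHom K (fun j => (Pn m K).presheaf.germ (D i) z hi (c i j)) i hu :
      Away (CohB1.polyGrading m K) (MvPolynomial.X i) →+* (Pn m K).presheaf.stalk z) = φ.hom := by
    refine SBSplit.hom_ext (fun a => (SBSplit.vecHom_const _ i hu a).trans (halg a)) fun l => ?_
    have := SBSplit.vecHom_coord (K := K) (fun j => (Pn m K).presheaf.germ (D i) z hi (c i j)) i hu l
    dsimp only at this
    rw [c_self, map_one, mul_one] at this
    exact this
  show _ = Spec.map (CommRingCat.ofHom (SBSplit.vecHom K _ i hu :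
    Away (CohB1.polyGrading m K) (MvPolynomial.X i) →+* (Pn m K).presheaf.stalk z)) ≫
      Proj.awayι (CohB1.polyGrading m K) (MvPolynomial.X i) (SBSplit.X_mem i) one_pos
  rw [h1]
  exact fromSpecStalk_eq_away z i hi

end Groth.Agent.ASBunLib.RelPn
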