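import Groth.Agent.GrassX.Power
import Groth.Prelude.Def_BrSev2
import Mathlib.LinearAlgebra.Dimension.Free

/-!
# The Severi–Brauer scheme of an algebra exists
-/

noncomputable section

set_option autoImplicit false
set_option linter.style.haveILetI false
set_option backward.isDefEq.respectTransparency false
set_option maxHeartbeats 1000000

universe u

open CategoryTheory CategoryTheory.Limits AlgebraicGeometry TensorProduct

namespace Groth.Agent.ASBunLib.SBExists

open Groth.Agent.GrassX Synt29 Synt29.GrassGraph Synt29.RepOpen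
open Module (Grassmannian)

variable {k : Type u} [Field k] {A : Type u} [Ring A] [Algebra k A] {d c : ℕ} (ε : A ≃ₗ[k] (Fin d → k))
  (b : Module.Basis (Fin d) k A)

/-- Transport of Grassmannian points along the coordinates. -/
def coordMap (R : Type u) [CommRing R] [Algebra k R] (N : Grassmannian R (R ⊗[k] A) c) :
    Grassmannian R (R ⊗[k] (Fin d → k)) c :=
  let E := ε.baseChange k R A (Fin d → k)
  let q : ((R ⊗[k] A) ⧸ N.toSubmodule) ≃ₗ[R] ((R ⊗[k] (Fin d → k)) ⧸ N.toSubmodule.map E.toLinearMap) :=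
    Submodule.Quotient.equiv N.toSubmodule _ E rfl
  { toSubmodule := N.toSubmodule.map E.toLinearMap
    finite_quotient := haveI := N.finite_quotient; Module.Finite.equiv q
    projective_quotient := haveI := N.projective_quotient; Module.Projective.of_equiv q
    rankAtStalk_eq p := by
      haveI := N.finite_quotient
      rw [← congrFun (Module.rankAtStalk_eq_of_equiv q) p]
      exact N.rankAtStalk_eq p }

/-- The inverse transport. -/
def coordInv (R : Type u) [CommRing R] [Algebra k R] (N : Grassmannian R (R ⊗[k] (Fin d → k)) c) :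
    Grassmannian R (R ⊗[k] A) c :=
  let E := (ε.baseChange k R A (Fin d → k)).symm
  let q : ((R ⊗[k] (Fin d → k)) ⧸ N.toSubmodule) ≃ₗ[R] ((R ⊗[k] A) ⧸ N.toSubmodule.map E.toLinearMap) :=
    Submodule.Quotient.equiv N.toSubmodule _ E rfl
  { toSubmodule := N.toSubmodule.map E.toLinearMap
    finite_quotient := haveI := N.finite_quotient; Module.Finite.equiv q
    projective_quotient := haveI := N.projective_quotient; Module.Projective.of_equiv q
    rankAtStalk_eq p := by
      haveI := N.finite_quotient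
      rw [← congrFun (Module.rankAtStalk_eq_of_equiv q) p]
      exact N.rankAtStalk_eq p }

theorem coordInv_coordMap (R : Type u) [CommRing R] [Algebra k R] (N : Grassmannian R (R ⊗[k] A) c) :
    coordInv ε R (coordMap ε R N) = N := by
  ext : 1
  show (N.toSubmodule.map (ε.baseChange k R A (Fin d → k)).toLinearMap).map
    (ε.baseChange k R A (Fin d → k)).symm.toLinearMap = _
  rw [← Submodule.map_comp, ← LinearEquiv.coe_trans, LinearEquiv.self_trans_symm]
  exact Submodule.map_id _

theorem coordMap_coordInv (R : Type u) [CommRing R] [Algebra k R] (N : Grassmannian R (R ⊗[k] (Fin d → k)) c) :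
    coordMap ε R (coordInv ε R N) = N := by
  ext : 1
  show (N.toSubmodule.map (ε.baseChange k R A (Fin d → k)).symm.toLinearMap).map
    (ε.baseChange k R A (Fin d → k)).toLinearMap = _
  rw [← Submodule.map_comp, ← LinearEquiv.coe_trans, LinearEquiv.symm_trans_self]
  exact Submodule.map_id _

theorem coordMap_natural {R S : Type u} [CommRing R] [Algebra k R] [CommRing S] [Algebra k S] (φ : R →ₐ[k] S)
    (N : Grassmannian R (R ⊗[k] A) c) :
    Grassmannian.map φ (coordMap ε R N) = coordMap ε S (Grassmannian.map φ N) := by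
  ext : 1
  show _ = ((Grassmannian.map φ N).toSubmodule).map _
  rw [Desc.map_eq_span φ, Desc.map_eq_span φ N, Submodule.map_span]
  congr 1
  show Desc.ι φ '' (ε.baseChange k R A (Fin d → k) '' (N.toSubmodule : Set _)) = _
  rw [Set.image_image, Set.image_image]
  refine Set.image_congr' fun x => ?_
  induction x with
  | zero => simp
  | tmul a m => rfl
  | add x y hx hy => simp only [map_add, hx, hy]

/-- Left multiplications in coordinates. -/
def mulCoord (i : Fin d) : (Fin d → k) →ₗ[k] (Fin d → k) :=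
  ε.toLinearMap ∘ₗ LinearMap.mulLeft k (b i) ∘ₗ ε.symm.toLinearMap

theorem mulCoord_baseChange (i : Fin d) (R : Type u) [CommRing R] [Algebra k R] (x : R ⊗[k] A) :
    (mulCoord ε b i).baseChange R (ε.baseChange k R A (Fin d → k) x) =
      ε.baseChange k R A (Fin d → k) (((1 : R) ⊗ₜ[k] b i) * x) := by
  induction x with
  | zero => simp
  | tmul a m => simp [mulCoord, Algebra.TensorProduct.tmul_mul_tmul]
  | add x y hx hy => simp only [map_add, mul_add, hx, hy]

theorem isLeftIdeal_iff (R : Type u) [CommRing R] [Algebra k R] (N : Grassmannian R (R ⊗[k] A) c) :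
    (∀ a x : R ⊗[k] A, x ∈ N.toSubmodule → a * x ∈ N.toSubmodule) ↔
      ∀ i, (coordMap ε R N).toSubmodule.map ((mulCoord ε b i).baseChange R) ≤ (coordMap ε R N).toSubmodule := by
  constructor
  · rintro h i _ ⟨_, ⟨x, hx, rfl⟩, rfl⟩
    exact ⟨_, h ((1 : R) ⊗ₜ[k] b i) x hx, (mulCoord_baseChange ε b i R x).symm⟩
  · intro h
    have hb : ∀ i, ∀ x ∈ N.toSubmodule, ((1 : R) ⊗ₜ[k] b i) * x ∈ N.toSubmodule := fun i x hx => by
      obtain ⟨y, hy, hyx⟩ := h i ⟨_, ⟨x, hx, rfl⟩, mulCoord_baseChange ε b i R x⟩
      exact (ε.baseChange k R A (Fin d → k)).injective hyx ▸ hy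
    intro a x hx
    induction a with
    | zero => rw [zero_mul]; exact N.toSubmodule.zero_mem
    | tmul r m =>
      rw [show r ⊗ₜ[k] m = r • ((1 : R) ⊗ₜ[k] m) by rw [smul_tmul', smul_eq_mul, mul_one], smul_mul_assoc]
      refine N.toSubmodule.smul_mem r ?_
      rw [← b.sum_repr m, tmul_sum, Finset.sum_mul]
      refine N.toSubmodule.sum_mem fun i _ => ?_
      rw [tmul_smul, ← algebraMap_smul R (b.repr m i), smul_mul_assoc]
      exact N.toSubmodule.smul_mem _ (hb i x hx)
    | add a a' ha ha' => rw [add_mul]; exact N.toSubmodule.add_mem ha ha'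

variable (k A c)

/-- The Severi–Brauer scheme exists. -/
theorem exists_isSBOf [Module.Finite k A] :
    ∃ (X : Scheme.{u}) (f : X ⟶ Spec (CommRingCat.of k)), BrSev.IsSBOf k A c f := by
  classical
  let b := Module.finBasis k A
  let ε := b.equivFun
  let f := mulCoord ε b
  obtain ⟨T, eT, hT⟩ := exists_grassRep (R := k) (Module.finrank k A) c
  let Good : ∀ (R : CommAlgCat.{u} k), Grassmannian R (R ⊗[k] (Fin (Module.finrank k A) → k)) c → Prop :=
    fun R N => ∀ i, N.toSubmodule.map ((f i).baseChange R) ≤ N.toSubmodule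
  let P : ∀ {R : Type u} [CommRing R], (Spec (CommRingCat.of R) ⟶ T.left) → Prop := fun {R} _ a =>
    ∀ (alg : Algebra k R) (w : a ≫ T.hom = Spec.map (CommRingCat.ofHom (@algebraMap k R _ _ alg))),
      Good (@CommAlgCat.of k _ R _ alg) (eT (@CommAlgCat.of k _ R _ alg) (Over.homMk a w))
  have P_iff : ∀ (R : CommAlgCat.{u} k) (x : sp R ⟶ T), P x.left ↔ Good R (eT R x) := by
    intro R x
    refine ⟨fun h => h R.algebra (Over.w x), fun h alg w => ?_⟩
    obtain rfl : alg = R.algebra := Algebra.algebra_ext _ _ fun z => by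
      exact RingHom.congr_fun (congrArg CommRingCat.Hom.hom (Spec.map_inj.1 (w.symm.trans (Over.w x)))) z
    exact h
  have hP : ∀ {R : Type u} [CommRing R] (a : Spec (CommRingCat.of R) ⟶ T.left), ∃ I : Ideal R, HasI T.left P a I := by
    intro R _ a
    letI algR : Algebra k R := algOf (A := CommRingCat.of R) (a ≫ T.hom)
    let a' : sp (CommAlgCat.of k R) ⟶ T := Over.homMk a (algOf_map (A := CommRingCat.of R) (a ≫ T.hom)).symm
    choose I hI using fun i => exists_ideal_map_le (f i) (eT _ a') (eT _ a')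
    refine ⟨⨆ i, I i, fun C _ φ => ?_⟩
    letI : Algebra k C := (φ.comp (algebraMap k R)).toAlgebra
    let φ' : R →ₐ[k] C := { φ with commutes' := fun _ => rfl }
    rw [show Spec.map (CommRingCat.ofHom φ) ≫ a =
      (spOver (A := CommAlgCat.of k R) (B := CommAlgCat.of k C) (CommAlgCat.ofHom φ') ≫ a').left from rfl]
    refine Iff.trans (P_iff (CommAlgCat.of k C) (spOver (A := CommAlgCat.of k R) (B := CommAlgCat.of k C) (CommAlgCat.ofHom φ') ≫ a')) ?_
    rw [iSup_le_iff]
    refine forall_congr' fun i => ?_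
    rw [hT.isNat]
    exact hI i C φ'
  obtain ⟨Z, j, hj, hfac⟩ := exists_closedImmersion T.left P hP
  haveI := hj
  refine ⟨Z, j ≫ T.hom, ?_⟩
  have toT : ∀ (R : Type u) [CommRing R] [Algebra k R] (g : BrSev.Pts (j ≫ T.hom) R),
      (g.1 ≫ j) ≫ T.hom = Spec.map (CommRingCat.ofHom (algebraMap k R)) := fun R _ _ g =>
    (Category.assoc _ _ _).trans g.2
  let val : ∀ (R : Type u) [CommRing R] [Algebra k R], BrSev.Pts (j ≫ T.hom) R → Grassmannian R (R ⊗[k] A) c :=
    fun R _ _ g => coordInv ε R (eT (CommAlgCat.of k R) (Over.homMk (g.1 ≫ j) (toT R g)))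
  let F : ∀ (R : Type u) [CommRing R] [Algebra k R], BrSev.Pts (j ≫ T.hom) R → BrSev.SBSet k A c R := fun R _ _ g =>
    ⟨val R g, (isLeftIdeal_iff ε b R (val R g)).2 (by
      rw [coordMap_coordInv]
      exact (P_iff (CommAlgCat.of k R) (Over.homMk (g.1 ≫ j) (toT R g))).1 ((hfac R _).1 ⟨g.1, rfl⟩))⟩
  have hF : ∀ (R : Type u) [CommRing R] [Algebra k R], Function.Bijective (F R) := by
    intro R _ _
    constructor
    · intro x y h
      have h1 := congrArg (coordMap ε R) (congrArg Subtype.val h)
      rw [show (F R x).1 = val R x from rfl, show (F R y).1 = val R y from rfl, coordMap_coordInv, coordMap_coordInv] at h1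
      have h2 : x.1 ≫ j = y.1 ≫ j := congrArg CommaMorphism.left ((eT _).injective h1)
      exact Subtype.ext ((cancel_mono j).1 h2)
    · rintro ⟨N, hN⟩
      let p := (eT (CommAlgCat.of k R)).symm (coordMap ε R N)
      obtain ⟨g, hg⟩ := (hfac R p.left).2 ((P_iff (CommAlgCat.of k R) p).2 (by
        rw [Equiv.apply_symm_apply]; exact (isLeftIdeal_iff ε b R N).1 hN))
      have hw : g ≫ j ≫ T.hom = Spec.map (CommRingCat.ofHom (algebraMap k R)) := by
        rw [← Category.assoc, hg]
        exact Over.w p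
      refine ⟨⟨g, hw⟩, Subtype.ext ?_⟩
      show coordInv ε R (eT (CommAlgCat.of k R) (Over.homMk (g ≫ j) _)) = N
      rw [show Over.homMk (U := sp (CommAlgCat.of k R)) (g ≫ j) _ = p from Over.OverMorphism.ext hg,
        Equiv.apply_symm_apply, coordInv_coordMap]
  refine ⟨{ bij := fun R _ _ => Equiv.ofBijective _ (hF R), natural := fun R S _ _ _ _ φ g => ?_ }⟩
  show (val S (BrSev.Pts.map (j ≫ T.hom) φ g)).toSubmodule = (Grassmannian.map φ (val R g)).toSubmodule
  congr 1
  refine (Function.LeftInverse.injective (g := coordInv ε S) (coordInv_coordMap ε S)) ?_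
  rw [coordMap_coordInv, ← coordMap_natural, coordMap_coordInv]
  refine Eq.trans ?_ (hT.isNat (CommAlgCat.of k R) (CommAlgCat.of k S) (CommAlgCat.ofHom φ)
    (Over.homMk (g.1 ≫ j) (toT R g)))
  exact congrArg (eT (CommAlgCat.of k S)) (Over.OverMorphism.ext (Category.assoc _ _ _))

end Groth.Agent.ASBunLib.SBExists
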