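import Groth.Agent.ASBunLib.Pow

/-! Endomorphisms of rank-one isotypical modules. -/

noncomputable section

set_option linter.style.haveILetI false
set_option linter.unusedSectionVars false
set_option backward.isDefEq.respectTransparency false
set_option backward.isDefEq.respectTransparency.types false
set_option maxHeartbeats 1000000

universe u

open CategoryTheory CategoryTheory.Limits AlgebraicGeometry TopologicalSpace Opposite

namespace Groth.Agent.ASBunLib

open Groth.Agent

theorem isIso_of_ne_zero_invertible {K : Type u} [Field K] [IsAlgClosed K] {Y : Scheme.{u}}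
    [Y.Over (Spec (CommRingCat.of K))] [AlgebraicGeometry.IsIntegral Y] [IsProper (Y ↘ Spec (CommRingCat.of K))]
    {L : Y.Modules} (hL : PicF.IsInvertible L) (f : L ⟶ L) (hf : f ≠ 0) : IsIso f := by
  letI := CurveEnd.kAlgebra (k := K) L
  obtain ⟨a, ha⟩ := (InvEnd.exists_scalar (k := K) hL).2 (f : End L)
  have ha0 : a ≠ 0 := fun h0 => hf (ha.symm.trans (by rw [h0, map_zero]))
  exact (isUnit_iff_isIso (f := (f : End L))).1 (ha ▸ (IsUnit.mk0 a ha0).map (algebraMap K (End L)))

variable {k K : Type u} [Field k] [Field K] [Algebra k K] {X X' : Scheme.{u}}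
  [X.Over (Spec (CommRingCat.of k))] [IsProper (X ↘ Spec (CommRingCat.of k))]
  [X'.Over (Spec (CommRingCat.of K))] [IsProper (X' ↘ Spec (CommRingCat.of K))] {π : X' ⟶ X}
  (h : IsPullback π (X' ↘ Spec (CommRingCat.of K)) (X ↘ Spec (CommRingCat.of k)) (Spec.map (CommRingCat.ofHom (algebraMap k K))))

include h in
/-- The identity lies in the two-sided ideal of every nonzero endomorphism. -/
theorem exists_unit_sum {E : X.Modules} (hE : Coh.IsCoh E) {L : X'.Modules}
    (hdiv : ∀ u : L ⟶ L, u ≠ 0 → IsIso u) (r : ℕ)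
    (e : (Scheme.Modules.pullback π).obj E ≅ powM L r) (f : E ⟶ E) (hf : f ≠ 0) :
    ∃ (ι : Type) (s : Finset ι) (x y : ι → (E ⟶ E)), ∑ i ∈ s, x i ≫ f ≫ y i = 𝟙 E := by
  classical
  haveI := CurveCohLib.isNoetherian_of_proper (k := k) (X := X)
  haveI := Abelian.hasFiniteBiproducts (C := X'.Modules)
  haveI : (Scheme.Modules.pullback π).Additive :=
    (Scheme.Modules.pullbackPushforwardAdjunction π).left_adjoint_additive
  obtain ⟨lam, hlam⟩ := LinearMap.exists_leftInverse_of_injective (Algebra.linearMap k K)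
    (LinearMap.ker_eq_bot.2 (algebraMap k K).injective)
  obtain ⟨ρ, hρ, -⟩ := exists_retr (F := E) h hE.1 lam
  have hl1 : lam 1 = 1 := by simpa using LinearMap.congr_fun hlam 1
  have h1 : ∀ g : E ⟶ E, bcHom (X' ↘ Spec (CommRingCat.of K)) π (1 : K) g = (Scheme.Modules.pullback π).map g :=
    fun g => by rw [bcHom, scal_one, Category.comp_id]
  let b := (nonempty_pow_biproduct L r).some
  let B := e ≪≫ b
  let ψ := B.inv ≫ (Scheme.Modules.pullback π).map f ≫ B.hom
  obtain ⟨i, j, hij⟩ : ∃ i j, biproduct.ι (fun _ : Fin r => L) i ≫ ψ ≫ biproduct.π (fun _ : Fin r => L) j ≠ 0 := by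
    by_contra hc
    push Not at hc
    have hψ : ψ = 0 := biproduct.hom_ext' _ _ fun i => biproduct.hom_ext _ _ fun j => by
      rw [Category.assoc, hc i j, comp_zero, zero_comp]
    have hz : (Scheme.Modules.pullback π).map f = 0 := by
      rw [← cancel_epi B.inv, ← cancel_mono B.hom, Category.assoc]
      simpa [ψ] using hψ
    apply hf
    have := congrArg ρ ((h1 f).trans hz)
    rwa [hρ, hl1, scal_one, Category.comp_id, map_zero] at this
  haveI := hdiv _ hij
  let x' : Fin r → ((Scheme.Modules.pullback π).obj E ⟶ (Scheme.Modules.pullback π).obj E) := fun l =>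
    B.hom ≫ biproduct.π (fun _ : Fin r => L) l ≫ biproduct.ι (fun _ : Fin r => L) i ≫ B.inv
  let y' : Fin r → ((Scheme.Modules.pullback π).obj E ⟶ (Scheme.Modules.pullback π).obj E) := fun l =>
    B.hom ≫ biproduct.π (fun _ : Fin r => L) j ≫
      inv (biproduct.ι (fun _ : Fin r => L) i ≫ ψ ≫ biproduct.π (fun _ : Fin r => L) j) ≫
      biproduct.ι (fun _ : Fin r => L) l ≫ B.inv
  have hsum : ∑ l, x' l ≫ (Scheme.Modules.pullback π).map f ≫ y' l = 𝟙 _ := by
    have : ∀ l, x' l ≫ (Scheme.Modules.pullback π).map f ≫ y' l =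
        B.hom ≫ (biproduct.π (fun _ : Fin r => L) l ≫ biproduct.ι (fun _ : Fin r => L) l) ≫ B.inv := fun l => by
      have e1 : biproduct.ι (fun _ : Fin r => L) i ≫ B.inv ≫ (Scheme.Modules.pullback π).map f ≫ B.hom ≫
          biproduct.π (fun _ : Fin r => L) j = biproduct.ι (fun _ : Fin r => L) i ≫ ψ ≫ biproduct.π (fun _ : Fin r => L) j := by
        simp [ψ]
      simp only [x', y', Category.assoc]
      rw [reassoc_of% e1, reassoc_of% (IsIso.hom_inv_id (biproduct.ι (fun _ : Fin r => L) i ≫ ψ ≫ biproduct.π (fun _ : Fin r => L) j))]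
    rw [Finset.sum_congr rfl fun l _ => this l, ← Preadditive.comp_sum, ← Preadditive.sum_comp, biproduct.total]
    simp
  choose nx cx gx hx using fun l => exists_sum h hE.1 hE (x' l)
  choose ny cy gy hy using fun l => exists_sum h hE.1 hE (y' l)
  refine ⟨Σ l : Fin r, Fin (nx l) × Fin (ny l), Finset.univ,
    fun t => gx t.1 t.2.1, fun t => gy t.1 t.2.2 ≫ scal (X ↘ Spec (CommRingCat.of k)) E (lam (cx t.1 t.2.1 * (1 * cy t.1 t.2.2))), ?_⟩
  have h2 : ρ (𝟙 _) = 𝟙 E := by
    rw [← CategoryTheory.Functor.map_id, ← h1, hρ, hl1, scal_one, Category.comp_id]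
  rw [← h2, ← hsum, map_sum, Fintype.sum_sigma]
  refine Finset.sum_congr rfl fun l _ => ?_
  rw [Fintype.sum_prod_type, hx l, Preadditive.sum_comp, map_sum]
  refine Finset.sum_congr rfl fun a _ => ?_
  rw [hy l, Preadditive.comp_sum, Preadditive.comp_sum, map_sum]
  refine Finset.sum_congr rfl fun c _ => ?_
  rw [← h1 f, bcHom_comp, bcHom_comp, hρ]
  simp [Category.assoc]

end Groth.Agent.ASBunLib
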